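import Mathlib.GroupTheory.PGroup
import Mathlib.GroupTheory.Sylow
import Mathlib.GroupTheory.Nilpotent
import Mathlib.GroupTheory.Frattini
import Mathlib.GroupTheory.QuotientGroup.Basic
import Mathlib.GroupTheory.Abelianization.Defs
import Mathlib.Tactic.Group
import Mathlib.RingTheory.Int.Basic

/-!
Basic facts about finite p-groups.
-/

namespace CfsgLib.PGroup

open scoped commutatorElement

variable {G : Type*} [Group G] [Finite G] {p : ℕ} [hp : Fact p.Prime]

/-- A nontrivial normal subgroup of a finite p-group contains a central element of order p. -/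
theorem exists_central_orderOf_eq (hG : IsPGroup p G) (N : Subgroup G) [hN : N.Normal]
    (hne : N ≠ ⊥) : ∃ z ∈ N, z ∈ Subgroup.center G ∧ orderOf z = p := by
  have hnil := hG.isNilpotent
  obtain ⟨n, hn⟩ := hnil.nilpotent
  have hex : ∃ i, N ⊓ Subgroup.upperCentralSeries G i ≠ ⊥ := ⟨n, by rw [hn]; simpa using hne⟩
  classical
  have hi := Nat.find_spec hex
  rcases hk : Nat.find hex with _ | i
  · rw [hk] at hi; simp [Subgroup.upperCentralSeries_zero] at hi
  rw [hk] at hi
  obtain ⟨x, hx, hx1⟩ := (Subgroup.ne_bot_iff_exists_ne_one).1 hi |> fun ⟨⟨x, hx⟩, h⟩ =>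
    (⟨x, hx, fun e => h (Subtype.ext e)⟩ : ∃ x, x ∈ N ⊓ Subgroup.upperCentralSeries G (i + 1) ∧ x ≠ 1)
  have hmin : N ⊓ Subgroup.upperCentralSeries G i = ⊥ := by
    by_contra h
    have := Nat.find_min' hex h
    omega
  have hxc : x ∈ Subgroup.center G := by
    rw [Subgroup.mem_center_iff]
    intro g
    have h1 : x * g * x⁻¹ * g⁻¹ ∈ Subgroup.upperCentralSeries G i :=
      Subgroup.mem_upperCentralSeries_succ_iff.1 hx.2 g
    have h2 : x * g * x⁻¹ * g⁻¹ ∈ N := by
      have := N.mul_mem hx.1 (hN.conj_mem _ (N.inv_mem hx.1) g)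
      simpa [mul_assoc] using this
    have h3 : x * g * x⁻¹ * g⁻¹ = 1 := by
      rw [← Subgroup.mem_bot, ← hmin]; exact ⟨h2, h1⟩
    calc g * x = (x * g * x⁻¹ * g⁻¹)⁻¹ * (x * g) := by group
      _ = x * g := by rw [h3]; group
  have hdvd : p ∣ orderOf x := hG.dvd_orderOf hx1
  refine ⟨x ^ (orderOf x / p), N.pow_mem hx.1 _, Subgroup.pow_mem _ hxc _, ?_⟩
  rw [orderOf_pow_orderOf_div (orderOf_pos x).ne' hdvd]

/-- Between two normal subgroups `A < K` of a finite p-group there is an element which is central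
of order p modulo `A`. -/
theorem exists_step (hG : IsPGroup p G) (A K : Subgroup G) [hA : A.Normal] [hK : K.Normal]
    (hlt : A < K) : ∃ x ∈ K, x ∉ A ∧ x ^ p ∈ A ∧ ∀ g : G, ⁅x, g⁆ ∈ A := by
  have hsurj : Function.Surjective (QuotientGroup.mk' A) := QuotientGroup.mk'_surjective A
  have := hK.map (QuotientGroup.mk' A) hsurj
  have hne : K.map (QuotientGroup.mk' A) ≠ ⊥ := by
    intro h
    rw [Subgroup.map_eq_bot_iff, QuotientGroup.ker_mk'] at h
    exact hlt.not_ge h
  obtain ⟨z, hzK, hzc, hz⟩ := exists_central_orderOf_eq (hG.to_quotient A) _ hne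
  obtain ⟨x, hx, rfl⟩ := Subgroup.mem_map.1 hzK
  refine ⟨x, hx, ?_, ?_, ?_⟩
  · intro h
    rw [QuotientGroup.mk'_apply, (QuotientGroup.eq_one_iff x).2 h, orderOf_one] at hz
    exact hp.out.ne_one hz.symm
  · rw [← QuotientGroup.eq_one_iff, ← QuotientGroup.mk'_apply (N := A), map_pow]
    conv_lhs => rw [← hz]
    exact pow_orderOf_eq_one _
  · intro g
    rw [← QuotientGroup.eq_one_iff, ← QuotientGroup.mk'_apply (N := A), map_commutatorElement,
      commutatorElement_eq_one_iff_mul_comm]
    exact (Subgroup.mem_center_iff.1 hzc _).symm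

omit [Finite G] in
/-- Adjoining an element central modulo a normal subgroup gives a normal subgroup. -/
theorem sup_zpowers_normal {A : Subgroup G} [hA : A.Normal] {x : G}
    (hx : ∀ g : G, ⁅x, g⁆ ∈ A) : (A ⊔ Subgroup.zpowers x).Normal := by
  have hc : ((QuotientGroup.mk' A) x) ∈ Subgroup.center (G ⧸ A) := by
    rw [Subgroup.mem_center_iff]
    intro q
    obtain ⟨g, rfl⟩ := QuotientGroup.mk'_surjective A q
    rw [eq_comm, ← commutatorElement_eq_one_iff_mul_comm, ← map_commutatorElement,
      QuotientGroup.mk'_apply, QuotientGroup.eq_one_iff]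
    exact hx g
  have hn : ((Subgroup.zpowers x).map (QuotientGroup.mk' A)).Normal := by
    refine ⟨fun n hn g => ?_⟩
    have hle : (Subgroup.zpowers x).map (QuotientGroup.mk' A) ≤ Subgroup.center _ := by
      rw [MonoidHom.map_zpowers]; exact Subgroup.zpowers_le.2 hc
    rwa [Subgroup.mem_center_iff.1 (hle hn) g, mul_inv_cancel_right]
  have := hn.comap (QuotientGroup.mk' A)
  rw [Subgroup.comap_map_eq, QuotientGroup.ker_mk', sup_comm] at this
  exact this

omit [Finite G] hp in
theorem card_sup_zpowers {A : Subgroup G} [hA : A.Normal] {x : G}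
    (hxA : x ∉ A) (hpow : x ^ p ∈ A) [Fact p.Prime] :
    Nat.card (A ⊔ Subgroup.zpowers x : Subgroup G) = p * Nat.card A := by
  let f := (QuotientGroup.mk' A).comp (A ⊔ Subgroup.zpowers x : Subgroup G).subtype
  have hker : f.ker = A.subgroupOf _ := by
    rw [← MonoidHom.comap_ker, QuotientGroup.ker_mk']; rfl
  have hrange : f.range = Subgroup.zpowers (QuotientGroup.mk' A x) := by
    rw [MonoidHom.range_comp, Subgroup.range_subtype, Subgroup.map_sup, MonoidHom.map_zpowers]
    simp [QuotientGroup.map_mk'_self]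
  have hord : orderOf (QuotientGroup.mk' A x) = p := by
    apply orderOf_eq_prime
    · rw [← map_pow, QuotientGroup.mk'_apply, QuotientGroup.eq_one_iff]; exact hpow
    · rw [QuotientGroup.mk'_apply, ne_eq, QuotientGroup.eq_one_iff]; exact hxA
  have h := Subgroup.card_eq_card_quotient_mul_card_subgroup f.ker
  rw [Nat.card_congr (QuotientGroup.quotientKerEquivRange f).toEquiv, hrange,
    Nat.card_zpowers, hord, hker,
    Nat.card_congr (Subgroup.subgroupOfEquivOfLe le_sup_left).toEquiv] at h
  exact h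

/-- A nontrivial normal subgroup of a finite p-group has a G-normal subgroup of index p. -/
theorem exists_normal_index_prime (hG : IsPGroup p G) (A : Subgroup G) [A.Normal] (hne : A ≠ ⊥) :
    ∃ (B : Subgroup G) (x : G), B.Normal ∧ B ≤ A ∧ x ∈ A ∧ x ∉ B ∧
      B ⊔ Subgroup.zpowers x = A ∧ Nat.card A = p * Nat.card B ∧ ∀ g : G, ⁅x, g⁆ ∈ B := by
  obtain ⟨B, ⟨hB, hBA⟩, hmax⟩ := (Set.toFinite {B : Subgroup G | B.Normal ∧ B < A}).exists_maximal
    ⟨⊥, inferInstance, hne.bot_lt⟩
  obtain ⟨x, hxA, hxB, hxp, hxc⟩ := exists_step hG B A hBA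
  have hn := sup_zpowers_normal hxc
  have hle : B ⊔ Subgroup.zpowers x ≤ A := sup_le hBA.le (Subgroup.zpowers_le.2 hxA)
  have heq : B ⊔ Subgroup.zpowers x = A := by
    by_contra h
    exact hxB (hmax ⟨hn, lt_of_le_of_ne hle h⟩ le_sup_left
      (Subgroup.mem_sup_right (Subgroup.mem_zpowers x)))
  refine ⟨B, x, hB, hBA.le, hxA, hxB, heq, ?_, hxc⟩
  rw [← heq]; exact card_sup_zpowers hxB hxp

/-- A maximal normal abelian subgroup of a finite p-group is self-centralizing. -/
theorem centralizer_eq_of_maximal_normal_abelian (hG : IsPGroup p G) (A : Subgroup G) [A.Normal]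
    (hA : IsMulCommutative A)
    (hmax : ∀ B : Subgroup G, B.Normal → IsMulCommutative B → A ≤ B → B = A) :
    Subgroup.centralizer (A : Set G) = A := by
  have hle : A ≤ Subgroup.centralizer (A : Set G) := Subgroup.le_centralizer A
  by_contra hne
  obtain ⟨x, hxC, hxA, -, hxc⟩ :=
    exists_step hG A (Subgroup.centralizer (A : Set G)) (lt_of_le_of_ne hle (Ne.symm hne))
  have hn := sup_zpowers_normal hxc
  have hcomm : IsMulCommutative (A ⊔ Subgroup.zpowers x : Subgroup G) := by
    rw [← Subgroup.le_centralizer_iff_isMulCommutative]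
    refine sup_le ?_ ?_
    · rw [Subgroup.le_centralizer_iff]
      exact sup_le hle (Subgroup.zpowers_le.2 hxC)
    · rw [Subgroup.le_centralizer_iff]
      refine sup_le ?_ (Subgroup.le_centralizer _)
      rw [Subgroup.le_centralizer_iff]
      exact Subgroup.zpowers_le.2 hxC
  exact hxA ((hmax _ hn hcomm le_sup_left) ▸ Subgroup.mem_sup_right (Subgroup.mem_zpowers x))

/-- For a normal subgroup `A` of order `p^a` of a finite p-group, the centralizer has index at most
`p^(a(a-1)/2)`. -/
theorem index_centralizer_le (hG : IsPGroup p G) :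
    ∀ (a : ℕ) (A : Subgroup G) [A.Normal], Nat.card A = p ^ a →
      (Subgroup.centralizer (A : Set G)).index ≤ p ^ (a * (a - 1) / 2) := by
  intro a
  induction a with
  | zero =>
    intro A _ hA
    have : A = ⊥ := Subgroup.card_eq_one.1 (by simpa using hA)
    subst this
    have : Subgroup.centralizer ((⊥ : Subgroup G) : Set G) = ⊤ := by
      rw [eq_top_iff, Subgroup.le_centralizer_iff]
      exact bot_le
    rw [this, Subgroup.index_top]
    simp
  | succ a ih =>
    intro A hAn hA
    have hne : A ≠ ⊥ := by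
      intro h
      subst h
      simp only [Subgroup.card_bot] at hA
      exact (Nat.one_lt_pow (Nat.succ_ne_zero a) hp.out.one_lt).ne hA
    obtain ⟨B, t, hBn, hBA, htA, -, hsup, hcard, htc⟩ := exists_normal_index_prime hG A hne
    have hB : Nat.card B = p ^ a := by
      rw [hA, pow_succ'] at hcard
      exact (Nat.eq_of_mul_eq_mul_left hp.out.pos hcard).symm
    have hle : Subgroup.centralizer (A : Set G) ≤ Subgroup.centralizer (B : Set G) :=
      Subgroup.centralizer_le hBA
    have key : (Subgroup.centralizer (A : Set G)).relIndex (Subgroup.centralizer (B : Set G))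
        ≤ Nat.card B := by
      rw [Subgroup.relIndex, Subgroup.index]
      have hmemB : ∀ g : Subgroup.centralizer (B : Set G), ⁅(g : G), t⁆ ∈ B := by
        intro g
        rw [← commutatorElement_inv]
        exact B.inv_mem (htc _)
      refine Nat.card_le_card_of_injective
        (fun q => (⟨⁅((Quotient.out q : Subgroup.centralizer (B : Set G)) : G), t⁆,
          hmemB _⟩ : B)) ?_
      intro q q' h
      simp only [Subtype.mk.injEq] at h
      rw [← Quotient.out_eq q, ← Quotient.out_eq q']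
      apply QuotientGroup.eq.2
      rw [Subgroup.mem_subgroupOf]
      set g := (Quotient.out q : Subgroup.centralizer (B : Set G))
      set g' := (Quotient.out q' : Subgroup.centralizer (B : Set G))
      have hc : ((g⁻¹ * g' : Subgroup.centralizer (B : Set G)) : G) ∈
          Subgroup.centralizer ((B ⊔ Subgroup.zpowers t : Subgroup G) : Set G) := by
        rw [← Subgroup.zpowers_le, Subgroup.le_centralizer_iff, sup_le_iff]
        constructor
        · rw [Subgroup.le_centralizer_iff, Subgroup.zpowers_le]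
          exact SetLike.coe_mem _
        · rw [Subgroup.le_centralizer_iff, Subgroup.zpowers_le, Subgroup.mem_centralizer_iff]
          intro y hy
          have hct : Commute ((g⁻¹ * g' : Subgroup.centralizer (B : Set G)) : G) t := by
            have h' : (g : G) * t * (g : G)⁻¹ = (g' : G) * t * (g' : G)⁻¹ := by
              have := congrArg (· * t) h
              simpa [commutatorElement_def] using this
            show ((g : G)⁻¹ * (g' : G)) * t = t * ((g : G)⁻¹ * (g' : G))
            calc ((g : G)⁻¹ * (g' : G)) * t = (g : G)⁻¹ * ((g' : G) * t * (g' : G)⁻¹) * (g' : G) := by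
                  group
              _ = (g : G)⁻¹ * ((g : G) * t * (g : G)⁻¹) * (g' : G) := by rw [h']
              _ = t * ((g : G)⁻¹ * (g' : G)) := by group
          obtain ⟨k, rfl⟩ := Subgroup.mem_zpowers_iff.1 hy
          exact ((hct.zpow_right k).eq).symm
      rw [hsup] at hc
      exact hc
    calc (Subgroup.centralizer (A : Set G)).index
        = (Subgroup.centralizer (A : Set G)).relIndex (Subgroup.centralizer (B : Set G))
            * (Subgroup.centralizer (B : Set G)).index := (Subgroup.relIndex_mul_index hle).symm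
      _ ≤ p ^ a * p ^ (a * (a - 1) / 2) :=
          Nat.mul_le_mul (key.trans_eq hB) (ih B hB)
      _ = p ^ ((a + 1) * (a + 1 - 1) / 2) := by
          rw [← pow_add]
          congr 1
          rw [Nat.add_sub_cancel]
          rcases a with _ | a
          · rfl
          · rw [Nat.add_sub_cancel]
            have : (a + 1 + 1) * (a + 1) = 2 * (a + 1) + (a + 1) * a := by ring
            rw [this, Nat.mul_add_div two_pos]

omit hp in
/-- If `K` is normal then `[K : H ⊓ K]` divides `[G : H]`. -/
theorem relIndex_dvd_index_normal_right (H K : Subgroup G) [K.Normal] :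
    H.relIndex K ∣ H.index := by
  have h1 := Subgroup.relIndex_mul_relIndex (H ⊓ K) H (H ⊔ K) inf_le_left le_sup_left
  have h2 := Subgroup.relIndex_mul_relIndex (H ⊓ K) K (H ⊔ K) inf_le_right le_sup_right
  rw [← h2, Subgroup.inf_relIndex_left, Subgroup.inf_relIndex_right, Subgroup.relIndex_sup_right,
    mul_comm (H.relIndex K)] at h1
  have h0 : K.relIndex H ≠ 0 := Subgroup.index_ne_zero_of_finite
  rw [← Nat.eq_of_mul_eq_mul_left (Nat.pos_of_ne_zero h0) h1]
  exact Subgroup.relIndex_dvd_index_of_le le_sup_left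

/-- `Φ(G)` of a finite p-group contains all p-th powers. -/
theorem pow_mem_frattini (hG : IsPGroup p G) (x : G) : x ^ p ∈ frattini G := by
  rw [frattini, Order.radical]
  simp only [Subgroup.mem_iInf]
  intro M hM
  have hn := Subgroup.NormalizerCondition.normal_of_coatom M
    (@Group.normalizerCondition_of_isNilpotent _ _ hG.isNilpotent) hM
  obtain ⟨z, -, hzM, hzp, hzc⟩ := exists_step hG M ⊤ hM.lt_top
  have htop : M ⊔ Subgroup.zpowers z = ⊤ :=
    hM.2 _ (lt_of_le_of_ne le_sup_left fun h => hzM (h ▸ Subgroup.mem_sup_right (Subgroup.mem_zpowers z)))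
  have hc := card_sup_zpowers hzM hzp
  rw [htop, Subgroup.card_top, ← Subgroup.card_mul_index M, mul_comm p] at hc
  have := Nat.eq_of_mul_eq_mul_left Nat.card_pos hc
  rw [← this]
  exact M.pow_index_mem x

/-- `Φ(G)` of a finite p-group contains all commutators. -/
theorem commutator_le_frattini (hG : IsPGroup p G) : commutator G ≤ frattini G := by
  rw [frattini, Order.radical]
  refine le_iInf₂ fun M hM => ?_
  have hn := Subgroup.NormalizerCondition.normal_of_coatom M
    (@Group.normalizerCondition_of_isNilpotent _ _ hG.isNilpotent) hM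
  obtain ⟨z, -, hzM, -, hzc⟩ := exists_step hG M ⊤ hM.lt_top
  have htop : M ⊔ Subgroup.zpowers z = ⊤ :=
    hM.2 _ (lt_of_le_of_ne le_sup_left fun h => hzM (h ▸ Subgroup.mem_sup_right (Subgroup.mem_zpowers z)))
  rw [← QuotientGroup.ker_mk' M, ← Subgroup.map_eq_bot_iff, commutator_def,
    Subgroup.map_commutator, ← htop, Subgroup.map_sup, MonoidHom.map_zpowers,
    (Subgroup.map_eq_bot_iff _).2 (QuotientGroup.ker_mk' M).ge, bot_sup_eq,
    Subgroup.commutator_eq_bot_iff_le_centralizer]
  exact Subgroup.le_centralizer _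

omit [Finite G] hp in
theorem frattini_ne_top [Finite G] [Nontrivial G] : frattini G ≠ ⊤ := by
  obtain ⟨M, hM, -⟩ := (eq_top_or_exists_le_coatom (⊥ : Subgroup G)).resolve_left bot_ne_top
  exact fun h => hM.1 (top_unique (h ▸ frattini_le_coatom hM))

/-- A proper subgroup of `H` containing all p-th powers and commutators of `H`. -/
theorem exists_lt_pow_commutator_mem (hG : IsPGroup p G) (H : Subgroup G) (hH : H ≠ ⊥) :
    ∃ M : Subgroup G, M < H ∧ (∀ x ∈ H, x ^ p ∈ M) ∧ ∀ x ∈ H, ∀ y ∈ H, ⁅x, y⁆ ∈ M := by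
  have : Nontrivial H := (Subgroup.nontrivial_iff_ne_bot H).2 hH
  have hne : frattini H ≠ ⊤ := frattini_ne_top
  refine ⟨(frattini H).map H.subtype, ?_, ?_, ?_⟩
  · refine lt_of_le_of_ne (Subgroup.map_subtype_le _) fun h => hne ?_
    rwa [← Subgroup.map_injective H.subtype_injective |>.eq_iff, ← MonoidHom.range_eq_map,
      Subgroup.range_subtype]
  · intro x hx
    exact ⟨(⟨x, hx⟩ : H) ^ p, pow_mem_frattini (hG.to_subgroup H) _, rfl⟩
  · intro x hx y hy
    refine ⟨⁅(⟨x, hx⟩ : H), ⟨y, hy⟩⁆, commutator_le_frattini (hG.to_subgroup H) ?_, rfl⟩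
    rw [commutator_def]
    exact Subgroup.commutator_mem_commutator (Subgroup.mem_top _) (Subgroup.mem_top _)

/-- A normal subgroup of order `p^a` contains normal subgroups of all smaller orders `p^k`. -/
theorem exists_normal_card_le (hG : IsPGroup p G) (k : ℕ) :
    ∀ (a : ℕ) (A : Subgroup G) [A.Normal], Nat.card A = p ^ a → k ≤ a →
      ∃ B : Subgroup G, B.Normal ∧ B ≤ A ∧ Nat.card B = p ^ k := by
  intro a
  induction a with
  | zero =>
    intro A _ hA hk
    exact ⟨A, inferInstance, le_rfl, by rw [hA, Nat.le_zero.1 hk]⟩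
  | succ a ih =>
    intro A _ hA hk
    rcases Nat.lt_or_ge a k with h | h
    · exact ⟨A, inferInstance, le_rfl, by rw [hA]; congr 1; omega⟩
    have hne : A ≠ ⊥ := by
      intro h
      subst h
      simp only [Subgroup.card_bot] at hA
      exact (Nat.one_lt_pow (Nat.succ_ne_zero a) hp.out.one_lt).ne hA
    obtain ⟨B, x, hBn, hBA, -, -, -, hcard, -⟩ := exists_normal_index_prime hG A hne
    rw [hA, pow_succ'] at hcard
    obtain ⟨D, hD, hDB, hDc⟩ := ih B (Nat.eq_of_mul_eq_mul_left hp.out.pos hcard).symm h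
    exact ⟨D, hD, hDB.trans hBA, hDc⟩

/-- If `G / N` is elementary abelian then `Φ(G) ≤ N`. -/
theorem frattini_le_of_elementary {N : Subgroup G} [N.Normal] (hc : ∀ x y : G, ⁅x, y⁆ ∈ N)
    (hpow : ∀ x : G, x ^ p ∈ N) : frattini G ≤ N := by
  intro x hx
  by_contra hxN
  obtain ⟨M, ⟨hNM, hxM⟩, hmax⟩ :=
    (Set.toFinite {M : Subgroup G | N ≤ M ∧ x ∉ M}).exists_maximal ⟨N, le_rfl, hxN⟩
  refine hxM (frattini_le_coatom (K := M) ⟨fun h => hxM (h ▸ Subgroup.mem_top x), fun K hK => ?_⟩ hx)
  have hxK : x ∈ K := by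
    by_contra h
    exact hK.not_ge (hmax ⟨hNM.trans hK.le, h⟩ hK.le)
  rw [eq_top_iff]
  intro y _
  by_cases hy : y ∈ M
  · exact hK.le hy
  have hMn : M.Normal := ⟨fun m hm g => by
    have := M.mul_mem (hNM (hc g m)) hm
    rwa [commutatorElement_def, inv_mul_cancel_right] at this⟩
  have hxy : x ∈ M ⊔ Subgroup.zpowers y := by
    by_contra h
    exact hy (hmax ⟨hNM.trans le_sup_left, h⟩ le_sup_left
      (Subgroup.mem_sup_right (Subgroup.mem_zpowers y)))
  obtain ⟨m, hm, w, hw, hmw⟩ := Subgroup.mem_sup_of_normal_left.1 hxy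
  obtain ⟨k, rfl⟩ := Subgroup.mem_zpowers_iff.1 hw
  have hyk : y ^ k ∈ K := by
    have : y ^ k = m⁻¹ * x := by rw [← hmw, inv_mul_cancel_left]
    rw [this]
    exact K.mul_mem (K.inv_mem (hK.le hm)) hxK
  have hyp : y ^ (p : ℤ) ∈ K := by rw [zpow_natCast]; exact hK.le (hNM (hpow y))
  have hkp : ¬ (p : ℤ) ∣ k := by
    rintro ⟨j, rfl⟩
    apply hxM
    rw [← hmw, zpow_mul, zpow_natCast]
    exact M.mul_mem hm (M.zpow_mem (hNM (hpow y)) j)
  obtain ⟨a, b, hab⟩ := Int.isCoprime_iff_gcd_eq_one.2 (show Int.gcd k p = 1 by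
    have h1 : Int.gcd k p ∣ p := by
      have := Int.gcd_dvd_right k (p : ℤ)
      exact_mod_cast this
    rcases (Nat.dvd_prime hp.out).1 h1 with h | h
    · exact h
    · exact absurd (h ▸ Int.gcd_dvd_left k (p : ℤ)) hkp)
  have : y = (y ^ k) ^ a * (y ^ (p : ℤ)) ^ b := by
    rw [← zpow_mul, ← zpow_mul, ← zpow_add, mul_comm k a, mul_comm (p : ℤ) b, hab, zpow_one]
  rw [this]
  exact K.mul_mem (K.zpow_mem hyk a) (K.zpow_mem hyp b)

end CfsgLib.PGroup
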