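import Cfsg.Agent.Lib.PGroup.PowerMap
import Mathlib.GroupTheory.SpecificGroups.Cyclic
import Mathlib.RingTheory.Coprime.Lemmas
import Mathlib.RingTheory.Int.Basic
import Mathlib.Tactic.LinearCombination

/-!
p-groups of odd order with a cyclic maximal subgroup.
-/

namespace CfsgLib.PGroup

open scoped commutatorElement

variable {G : Type*} [Group G] [Finite G] {p : ℕ} [hp : Fact p.Prime]

omit [Finite G] hp in
theorem one_add_pow_expand (s : ℤ) (n : ℕ) :
    ∃ k : ℤ, (1 + s) ^ n = 1 + n * s + (n.choose 2 : ℤ) * s ^ 2 + k * s ^ 3 := by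
  induction n with
  | zero => exact ⟨0, by simp⟩
  | succ n ih =>
    obtain ⟨k, hk⟩ := ih
    refine ⟨(n.choose 2 : ℤ) + k + k * s, ?_⟩
    rw [pow_succ, hk, Nat.choose_succ_succ' n 1, Nat.choose_one_right]
    push_cast
    ring

/-- For an odd prime `p` dividing `s`: if `p^m ∣ (1+s)^p - 1` then `p^m ∣ p * s`. -/
theorem dvd_of_dvd_one_add_pow_sub (hp2 : p ≠ 2) (m : ℕ) (s : ℤ) (hs : (p : ℤ) ∣ s)
    (h : (p : ℤ) ^ m ∣ (1 + s) ^ p - 1) : (p : ℤ) ^ m ∣ p * s := by
  obtain ⟨k, hk⟩ := one_add_pow_expand s p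
  obtain ⟨j, hj⟩ := hp.out.dvd_choose_self (k := 2) (by norm_num)
    (by have := hp.out.two_le; omega)
  obtain ⟨u, hu⟩ := hs
  have he : (1 + s) ^ p - 1 = (p * s) * (1 + p * ((j : ℤ) * u + k * u * u)) := by
    rw [hk, hj, hu]; push_cast; ring
  rw [he] at h
  refine IsCoprime.dvd_of_dvd_mul_right ?_ h
  exact (IsCoprime.pow_left ⟨-((j : ℤ) * u + k * u * u), 1, by ring⟩)

/-- Structure of a noncyclic p-group of odd order with a cyclic subgroup of index p: the elements of
order dividing p form an elementary abelian subgroup of order `p^2`. -/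
theorem omega_of_cyclic_index_prime (hp2 : p ≠ 2) (hG : IsPGroup p G) (hnc : ¬ IsCyclic G)
    (C : Subgroup G) (hC : IsCyclic C) (hCi : C.index = p) :
    ∃ K : Subgroup G, Nat.card K = p ^ 2 ∧ ∀ x : G, x ∈ K ↔ x ^ p = 1 := by
  obtain ⟨a₀, ha₀⟩ := hC.exists_generator
  set a : G := (a₀ : G) with ha
  have hCz : C = Subgroup.zpowers a := by
    refine le_antisymm (fun x hx => ?_) (Subgroup.zpowers_le.2 a₀.2)
    obtain ⟨k, hk⟩ := Subgroup.mem_zpowers_iff.1 (ha₀ ⟨x, hx⟩)
    exact ⟨k, by simpa [ha] using congrArg Subtype.val hk⟩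
  obtain ⟨m, hm⟩ := IsPGroup.iff_orderOf.1 hG a
  have hcard : Nat.card G = p ^ m * p := by
    rw [← C.card_mul_index, hCi, hCz, Nat.card_zpowers, hm]
  have hCtop : ∀ D : Subgroup G, C ≤ D → D ≠ C → D = ⊤ := by
    intro D hle hne
    have hdvd : D.index ∣ p := hCi ▸ Subgroup.index_dvd_of_le hle
    rcases (Nat.dvd_prime hp.out).1 hdvd with h | h
    · exact Subgroup.index_eq_one.1 h
    · exfalso; apply hne
      refine (Subgroup.eq_of_le_of_card_ge hle ?_).symm
      have h1 := D.card_mul_index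
      rw [h, ← C.card_mul_index, hCi] at h1
      exact (Nat.eq_of_mul_eq_mul_right hp.out.pos h1).le
  have hcoatom : IsCoatom C := by
    refine ⟨fun h => ?_, fun D hD => hCtop D hD.le hD.ne'⟩
    rw [h, Subgroup.index_top] at hCi
    exact hp.out.ne_one hCi.symm
  -- the Frattini subgroup lies in the p-th powers of `C`
  have hnt : ∀ D : Subgroup G, a ∈ D → D ≠ ⊤ → D = C := fun D haD hD => by
    by_contra h
    exact hD (hCtop D (hCz ▸ Subgroup.zpowers_le.2 haD) h)
  have haP : a ∉ frattini G := by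
    intro haF
    apply hnc
    have hCF : C ≤ frattini G := hCz ▸ Subgroup.zpowers_le.2 haF
    obtain ⟨y, hy⟩ : ∃ y, y ∉ C := by
      by_contra h; push Not at h
      exact hcoatom.1 (eq_top_iff.2 fun x _ => h x)
    have : Subgroup.zpowers y = ⊤ := by
      apply frattini_nongenerating
      by_contra h
      have := hnt _ (Subgroup.mem_sup_right haF) h
      exact hy (this ▸ Subgroup.mem_sup_left (Subgroup.mem_zpowers y))
    exact (isCyclic_iff_exists_zpowers_eq_top).2 ⟨y, this⟩
  have hFC : ∀ x ∈ frattini G, ∃ k : ℤ, x = a ^ ((p : ℤ) * k) := by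
    intro x hx
    have hxC : x ∈ C := frattini_le_coatom hcoatom hx
    rw [hCz] at hxC
    obtain ⟨k, hk⟩ := Subgroup.mem_zpowers_iff.1 hxC
    by_cases hd : (p : ℤ) ∣ k
    · obtain ⟨j, hj⟩ := hd; exact ⟨j, by rw [← hk, hj]⟩
    · exfalso; apply haP
      have hco : IsCoprime k ((p : ℤ) ^ m) :=
        IsCoprime.pow_right ((Nat.prime_iff_prime_int.1 hp.out).coprime_iff_not_dvd.2 hd).symm
      obtain ⟨u, v, huv⟩ := hco
      have : a = x ^ u := by
        have ho : a ^ ((p : ℤ) ^ m) = 1 := by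
          rw [← Nat.cast_pow, zpow_natCast, ← hm]; exact pow_orderOf_eq_one a
        conv_lhs => rw [← zpow_one a, ← huv, zpow_add, mul_comm v, zpow_mul a _ v, ho, one_zpow,
          mul_one]
        rw [← hk, ← zpow_mul, mul_comm]
      rw [this]; exact zpow_mem hx _
  have hCn : C.Normal := Subgroup.NormalizerCondition.normal_of_coatom C
    (@Group.normalizerCondition_of_isNilpotent _ _ hG.isNilpotent) hcoatom
  obtain ⟨y, hy⟩ : ∃ y, y ∉ C := by
    by_contra h; push Not at h
    exact hcoatom.1 (eq_top_iff.2 fun x _ => h x)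
  have hgen : Subgroup.zpowers a ⊔ Subgroup.zpowers y = ⊤ := by
    rw [← hCz]
    exact hcoatom.2 _ (lt_of_le_of_ne le_sup_left fun h =>
      hy (h ▸ Subgroup.mem_sup_right (Subgroup.mem_zpowers y)))
  obtain ⟨k₀, hk₀⟩ := hFC ⁅y, a⁆ (commutator_le_frattini hG (commutatorElement_mem_commutator' y a))
  set s : ℤ := p * k₀ with hs
  have hya : y * a * y⁻¹ = a ^ (1 + s) := by
    rw [add_comm, zpow_add, zpow_one, ← hk₀, commutatorElement_def]; group
  have hiter : ∀ n : ℕ, y ^ n * a * (y ^ n)⁻¹ = a ^ ((1 + s) ^ n) := by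
    intro n
    induction n with
    | zero => simp
    | succ n ih =>
      calc y ^ (n + 1) * a * (y ^ (n + 1))⁻¹ = y * (y ^ n * a * (y ^ n)⁻¹) * y⁻¹ := by
            simp only [pow_succ', mul_inv_rev, mul_assoc]
        _ = y * a ^ ((1 + s) ^ n) * y⁻¹ := by rw [ih]
        _ = (a ^ (1 + s)) ^ ((1 + s) ^ n) := by rw [← hya, conj_zpow]
        _ = a ^ ((1 + s) ^ (n + 1)) := by rw [← zpow_mul, pow_succ']
  have hypC : y ^ p ∈ C := hCi ▸ C.pow_index_mem y
  have hdvd : (p : ℤ) ^ m ∣ p * s := by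
    refine dvd_of_dvd_one_add_pow_sub hp2 m s (dvd_mul_right _ _) ?_
    have : a ^ ((1 + s) ^ p - 1) = 1 := by
      rw [zpow_sub, zpow_one, ← hiter p]
      rw [hCz] at hypC
      obtain ⟨j, hj⟩ := Subgroup.mem_zpowers_iff.1 hypC
      rw [← hj, ((Commute.refl a).zpow_left j).eq]
      group
    have := orderOf_dvd_iff_zpow_eq_one.2 this
    rwa [hm, Nat.cast_pow] at this
  set c := ⁅y, a⁆ with hcdef
  have hcp : c ^ p = 1 := by
    rw [hk₀, ← zpow_natCast, ← zpow_mul, ← orderOf_dvd_iff_zpow_eq_one, hm, Nat.cast_pow, mul_comm s]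
    exact hdvd
  have hcZ : c ∈ Subgroup.center G := by
    have : Subgroup.zpowers a ⊔ Subgroup.zpowers y ≤ Subgroup.centralizer ({c} : Set G) := by
      refine sup_le (Subgroup.zpowers_le.2 ?_) (Subgroup.zpowers_le.2 ?_) <;>
        rw [Subgroup.mem_centralizer_singleton_iff]
      · rw [hk₀]; exact ((Commute.refl a).zpow_right _).eq
      · have h1 : y * c * y⁻¹ = c := by
          rw [hk₀, ← conj_zpow, hya, ← zpow_mul, ← mul_inv_eq_one, ← zpow_neg, ← zpow_add,
            ← orderOf_dvd_iff_zpow_eq_one, hm, Nat.cast_pow]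
          have : (1 + s) * s + -s = p * s * k₀ := by rw [hs]; ring
          rw [this]
          exact hdvd.mul_right _
        exact mul_inv_eq_iff_eq_mul.1 h1
    rw [hgen] at this
    rw [Subgroup.mem_center_iff]
    intro g
    exact Subgroup.mem_centralizer_singleton_iff.1 (this (Subgroup.mem_top g))
  have hcn : (Subgroup.zpowers c).Normal := by
    refine ⟨fun n hn g => ?_⟩
    rw [Subgroup.mem_center_iff.1 (Subgroup.zpowers_le.2 hcZ hn) g, mul_inv_cancel_right]
    exact hn
  have hder : commutator G ≤ Subgroup.zpowers c := by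
    rw [← QuotientGroup.ker_mk' (Subgroup.zpowers c), ← Subgroup.map_eq_bot_iff, commutator_def,
      Subgroup.map_commutator, Subgroup.commutator_eq_bot_iff_le_centralizer, ← hgen,
      Subgroup.map_sup, MonoidHom.map_zpowers, MonoidHom.map_zpowers]
    have hcomm : QuotientGroup.mk' (Subgroup.zpowers c) y * QuotientGroup.mk' _ a
        = QuotientGroup.mk' _ a * QuotientGroup.mk' _ y := by
      rw [← commutatorElement_eq_one_iff_mul_comm, ← map_commutatorElement, QuotientGroup.mk'_apply,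
        QuotientGroup.eq_one_iff]
      exact Subgroup.mem_zpowers c
    refine sup_le ?_ ?_ <;> rw [Subgroup.le_centralizer_iff] <;>
      refine sup_le ?_ ?_ <;>
      first
        | exact Subgroup.le_centralizer _
        | (rw [Subgroup.zpowers_le, Subgroup.mem_centralizer_iff]
           intro w hw
           obtain ⟨j, rfl⟩ := Subgroup.mem_zpowers_iff.1 hw
           first
             | exact (Commute.zpow_left (a := QuotientGroup.mk' _ a) hcomm.symm j).eq
             | exact (Commute.zpow_left (a := QuotientGroup.mk' _ y) hcomm j).eq)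
  have hzc : ∀ w ∈ commutator G, w ∈ Subgroup.center G ∧ w ^ p = 1 := by
    intro w hw
    obtain ⟨j, rfl⟩ := Subgroup.mem_zpowers_iff.1 (hder hw)
    exact ⟨zpow_mem hcZ j, by
      rw [← zpow_natCast, ← zpow_mul, mul_comm, zpow_mul, zpow_natCast, hcp, one_zpow]⟩
  have hmul : ∀ u w : G, (u * w) ^ p = u ^ p * w ^ p := by
    intro u w
    obtain ⟨h1, h2⟩ := hzc _ (commutatorElement_mem_commutator' w u)
    have hone : ∀ g : G, ⁅g, ⁅w, u⁆⁆ = 1 := fun g =>
      commutatorElement_eq_one_iff_mul_comm.2 (Subgroup.mem_center_iff.1 h1 g)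
    exact mul_pow_prime_eq hp.out u w (by rw [hone]; exact one_mem _) (by rw [hone]; exact one_mem _)
      h2 (Or.inl ⟨hp2, hone u, hone w⟩)
  let f : G →* G := MonoidHom.mk' (fun g => g ^ p) hmul
  refine ⟨f.ker, ?_, fun x => Iff.rfl⟩
  have hrange : f.range = Subgroup.zpowers (a ^ p) := by
    refine le_antisymm ?_ (Subgroup.zpowers_le.2 ⟨a, rfl⟩)
    rintro w ⟨g, rfl⟩
    obtain ⟨j, hj⟩ := hFC _ (pow_mem_frattini hG g)
    refine ⟨j, ?_⟩
    show (a ^ p) ^ j = g ^ p
    rw [← zpow_natCast a p, ← zpow_mul]; exact hj.symm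
  have hm0 : m ≠ 0 := by
    intro h
    subst h
    exact hnc (isCyclic_of_prime_card (p := p) (by simpa using hcard))
  have hord : orderOf (a ^ p) = p ^ (m - 1) := by
    rw [orderOf_pow' a hp.out.ne_zero, hm,
      Nat.gcd_eq_right (dvd_pow_self p hm0), ← Nat.pow_div (Nat.one_le_iff_ne_zero.2 hm0) hp.out.pos,
      pow_one]
  have hkey := Subgroup.card_eq_card_quotient_mul_card_subgroup f.ker
  rw [hcard, Nat.card_congr (QuotientGroup.quotientKerEquivRange f).toEquiv, hrange,
    Nat.card_zpowers, hord] at hkey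
  obtain ⟨m', rfl⟩ := Nat.exists_eq_succ_of_ne_zero hm0
  rw [Nat.succ_sub_one, pow_succ, mul_assoc, ← sq] at hkey
  exact (Nat.eq_of_mul_eq_mul_left (Nat.pow_pos hp.out.pos) hkey).symm

/-- A p-group of odd order with at most one subgroup of order p is cyclic. -/
theorem isCyclic_of_unique_order_prime (hp2 : p ≠ 2) (hG : IsPGroup p G)
    (huniq : ∀ x y : G, x ^ p = 1 → x ≠ 1 → y ^ p = 1 → y ∈ Subgroup.zpowers x) : IsCyclic G := by
  suffices h : ∀ H : Subgroup G, IsCyclic H by
    exact isCyclic_of_surjective (Subgroup.topEquiv : (⊤ : Subgroup G) ≃* G).toMonoidHom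
      (MulEquiv.surjective _)
  intro H
  induction H using (wellFounded_lt (α := Subgroup G)).induction with
  | h H ih =>
    by_cases hH : H = ⊥
    · subst hH; infer_instance
    have : Nontrivial H := (Subgroup.nontrivial_iff_ne_bot H).2 hH
    obtain ⟨M, hM, -⟩ := (eq_top_or_exists_le_coatom (⊥ : Subgroup H)).resolve_left bot_ne_top
    have hMn := Subgroup.NormalizerCondition.normal_of_coatom M
      (@Group.normalizerCondition_of_isNilpotent _ _ (hG.to_subgroup H).isNilpotent) hM
    obtain ⟨z, -, hzM, hzp, -⟩ := exists_step (hG.to_subgroup H) M ⊤ hM.lt_top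
    have hidx : M.index = p := by
      have htop : M ⊔ Subgroup.zpowers z = ⊤ := hM.2 _ (lt_of_le_of_ne le_sup_left fun h =>
        hzM (h ▸ Subgroup.mem_sup_right (Subgroup.mem_zpowers z)))
      have hc := card_sup_zpowers hzM hzp
      rw [htop, Subgroup.card_top, ← Subgroup.card_mul_index M, mul_comm p] at hc
      exact Nat.eq_of_mul_eq_mul_left Nat.card_pos hc
    have hMcyc : IsCyclic M := by
      have := ih (M.map H.subtype) (lt_of_le_of_ne (Subgroup.map_subtype_le M) fun h => hM.1 (by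
        rwa [← (Subgroup.map_injective H.subtype_injective).eq_iff, ← MonoidHom.range_eq_map,
          Subgroup.range_subtype]))
      exact isCyclic_of_surjective (M.equivMapOfInjective _ H.subtype_injective).symm.toMonoidHom
        (MulEquiv.surjective _)
    by_contra hnc
    obtain ⟨K, hK, hKm⟩ := omega_of_cyclic_index_prime hp2 (hG.to_subgroup H) hnc M hMcyc hidx
    have hKne : K ≠ ⊥ := by
      intro h; rw [h, Subgroup.card_bot] at hK
      exact (Nat.one_lt_pow two_ne_zero hp.out.one_lt).ne hK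
    obtain ⟨x, hx, hx1⟩ := (Subgroup.bot_or_exists_ne_one K).resolve_left hKne
    have hxp : (x : G) ^ p = 1 := by rw [← Subgroup.coe_pow, (hKm x).1 hx, Subgroup.coe_one]
    have hle : K.map H.subtype ≤ Subgroup.zpowers (x : G) := by
      rintro _ ⟨w, hw, rfl⟩
      exact huniq _ _ hxp (fun h => hx1 (Subtype.ext h))
        (by rw [Subgroup.coe_subtype, ← Subgroup.coe_pow, (hKm w).1 hw, Subgroup.coe_one])
    have h2 := Subgroup.card_le_of_le hle
    rw [Nat.card_congr (K.equivMapOfInjective _ H.subtype_injective).toEquiv.symm, hK,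
      Nat.card_zpowers] at h2
    have h3 : orderOf (x : G) ≤ p := Nat.le_of_dvd hp.out.pos (orderOf_dvd_of_pow_eq_one hxp)
    have := hp.out.two_le
    nlinarith

end CfsgLib.PGroup
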