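import Mathlib
import Cfsg.Prelude.Def_PLocal
import Cfsg.Agent.Lib.FGStruct.Commutators

/-!
Polynomial sequences with respect to a filtration (Lazard, Leibman) and the Hall–Petrescu argument:
`(a b)^n = a^n b^n ∏ cᵢ^(n choose i)` with `cᵢ` in the `i`-th term of the lower central series.
As a consequence a finite `p`-group of class `< p` is regular.
-/

open Subgroup
open scoped commutatorElement

namespace CfsgLib.PGroup

variable {G : Type*} [Group G]

/-- The forward difference of a sequence in a group. -/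
def seqDiff (f : ℕ → G) : ℕ → G := fun n => (f n)⁻¹ * f (n + 1)

/-- A filtration `G = F 0 ≥ F 1 ≥ ⋯` with `⁅F i, F j⁆ ≤ F (i + j)` which ends in `⊥`. -/
structure CentralFiltration (G : Type*) [Group G] where
  toFun : ℕ → Subgroup G
  anti : Antitone toFun
  comm : ∀ i j, ⁅toFun i, toFun j⁆ ≤ toFun (i + j)
  len : ℕ
  len_eq : toFun len = ⊥

namespace CentralFiltration

variable (F : CentralFiltration G)

/-- Polynomial sequences of level `i`. -/
def IsPoly (i : ℕ) (f : ℕ → G) : Prop := ∀ k n, seqDiff^[k] f n ∈ F.toFun (i + k)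

theorem isPoly_iff (i : ℕ) (f : ℕ → G) :
    F.IsPoly i f ↔ (∀ n, f n ∈ F.toFun i) ∧ F.IsPoly (i + 1) (seqDiff f) := by
  constructor
  · intro h
    refine ⟨fun n => h 0 n, fun k n => ?_⟩
    have := h (k + 1) n
    rwa [Function.iterate_succ_apply, show i + (k + 1) = i + 1 + k by omega] at this
  · rintro ⟨h0, h1⟩ (_ | k) n
    · exact h0 n
    · have := h1 k n
      rwa [show i + 1 + k = i + (k + 1) by omega, ← Function.iterate_succ_apply seqDiff] at this

theorem IsPoly.val {i : ℕ} {f : ℕ → G} (h : F.IsPoly i f) (n : ℕ) : f n ∈ F.toFun i := h 0 n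

theorem IsPoly.mono {i j : ℕ} {f : ℕ → G} (h : F.IsPoly i f) (hij : j ≤ i) : F.IsPoly j f :=
  fun k n => F.anti (by omega) (h k n)

theorem IsPoly.shift {i : ℕ} {f : ℕ → G} (h : F.IsPoly i f) : F.IsPoly i (fun n => f (n + 1)) := by
  have e : ∀ k, seqDiff^[k] (fun n => f (n + 1)) = fun n => seqDiff^[k] f (n + 1) := by
    intro k
    induction k with
    | zero => rfl
    | succ k ih => rw [Function.iterate_succ_apply', Function.iterate_succ_apply', ih]; rfl
  intro k n
  rw [e k]; exact h k (n + 1)

theorem eq_bot_of_len_le {i : ℕ} (h : F.len ≤ i) : F.toFun i = ⊥ :=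
  le_bot_iff.1 (F.len_eq ▸ F.anti h)

theorem seqDiff_iterate_one (k : ℕ) : seqDiff^[k] (fun _ => (1 : G)) = fun _ => 1 := by
  induction k with
  | zero => rfl
  | succ k ih => rw [Function.iterate_succ_apply', ih]; funext n; simp [seqDiff]

theorem isPoly_one (i : ℕ) : F.IsPoly i (fun _ => (1 : G)) := fun k n => by
  rw [seqDiff_iterate_one]; exact one_mem _

theorem isPoly_const (i : ℕ) {c : G} (hc : c ∈ F.toFun i) : F.IsPoly i (fun _ => c) := by
  rw [isPoly_iff]
  refine ⟨fun _ => hc, ?_⟩
  have : seqDiff (fun _ => c) = fun _ => (1 : G) := funext fun n => inv_mul_cancel c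
  rw [this]; exact F.isPoly_one _

theorem isPoly_choose {c : G} :
    ∀ (i l : ℕ), c ∈ F.toFun (l + i) → F.IsPoly l (fun n => c ^ n.choose i) := by
  intro i
  induction i with
  | zero => intro l hc; simpa using F.isPoly_const l hc
  | succ i ih =>
    intro l hc
    rw [isPoly_iff]
    refine ⟨fun n => pow_mem (F.anti (by omega) hc) _, ?_⟩
    have : seqDiff (fun n => c ^ n.choose (i + 1)) = fun n => c ^ n.choose i := by
      funext n
      simp only [seqDiff]
      rw [Nat.choose_succ_succ', add_comm (n.choose i), pow_add, inv_mul_cancel_left]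
    rw [this]
    exact ih (l + 1) (by rwa [show l + 1 + i = l + (i + 1) by omega])

section

variable [Finite G]

/-- Closure of polynomial sequences above level `m`. -/
def ClosedAbove (m : ℕ) : Prop :=
  (∀ i, m ≤ i → ∀ f g : ℕ → G, F.IsPoly i f → F.IsPoly i g → F.IsPoly i (fun n => f n * g n)) ∧
  (∀ i, m ≤ i → ∀ f : ℕ → G, F.IsPoly i f → F.IsPoly i (fun n => (f n)⁻¹)) ∧
  (∀ i j, m ≤ i + j → ∀ f g : ℕ → G, F.IsPoly i f → F.IsPoly j g → F.IsPoly (i + j) (fun n => ⁅f n, g n⁆))

theorem closedAbove : ∀ m, F.ClosedAbove m := by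
  suffices key : ∀ d m, F.len ≤ m + d → F.ClosedAbove m from fun m => key F.len m (Nat.le_add_left _ _)
  intro d
  induction d with
  | zero =>
    intro m hm
    have triv : ∀ i, m ≤ i → ∀ f, F.IsPoly i f → f = fun _ => (1 : G) := fun i hi f hf => funext fun n => by
      have := hf.val F n
      rwa [F.eq_bot_of_len_le (by omega), Subgroup.mem_bot] at this
    refine ⟨fun i hi f g hf hg => ?_, fun i hi f hf => ?_, fun i j hij f g hf hg => ?_⟩
    · rw [triv i hi f hf, triv i hi g hg]; simpa using F.isPoly_one i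
    · rw [triv i hi f hf]; simpa using F.isPoly_one i
    · have : (fun n => ⁅f n, g n⁆) = fun _ => (1 : G) := funext fun n => by
        have := F.comm i j (commutator_mem_commutator (hf.val F n) (hg.val F n))
        rwa [F.eq_bot_of_len_le (by omega), Subgroup.mem_bot] at this
      rw [this]; exact F.isPoly_one _
  | succ d ih =>
    intro m hm
    obtain ⟨IA, II, IB⟩ := ih (m + 1) (by omega)
    -- conjugation by a sequence of any level
    have conj : ∀ l, m + 1 ≤ l → ∀ (t : ℕ) (u z : ℕ → G), F.IsPoly t u → F.IsPoly l z →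
        F.IsPoly l (fun n => u n * z n * (u n)⁻¹) := by
      intro l hl t u z hu hz
      have := IA l hl _ _ ((IB t l (by omega) u z hu hz).mono F (Nat.le_add_left _ _)) hz
      simpa [commutatorElement_def] using this
    have conj' : ∀ l, m + 1 ≤ l → ∀ (t : ℕ) (u z : ℕ → G), F.IsPoly t u → F.IsPoly l z →
        F.IsPoly l (fun n => (u n)⁻¹ * z n * u n) := by
      intro l hl t u z hu hz
      have hpow : ∀ e : ℕ, F.IsPoly l (fun n => u n ^ e * z n * (u n ^ e)⁻¹) := by
        intro e
        induction e with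
        | zero => simpa using hz
        | succ e he =>
          have := conj l hl t u _ hu he
          simpa [pow_succ', mul_assoc] using this
      obtain ⟨e, he⟩ : ∃ e, ∀ x : G, x ^ e = x⁻¹ := ⟨Nat.card G - 1, fun x => by
        rw [eq_inv_iff_mul_eq_one, ← pow_succ, Nat.sub_add_cancel (Nat.card_pos (α := G)), pow_card_eq_one']⟩
      simpa [he] using hpow e
    refine ⟨fun i hi f g hf hg => ?_, fun i hi f hf => ?_, fun i j hij f g hf hg => ?_⟩
    · obtain ⟨hf0, hf1⟩ := (F.isPoly_iff i f).1 hf
      obtain ⟨hg0, hg1⟩ := (F.isPoly_iff i g).1 hg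
      refine (F.isPoly_iff i _).2 ⟨fun n => mul_mem (hf0 n) (hg0 n), ?_⟩
      have e : seqDiff (fun n => f n * g n) = fun n => (g n)⁻¹ * seqDiff f n * g n * seqDiff g n := by
        funext n; simp only [seqDiff]; group
      rw [e]
      exact IA _ (by omega) _ _ (conj' _ (by omega) i g _ hg hf1) hg1
    · obtain ⟨hf0, hf1⟩ := (F.isPoly_iff i f).1 hf
      refine (F.isPoly_iff i _).2 ⟨fun n => inv_mem (hf0 n), ?_⟩
      have e : seqDiff (fun n => (f n)⁻¹) = fun n => f n * (seqDiff f n)⁻¹ * (f n)⁻¹ := by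
        funext n; simp only [seqDiff]; group
      rw [e]
      exact conj _ (by omega) i f _ hf (II _ (by omega) _ hf1)
    · obtain ⟨-, hf1⟩ := (F.isPoly_iff i f).1 hf
      obtain ⟨-, hg1⟩ := (F.isPoly_iff j g).1 hg
      refine (F.isPoly_iff _ _).2 ⟨fun n => F.comm i j (commutator_mem_commutator (hf.val F n) (hg.val F n)), ?_⟩
      have e : seqDiff (fun n => ⁅f n, g n⁆) = fun n =>
          g n * (f n * ((g n)⁻¹ * ⁅seqDiff f n, g (n + 1)⁆ * g n) * (f n)⁻¹) * (g n)⁻¹ *
            (g n * ⁅f n, seqDiff g n⁆ * (g n)⁻¹) := by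
        funext n; simp only [seqDiff, commutatorElement_def]; group
      have hX : F.IsPoly (i + j + 1) (fun n => ⁅seqDiff f n, g (n + 1)⁆) := by
        have := IB (i + 1) j (by omega) _ _ hf1 (hg.shift F)
        rwa [show i + 1 + j = i + j + 1 by omega] at this
      have hY : F.IsPoly (i + j + 1) (fun n => ⁅f n, seqDiff g n⁆) := IB i (j + 1) (by omega) _ _ hf hg1
      have h1 := conj' _ (by omega : m + 1 ≤ i + j + 1) j g _ hg hX
      have h2 := conj _ (by omega : m + 1 ≤ i + j + 1) i f _ hf h1
      have h3 := conj _ (by omega : m + 1 ≤ i + j + 1) j g _ hg h2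
      rw [e]
      exact IA _ (by omega) _ _ h3 (conj _ (by omega) j g _ hg hY)

theorem IsPoly.mul {f g : ℕ → G} {i : ℕ} (hf : F.IsPoly i f) (hg : F.IsPoly i g) :
    F.IsPoly i (fun n => f n * g n) := (F.closedAbove 0).1 i (Nat.zero_le _) f g hf hg

theorem IsPoly.inv {f : ℕ → G} {i : ℕ} (hf : F.IsPoly i f) : F.IsPoly i (fun n => (f n)⁻¹) :=
  (F.closedAbove 0).2.1 i (Nat.zero_le _) f hf

end

/-- A polynomial vanishing at `0, …, i - 1` takes at `i` a value in level `l + i`. -/
theorem IsPoly.val_at_first {i : ℕ} : ∀ {l : ℕ} {h : ℕ → G}, F.IsPoly l h → (∀ n < i, h n = 1) →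
    h i ∈ F.toFun (l + i) := by
  induction i with
  | zero => intro l h hh _; exact hh.val F 0
  | succ i ih =>
    intro l h hh hv
    have h1 := ih ((F.isPoly_iff l h).1 hh).2 fun n hn => by
      simp [seqDiff, hv n (by omega), hv (n + 1) (by omega)]
    rw [seqDiff, hv i (by omega), inv_one, one_mul] at h1
    rwa [show l + 1 + i = l + (i + 1) by omega] at h1

/-- A polynomial with trivial `d`-th difference vanishing at `0, …, d - 1` is trivial. -/
theorem IsPoly.eq_one {d : ℕ} : ∀ {l : ℕ} {h : ℕ → G}, F.IsPoly l h → F.toFun (l + d) = ⊥ →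
    (∀ n < d, h n = 1) → ∀ n, h n = 1 := by
  induction d with
  | zero =>
    intro l h hh hbot _ n
    have := hh.val F n
    rw [add_zero] at hbot
    rwa [hbot, Subgroup.mem_bot] at this
  | succ d ih =>
    intro l h hh hbot hv n
    have h1 : ∀ n, seqDiff h n = 1 := ih ((F.isPoly_iff l h).1 hh).2
      (by rwa [show l + 1 + d = l + (d + 1) by omega]) fun m hm => by
      simp [seqDiff, hv m (by omega), hv (m + 1) (by omega)]
    induction n with
    | zero => exact hv 0 (by omega)
    | succ n hn =>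
      have := h1 n
      rwa [seqDiff, hn, inv_one, one_mul] at this

end CentralFiltration

/-- The lower central series shifted by one is a filtration. -/
def lcsFiltration (G : Type*) [Group G] (c : ℕ) (hc : (⊤ : Subgroup G).lowerCentralSeries c = ⊥) :
    CentralFiltration G where
  toFun i := (⊤ : Subgroup G).lowerCentralSeries (i - 1)
  anti := fun i j h => Subgroup.lowerCentralSeries_antitone ⊤ (by omega)
  comm := fun i j => (CfsgLib.FGStruct.commutator_lcs_le ⊤ _ _).trans
    (Subgroup.lowerCentralSeries_antitone ⊤ (by omega))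
  len := c + 1
  len_eq := hc

theorem map_lcs {H : Type*} [Group H] (f : G →* H) (S : Subgroup G) (n : ℕ) :
    (S.lowerCentralSeries n).map f = (S.map f).lowerCentralSeries n := by
  induction n with
  | zero => rfl
  | succ n ih => rw [Subgroup.lowerCentralSeries_succ, Subgroup.lowerCentralSeries_succ, map_commutator, ih]

theorem lcs_mono {S T : Subgroup G} (h : S ≤ T) (n : ℕ) : S.lowerCentralSeries n ≤ T.lowerCentralSeries n := by
  induction n with
  | zero => exact h
  | succ n ih => rw [Subgroup.lowerCentralSeries_succ, Subgroup.lowerCentralSeries_succ]; exact commutator_mono ih h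

theorem lcs_top_subgroup_eq_bot (H : Subgroup G) {c : ℕ} (hc : (⊤ : Subgroup G).lowerCentralSeries c = ⊥) :
    (⊤ : Subgroup H).lowerCentralSeries c = ⊥ := by
  apply Subgroup.map_injective H.subtype_injective
  rw [map_lcs, Subgroup.map_bot, eq_bot_iff]
  exact (lcs_mono le_top c).trans hc.le

/-- Hall–Petrescu, in the form used for regularity. -/
theorem mul_pow_prime_pow_of_class_lt [Finite G] {p : ℕ} [hp : Fact p.Prime]
    (hcl : (⊤ : Subgroup G).lowerCentralSeries (p - 1) = ⊥) (a b : G) (k : ℕ) :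
    (a ^ p ^ k * b ^ p ^ k)⁻¹ * (a * b) ^ p ^ k ∈ Cfsg.powerClosure p k (commutator G) := by
  let F := lcsFiltration G (p - 1) hcl
  have h2 := hp.out.two_le
  set N := p ^ k with hN
  have hpow : ∀ x : G, F.IsPoly 0 (fun n => x ^ n) := fun x => by
    have := F.isPoly_choose (c := x) 1 0 (Subgroup.mem_top x)
    simpa using this
  let f : ℕ → G := fun n => (a ^ n * b ^ n)⁻¹ * (a * b) ^ n
  have hf : F.IsPoly 0 f := (((hpow a).mul F (hpow b)).inv F).mul F (hpow (a * b))
  have key : ∀ r, r ≤ p → ∃ h : ℕ → G, F.IsPoly 0 h ∧ (∀ n < r, h n = 1) ∧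
      f N * (h N)⁻¹ ∈ Cfsg.powerClosure p k (commutator G) := by
    intro r
    induction r with
    | zero => intro _; exact ⟨f, hf, fun n hn => absurd hn (Nat.not_lt_zero n), by simp [one_mem]⟩
    | succ r ih =>
      intro hr
      rcases Nat.lt_or_ge r 2 with hlt | hge
      · refine ⟨f, hf, fun n hn => ?_, by simp [one_mem]⟩
        obtain rfl | rfl : n = 0 ∨ n = 1 := by omega
        · simp [f]
        · simp [f]
      obtain ⟨h, hh, hv, hmem⟩ := ih (by omega)
      have hc : h r ∈ F.toFun (0 + r) := hh.val_at_first F hv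
      refine ⟨fun n => (h r ^ n.choose r)⁻¹ * h n, ((F.isPoly_choose r 0 hc).inv F).mul F hh, fun n hn => ?_, ?_⟩
      · rcases Nat.lt_or_ge n r with hnr | hnr
        · simp [hv n hnr, Nat.choose_eq_zero_of_lt hnr]
        · obtain rfl : n = r := by omega
          simp
      · have hdvd : p ^ k ∣ N.choose r := by
          rcases Nat.lt_or_ge N r with hNr | hNr
          · rw [Nat.choose_eq_zero_of_lt hNr]; exact dvd_zero _
          · have h1 := Nat.choose_mul_succ_eq (N - 1) (r - 1)
            have h3 : N.choose r * r = N * (N - 1).choose (r - 1) := by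
              obtain ⟨N', hN'⟩ : ∃ N', N = N' + 1 := ⟨N - 1, by omega⟩
              obtain ⟨r', rfl⟩ : ∃ r', r = r' + 1 := ⟨r - 1, by omega⟩
              rw [hN', Nat.add_sub_cancel, Nat.add_sub_cancel]
              exact (Nat.add_one_mul_choose_eq N' r').symm
            have hcop : Nat.Coprime (p ^ k) r := Nat.Coprime.pow_left _
              ((hp.out.coprime_iff_not_dvd).2 fun hd => by
                have := Nat.le_of_dvd (by omega) hd; omega)
            exact hcop.dvd_of_dvd_mul_right ⟨_, h3⟩
        obtain ⟨t, ht⟩ := hdvd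
        have hcD : h r ∈ commutator G := by
          have hc' : h r ∈ (⊤ : Subgroup G).lowerCentralSeries (0 + r - 1) := hc
          rw [← Subgroup.top_lowerCentralSeries_one]
          exact Subgroup.lowerCentralSeries_antitone _ (by omega) hc'
        have hc2 : h r ^ N.choose r ∈ Cfsg.powerClosure p k (commutator G) :=
          Subgroup.subset_closure ⟨h r ^ t, pow_mem hcD t, by rw [← pow_mul, mul_comm, ← ht]⟩
        have := mul_mem hmem hc2
        simpa [mul_assoc] using this
  obtain ⟨h, hh, hv, hmem⟩ := key p le_rfl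
  have hbot : F.toFun (0 + p) = ⊥ := by
    show (⊤ : Subgroup G).lowerCentralSeries (0 + p - 1) = ⊥
    rw [zero_add]; exact hcl
  rw [hh.eq_one F hbot hv N, inv_one, mul_one] at hmem
  exact hmem

/-- A finite `p`-group of class less than `p` is regular. -/
theorem isRegularPGroup_of_class_lt [Finite G] {p : ℕ} [Fact p.Prime] (hG : IsPGroup p G)
    (hcl : (⊤ : Subgroup G).lowerCentralSeries (p - 1) = ⊥) : Cfsg.IsRegularPGroup p G := by
  refine ⟨hG, fun a b n => ?_⟩
  set H := closure ({a, b} : Set G)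
  have ha : a ∈ H := Subgroup.subset_closure (by simp)
  have hb : b ∈ H := Subgroup.subset_closure (by simp)
  refine ⟨(a ^ p ^ n * b ^ p ^ n)⁻¹ * (a * b) ^ p ^ n, ?_, by group⟩
  have hmem := Subgroup.mem_map_of_mem H.subtype
    (mul_pow_prime_pow_of_class_lt (lcs_top_subgroup_eq_bot H hcl) (⟨a, ha⟩ : H) ⟨b, hb⟩ n)
  revert hmem
  suffices hle : (Cfsg.powerClosure p n (commutator H)).map H.subtype ≤ Cfsg.powerClosure p n ⁅H, H⁆ from
    fun hmem => by simpa using hle hmem
  rw [Cfsg.powerClosure, MonoidHom.map_closure, Subgroup.closure_le]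
  rintro _ ⟨_, ⟨x, hx, rfl⟩, rfl⟩
  refine Subgroup.subset_closure ⟨x, ?_, by simp⟩
  rw [← Subgroup.map_subtype_commutator]
  exact Subgroup.mem_map_of_mem _ hx

end CfsgLib.PGroup
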