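import Cfsg.Agent.Lib.PGroup.Basic
import Mathlib.Data.Nat.Choose.Dvd
import Mathlib.Data.ZMod.Basic
import Mathlib.Tactic.Group
import Mathlib.Tactic.Ring

/-!
Power maps in groups of class at most three.
-/

namespace CfsgLib.PGroup

open scoped commutatorElement

variable {G : Type*} [Group G]

/-- `∑_{k<n} k^2`. -/
def sqSum : ℕ → ℕ
  | 0 => 0
  | n + 1 => sqSum n + n * n

/-- `∑_{k<n} (k choose 2)`. -/
def choose2Sum : ℕ → ℕ
  | 0 => 0
  | n + 1 => choose2Sum n + n.choose 2

theorem six_mul_sqSum (n : ℕ) : 6 * sqSum n + 3 * n * n = n * (2 * n * n + 1) := by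
  induction n with
  | zero => simp [sqSum]
  | succ n ih =>
    simp only [sqSum]
    calc 6 * (sqSum n + n * n) + 3 * (n + 1) * (n + 1)
        = (6 * sqSum n + 3 * n * n) + (6 * n * n + 6 * n + 3) := by ring
      _ = n * (2 * n * n + 1) + (6 * n * n + 6 * n + 3) := by rw [ih]
      _ = _ := by ring

theorem choose2Sum_eq (n : ℕ) : choose2Sum n = n.choose 3 := by
  induction n with
  | zero => rfl
  | succ n ih => simp only [choose2Sum]; rw [ih, Nat.choose_succ_succ' n 2]; ring

theorem dvd_sqSum {p : ℕ} (hp : p.Prime) (h3 : 3 < p) : p ∣ sqSum p := by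
  have h := six_mul_sqSum p
  have h1 : p ∣ 6 * sqSum p := by
    have : p ∣ 6 * sqSum p + 3 * p * p := h ▸ dvd_mul_right p _
    exact (Nat.dvd_add_left (dvd_mul_left p _)).1 this
  refine (hp.dvd_mul.1 h1).resolve_left ?_
  intro h6
  have := Nat.le_of_dvd (by norm_num) h6
  interval_cases p <;> first | exact absurd h6 (by decide) | exact absurd hp (by decide)

/-- Collection formula: in a group where `[y,x,x]` and `[y,x,y]` are central. -/
theorem mul_pow_collect (x y : G) (u v : G) (hu : u ∈ Subgroup.center G)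
    (hv : v ∈ Subgroup.center G) (hxc : x * ⁅y, x⁆ = u * (⁅y, x⁆ * x))
    (hyc : y * ⁅y, x⁆ = v * (⁅y, x⁆ * y)) (n : ℕ) :
    (x * y) ^ n = ⁅y, x⁆ ^ n.choose 2 * u ^ sqSum n * v ^ choose2Sum n * (x ^ n * y ^ n) := by
  set c := ⁅y, x⁆ with hc
  have cu : ∀ (k : ℕ) (g : G), g * u ^ k = u ^ k * g := fun k g =>
    Subgroup.mem_center_iff.1 (Subgroup.pow_mem _ hu k) g
  have cv : ∀ (k : ℕ) (g : G), g * v ^ k = v ^ k * g := fun k g =>
    Subgroup.mem_center_iff.1 (Subgroup.pow_mem _ hv k) g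
  have hyx : y * x = c * (x * y) := by
    rw [hc, commutatorElement_def]; group
  -- moving powers of c
  have hyck : ∀ k : ℕ, y * c ^ k = v ^ k * (c ^ k * y) := by
    intro k
    induction k with
    | zero => simp
    | succ k ih =>
      calc y * c ^ (k + 1) = (y * c ^ k) * c := by rw [pow_succ, mul_assoc]
        _ = v ^ k * (c ^ k * (y * c)) := by rw [ih]; simp only [mul_assoc]
        _ = v ^ k * ((c ^ k * v) * (c * y)) := by rw [hyc]; simp only [mul_assoc]
        _ = v ^ k * ((v * c ^ k) * (c * y)) := by rw [Subgroup.mem_center_iff.1 hv (c ^ k)]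
        _ = v ^ (k + 1) * (c ^ (k + 1) * y) := by simp only [pow_succ, mul_assoc]
  have hxck : ∀ k : ℕ, x * c ^ k = u ^ k * (c ^ k * x) := by
    intro k
    induction k with
    | zero => simp
    | succ k ih =>
      calc x * c ^ (k + 1) = (x * c ^ k) * c := by rw [pow_succ, mul_assoc]
        _ = u ^ k * (c ^ k * (x * c)) := by rw [ih]; simp only [mul_assoc]
        _ = u ^ k * ((c ^ k * u) * (c * x)) := by rw [hxc]; simp only [mul_assoc]
        _ = u ^ k * ((u * c ^ k) * (c * x)) := by rw [Subgroup.mem_center_iff.1 hu (c ^ k)]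
        _ = u ^ (k + 1) * (c ^ (k + 1) * x) := by simp only [pow_succ, mul_assoc]
  have hxmck : ∀ m k : ℕ, x ^ m * c ^ k = u ^ (m * k) * (c ^ k * x ^ m) := by
    intro m
    induction m with
    | zero => simp
    | succ m ih =>
      intro k
      calc x ^ (m + 1) * c ^ k = x * (x ^ m * c ^ k) := by rw [pow_succ', mul_assoc]
        _ = (x * u ^ (m * k)) * (c ^ k * x ^ m) := by rw [ih, mul_assoc]
        _ = (u ^ (m * k) * x) * (c ^ k * x ^ m) := by rw [cu]
        _ = u ^ (m * k) * ((x * c ^ k) * x ^ m) := by simp only [mul_assoc]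
        _ = u ^ (m * k) * ((u ^ k * (c ^ k * x)) * x ^ m) := by rw [hxck]
        _ = u ^ ((m + 1) * k) * (c ^ k * x ^ (m + 1)) := by
          rw [add_mul, one_mul, pow_add, pow_succ' x m]; simp only [mul_assoc]
  have hyn : ∀ m : ℕ, y ^ m * x = v ^ m.choose 2 * (c ^ m * (x * y ^ m)) := by
    intro m
    induction m with
    | zero => simp
    | succ m ih =>
      calc y ^ (m + 1) * x = y * (y ^ m * x) := by rw [pow_succ', mul_assoc]
        _ = (y * v ^ m.choose 2) * (c ^ m * (x * y ^ m)) := by rw [ih, mul_assoc]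
        _ = (v ^ m.choose 2 * y) * (c ^ m * (x * y ^ m)) := by rw [cv]
        _ = v ^ m.choose 2 * ((y * c ^ m) * (x * y ^ m)) := by simp only [mul_assoc]
        _ = v ^ m.choose 2 * ((v ^ m * (c ^ m * y)) * (x * y ^ m)) := by rw [hyck]
        _ = v ^ m.choose 2 * v ^ m * (c ^ m * ((y * x) * y ^ m)) := by simp only [mul_assoc]
        _ = v ^ m.choose 2 * v ^ m * (c ^ m * ((c * (x * y)) * y ^ m)) := by rw [hyx]
        _ = v ^ (m + 1).choose 2 * (c ^ (m + 1) * (x * y ^ (m + 1))) := by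
          rw [Nat.choose_succ_succ' m 1, Nat.choose_one_right, pow_add v, pow_succ c, pow_succ' y,
            ← pow_add v, ← pow_add v, add_comm m]
          simp only [mul_assoc]
  induction n with
  | zero => simp [sqSum, choose2Sum]
  | succ n ih =>
    calc (x * y) ^ (n + 1)
        = c ^ n.choose 2 * u ^ sqSum n * v ^ choose2Sum n * (x ^ n * ((y ^ n * x) * y)) := by
          rw [pow_succ, ih]; simp only [mul_assoc]
      _ = c ^ n.choose 2 * u ^ sqSum n * v ^ choose2Sum n *
            ((x ^ n * v ^ n.choose 2) * (c ^ n * (x * (y ^ n * y)))) := by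
          rw [hyn]; simp only [mul_assoc]
      _ = c ^ n.choose 2 * u ^ sqSum n * v ^ choose2Sum n * v ^ n.choose 2 *
            ((x ^ n * c ^ n) * (x * (y ^ n * y))) := by
          rw [cv (n.choose 2) (x ^ n)]; simp only [mul_assoc]
      _ = c ^ n.choose 2 * u ^ sqSum n * (v ^ choose2Sum n * v ^ n.choose 2) * u ^ (n * n) *
            (c ^ n * (x ^ (n + 1) * y ^ (n + 1))) := by
          rw [hxmck, pow_succ x, pow_succ y]; simp only [mul_assoc]
      _ = c ^ n.choose 2 * ((u ^ sqSum n * u ^ (n * n)) * (v ^ choose2Sum n * v ^ n.choose 2)) *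
            (c ^ n * (x ^ (n + 1) * y ^ (n + 1))) := by
          rw [mul_assoc (c ^ n.choose 2 * u ^ sqSum n), cu (n * n) (v ^ choose2Sum n * v ^ n.choose 2)]
          simp only [mul_assoc]
      _ = _ := by
          rw [← pow_add, ← pow_add]
          have hz : ∀ g : G, g * (u ^ (sqSum n + n * n) * v ^ (choose2Sum n + n.choose 2))
              = (u ^ (sqSum n + n * n) * v ^ (choose2Sum n + n.choose 2)) * g := fun g =>
            Subgroup.mem_center_iff.1 (mul_mem (Subgroup.pow_mem _ hu _) (Subgroup.pow_mem _ hv _)) g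
          simp only [sqSum, choose2Sum]
          rw [Nat.choose_succ_succ' n 1, Nat.choose_one_right, add_comm n (n.choose 2), pow_add c]
          calc c ^ n.choose 2 * (u ^ (sqSum n + n * n) * v ^ (choose2Sum n + n.choose 2)) *
                (c ^ n * (x ^ (n + 1) * y ^ (n + 1)))
              = c ^ n.choose 2 * (((u ^ (sqSum n + n * n) * v ^ (choose2Sum n + n.choose 2)) * c ^ n)
                  * (x ^ (n + 1) * y ^ (n + 1))) := by simp only [mul_assoc]
            _ = _ := by rw [← hz]; simp only [mul_assoc]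

/-- Elements `c` of the centre-of-quotient: power identities in class three. -/
theorem mul_pow_prime_eq {p : ℕ} (hp : p.Prime) (x y : G)
    (hu : ⁅x, ⁅y, x⁆⁆ ∈ Subgroup.center G) (hv : ⁅y, ⁅y, x⁆⁆ ∈ Subgroup.center G)
    (hc : ⁅y, x⁆ ^ p = 1) (h : (p ≠ 2 ∧ ⁅x, ⁅y, x⁆⁆ = 1 ∧ ⁅y, ⁅y, x⁆⁆ = 1) ∨
      (3 < p ∧ ⁅x, ⁅y, x⁆⁆ ^ p = 1 ∧ ⁅y, ⁅y, x⁆⁆ ^ p = 1)) :
    (x * y) ^ p = x ^ p * y ^ p := by
  have key := mul_pow_collect x y _ _ hu hv (by rw [commutatorElement_def x ⁅y, x⁆]; group)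
    (by rw [commutatorElement_def y ⁅y, x⁆]; group) p
  have hp2 : p ≠ 2 := by rcases h with h | h <;> omega
  have h1 : ⁅y, x⁆ ^ p.choose 2 = 1 := by
    obtain ⟨k, hk⟩ := hp.dvd_choose_self (k := 2) (by norm_num) (by have := hp.two_le; omega)
    rw [hk, pow_mul, hc, one_pow]
  rcases h with ⟨-, h2, h3⟩ | ⟨h3p, h2, h3⟩
  · rw [key, h1, h2, h3]; simp
  · obtain ⟨k, hk⟩ := dvd_sqSum hp h3p
    obtain ⟨j, hj⟩ := hp.dvd_choose_self (k := 3) (by norm_num) h3p
    rw [key, h1, choose2Sum_eq, hk, hj, pow_mul, pow_mul, h2, h3]; simp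

/-- If `⁅b, a⁆` commutes with `b`, then `⁅b ^ n, a⁆ = ⁅b, a⁆ ^ n`. -/
theorem commutator_pow_left (b a : G) (h : Commute b ⁅b, a⁆) (n : ℕ) :
    ⁅b ^ n, a⁆ = ⁅b, a⁆ ^ n := by
  induction n with
  | zero => simp
  | succ n ih =>
    have hb : Commute b (⁅b, a⁆ ^ n) := h.pow_right n
    calc ⁅b ^ (n + 1), a⁆ = b * ⁅b ^ n, a⁆ * b⁻¹ * ⁅b, a⁆ := by
          simp only [commutatorElement_def, pow_succ', mul_inv_rev]; group
      _ = ⁅b, a⁆ ^ (n + 1) := by rw [ih, hb.eq, mul_inv_cancel_right, pow_succ]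

theorem commutatorElement_mem_commutator' (a b : G) : ⁅a, b⁆ ∈ commutator G := by
  rw [commutator_def]
  exact Subgroup.commutator_mem_commutator (Subgroup.mem_top a) (Subgroup.mem_top b)

theorem commutator_central_of_bot {H : Subgroup G} (h : ⁅H, (⊤ : Subgroup G)⁆ = ⊥) :
    H ≤ Subgroup.center G := by
  rw [Subgroup.commutator_eq_bot_iff_le_centralizer] at h
  simpa [Subgroup.coe_top, Subgroup.centralizer_univ] using h

/-- In a group of class at most 3 (at most 2 for `p = 3`), products of elements of order dividing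
`p` have order dividing `p`. -/
theorem mul_pow_eq_one {p : ℕ} (hp : p.Prime)
    (h3 : ∀ c ∈ commutator G, ∀ g : G, ⁅c, g⁆ ∈ Subgroup.center G)
    (h : (p ≠ 2 ∧ commutator G ≤ Subgroup.center G) ∨ 3 < p)
    (x y : G) (hx : x ^ p = 1) (hy : y ^ p = 1) : (x * y) ^ p = 1 := by
  have hp2 : p ≠ 2 := by rcases h with h | h <;> omega
  have hcg : ∀ g : G, ∀ c ∈ commutator G, ⁅g, c⁆ ∈ Subgroup.center G := fun g c hc => by
    rw [← commutatorElement_inv]; exact inv_mem (h3 c hc g)
  -- the commutator has order dividing p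
  have hc : ⁅y, x⁆ ^ p = 1 := by
    set b := x * y⁻¹ * x⁻¹ with hb
    have hyb : ⁅y, x⁆ = y * b := by rw [hb, commutatorElement_def]; group
    have hbp : b ^ p = 1 := by rw [hb, conj_pow, inv_pow, hy]; simp
    have hz : ⁅b, y⁆ ∈ Subgroup.center G := by
      have : ⁅b, y⁆ = ⁅⁅x, y⁻¹⁆, y⁆ := by
        rw [hb]; simp only [commutatorElement_def]; group
      rw [this]
      exact h3 _ (commutatorElement_mem_commutator' _ _) _
    have hzp : ⁅b, y⁆ ^ p = 1 := by
      rw [← commutator_pow_left b y (Subgroup.mem_center_iff.1 hz b) p, hbp,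
        commutatorElement_one_left]
    have h1 : ∀ g : G, ⁅g, ⁅b, y⁆⁆ = 1 := fun g =>
      commutatorElement_eq_one_iff_mul_comm.2 (Subgroup.mem_center_iff.1 hz g)
    rw [hyb, mul_pow_prime_eq hp y b (by rw [h1]; exact one_mem _) (by rw [h1]; exact one_mem _)
      hzp (Or.inl ⟨hp2, h1 _, h1 _⟩), hy, hbp, one_mul]
  have hu := hcg x _ (commutatorElement_mem_commutator' y x)
  have hv := hcg y _ (commutatorElement_mem_commutator' y x)
  rw [mul_pow_prime_eq hp x y hu hv hc ?_, hx, hy, one_mul]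
  rcases h with ⟨-, h⟩ | h
  · refine Or.inl ⟨hp2, ?_, ?_⟩ <;>
      exact commutatorElement_eq_one_iff_mul_comm.2
        (Subgroup.mem_center_iff.1 (h (commutatorElement_mem_commutator' y x)) _)
  · refine Or.inr ⟨h, ?_, ?_⟩
    · rw [← commutator_pow_left x _ (Subgroup.mem_center_iff.1 hu x) p, hx,
        commutatorElement_one_left]
    · rw [← commutator_pow_left y _ (Subgroup.mem_center_iff.1 hv y) p, hy,
        commutatorElement_one_left]

theorem pow_eq_one_of_mem_closure {p : ℕ} (hp : p.Prime)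
    (h3 : ∀ c ∈ commutator G, ∀ g : G, ⁅c, g⁆ ∈ Subgroup.center G)
    (h : (p ≠ 2 ∧ commutator G ≤ Subgroup.center G) ∨ 3 < p)
    {g : G} (hg : g ∈ Subgroup.closure {x : G | x ^ p = 1}) : g ^ p = 1 := by
  induction hg using Subgroup.closure_induction with
  | mem x hx => exact hx
  | one => simp
  | mul x y _ _ hx hy => exact mul_pow_eq_one hp h3 h x y hx hy
  | inv x _ hx => rw [inv_pow, hx, inv_one]

end CfsgLib.PGroup
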