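import Cfsg.Agent.Lib.PGroup.RegularPower
import Cfsg.Agent.Lib.PGroup.HallPetrescu
import Cfsg.Agent.S0128
import Cfsg.Prelude.Def_OddOrderLocal

/-!
Huppert's criterion: for `p > 3`, small `Ω₁` forces metacyclic.
-/

set_option autoImplicit false

open Subgroup
open scoped commutatorElement

namespace CfsgLib.PGroup

universe u

/-- All subgroups of exponent dividing `p` have order at most `p²`. -/
def ExpBound (p : ℕ) (R : Type*) [Group R] : Prop :=
  ∀ E : Subgroup R, (∀ x ∈ E, x ^ p = 1) → Nat.card E ≤ p ^ 2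

variable {R : Type u} [Group R] [Finite R] {p : ℕ} [hp : Fact p.Prime]

/-- The lower central series of a finite nilpotent group drops strictly. -/
theorem lcs_eq_bot_of_card_le (hR : IsPGroup p R) :
    ∀ (e i : ℕ), Nat.card ((⊤ : Subgroup R).lowerCentralSeries i) ≤ p ^ e →
      (⊤ : Subgroup R).lowerCentralSeries (i + e) = ⊥ := by
  intro e
  induction e with
  | zero =>
    intro i h
    rw [pow_zero] at h
    exact eq_bot_of_card_le _ h
  | succ e ih =>
    intro i h
    set L := (⊤ : Subgroup R).lowerCentralSeries i with hL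
    by_cases hbot : L = ⊥
    · exact le_bot_iff.1 (hbot ▸ Subgroup.lowerCentralSeries_antitone _ (Nat.le_add_right i _))
    rw [show i + (e + 1) = i + 1 + e by omega]
    refine ih (i + 1) ?_
    set M := (⊤ : Subgroup R).lowerCentralSeries (i + 1) with hM
    have hle : M ≤ L := Subgroup.lowerCentralSeries_antitone _ (Nat.le_succ i)
    have hne : M ≠ L := by
      intro heq
      have hstab : ∀ j, (⊤ : Subgroup R).lowerCentralSeries (i + j) = L := by
        intro j
        induction j with
        | zero => rfl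
        | succ j ihj =>
          rw [← add_assoc, Subgroup.lowerCentralSeries_succ, ihj, hL, ← Subgroup.lowerCentralSeries_succ, ← hM, heq]
      obtain ⟨n, hn⟩ := Subgroup.nilpotent_iff_lowerCentralSeries.1 hR.isNilpotent
      refine hbot (le_bot_iff.1 ?_)
      rw [← hn, ← hstab n]
      exact Subgroup.lowerCentralSeries_antitone _ (Nat.le_add_left n i)
    obtain ⟨l, hl⟩ := IsPGroup.iff_card.1 (hR.to_subgroup L)
    obtain ⟨k, hk⟩ := IsPGroup.iff_card.1 (hR.to_subgroup M)
    rw [hl] at h
    rw [hk]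
    have hlt : Nat.card M < Nat.card L :=
      lt_of_le_of_ne (card_le_of_le hle) fun h' => hne (eq_of_le_of_card_ge hle h'.ge)
    rw [hk, hl, Nat.pow_lt_pow_iff_right hp.out.one_lt] at hlt
    rw [Nat.pow_le_pow_iff_right hp.out.one_lt] at h
    exact Nat.pow_le_pow_right hp.out.pos (by omega)

theorem expBound_of_mulEquiv {S : Type*} [Group S] [Finite S] (e : R ≃* S) (h : ExpBound p R) :
    ExpBound p S := fun E hE => by
  rw [← Nat.card_congr ((E.equivMapOfInjective e.symm.toMonoidHom e.symm.injective)).toEquiv.symm]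
  refine h _ ?_
  rintro _ ⟨x, hx, rfl⟩
  rw [← map_pow, hE x hx, map_one]

theorem expBound_quotient_central (h3 : 3 < p) (hR : IsPGroup p R) (h : ExpBound p R) (Z : Subgroup R)
    [Z.Normal] (hZ : Nat.card Z = p) : ExpBound p (R ⧸ Z) := by
  intro E hE
  by_contra hlt
  push Not at hlt
  obtain ⟨k, hk⟩ := IsPGroup.iff_card.1 ((hR.to_quotient Z).to_subgroup E)
  have hk3 : 3 ≤ k := by
    rw [hk] at hlt
    exact (Nat.pow_lt_pow_iff_right hp.out.one_lt).1 hlt
  obtain ⟨F, hFc⟩ := Sylow.exists_subgroup_card_pow_prime (G := E) p (n := 3)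
    (hk ▸ pow_dvd_pow p hk3)
  set F' := F.map E.subtype with hF'
  have hF'c : Nat.card F' = p ^ 3 := by rw [hF', card_map_of_injective E.subtype_injective, hFc]
  set X := F'.comap (QuotientGroup.mk' Z) with hX
  have hXc : Nat.card X = p ^ 4 := by
    have hZX : Z ≤ X := fun z hz => by
      rw [hX, mem_comap, QuotientGroup.mk'_apply, (QuotientGroup.eq_one_iff z).2 hz]
      exact one_mem _
    have h1 := relIndex_comap (H := (⊥ : Subgroup (R ⧸ Z))) (f := QuotientGroup.mk' Z) (K := X)
    rw [MonoidHom.comap_bot, QuotientGroup.ker_mk', hX,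
      map_comap_eq_self_of_surjective (QuotientGroup.mk'_surjective Z), relIndex_bot_left, hF'c,
      ← hX] at h1
    have h2 := (Z.subgroupOf X).card_mul_index
    rw [Nat.card_congr (subgroupOfEquivOfLe hZX).toEquiv, hZ] at h2
    rw [← h2, show (Z.subgroupOf X).index = p ^ 3 from h1]
    ring
  have hXp : ∀ x ∈ X, x ^ p ∈ Z := fun x hx => by
    rw [← QuotientGroup.eq_one_iff, QuotientGroup.mk_pow]
    exact hE _ (map_subtype_le F (mem_comap.1 hx))
  have hXg : IsPGroup p X := hR.to_subgroup X
  have h5 : 5 ≤ p := hp.out.five_le_of_ne_two_of_ne_three (by omega) (by omega)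
  have hreg : Cfsg.IsRegularPGroup p X := by
    refine isRegularPGroup_of_class_lt hXg (le_bot_iff.1 ?_)
    rw [← lcs_eq_bot_of_card_le hXg 4 0 (by rw [Subgroup.lowerCentralSeries_zero, card_top, hXc])]
    exact Subgroup.lowerCentralSeries_antitone _ (by omega)
  set Ω := regularOmega hreg 1
  have hΩ : Nat.card Ω ≤ p ^ 2 := by
    rw [← card_map_of_injective X.subtype_injective]
    refine h _ ?_
    rintro _ ⟨x, hx, rfl⟩
    have hx1 : x ^ p ^ 1 = 1 := hx
    rw [pow_one] at hx1
    rw [← map_pow, hx1, map_one]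
  have hidx : Ω.index ≤ p := by
    rw [← hZ, index_eq_card]
    refine Nat.card_le_card_of_injective
      (fun q : X ⧸ Ω => (⟨(q.out : R) ^ p, hXp _ q.out.2⟩ : Z)) fun q r hqr => ?_
    have h1 : q.out ^ p = r.out ^ p := Subtype.ext (congrArg Subtype.val hqr :)
    rw [← QuotientGroup.out_eq' q, ← QuotientGroup.out_eq' r, QuotientGroup.eq]
    have h2 := (regular_pow_eq_iff hreg 1 (q.out)⁻¹ (r.out)⁻¹).1
      (by rw [pow_one, inv_pow, inv_pow, h1])
    rw [inv_inv] at h2
    exact h2
  have h4 := Ω.card_mul_index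
  rw [hXc] at h4
  have h5 : p ^ 4 ≤ p ^ 2 * p := h4 ▸ Nat.mul_le_mul hΩ hidx
  rw [← pow_succ] at h5
  exact absurd ((Nat.pow_le_pow_iff_right hp.out.one_lt).1 h5) (by omega)

omit [Finite R] in
theorem expBound_quotient [Finite R] (h3 : 3 < p) (hR : IsPGroup p R) (h : ExpBound p R)
    (T : Subgroup R) [T.Normal] : ExpBound p (R ⧸ T) := by
  suffices key : ∀ (n : ℕ) (S : Type u) [Group S] [Finite S], IsPGroup p S → ExpBound p S →
      ∀ (T : Subgroup S) [T.Normal], Nat.card T = n → ExpBound p (S ⧸ T) from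
    key _ R hR h T rfl
  intro n
  induction n using Nat.strong_induction_on with
  | _ n ih =>
  intro S _ _ hS hSb T _ hn
  by_cases hT : T = ⊥
  · subst hT
    exact expBound_of_mulEquiv (QuotientGroup.quotientBot (G := S)).symm hSb
  obtain ⟨z, hzT, hzc, hz⟩ := exists_central_orderOf_eq hS T hT
  set Z := zpowers z
  have hZn : Z.Normal := ⟨fun m hm g => by
    rwa [mem_center_iff.1 (zpowers_le.2 hzc hm) g, mul_inv_cancel_right]⟩
  have hZT : Z ≤ T := zpowers_le.2 hzT
  have h1 := expBound_quotient_central h3 hS hSb Z (by rw [Nat.card_zpowers, hz])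
  have hTn : (T.map (QuotientGroup.mk' Z)).Normal :=
    Normal.map inferInstance _ (QuotientGroup.mk'_surjective Z)
  have hlt : Nat.card (T.map (QuotientGroup.mk' Z)) < n := by
    subst hn
    have h2 := relIndex_ker (f := QuotientGroup.mk' Z) (K := T)
    rw [QuotientGroup.ker_mk'] at h2
    rw [← h2]
    have h3' := (Z.subgroupOf T).card_mul_index
    rw [Nat.card_congr (subgroupOfEquivOfLe hZT).toEquiv, Nat.card_zpowers, hz] at h3'
    rw [relIndex, ← h3']
    exact lt_mul_of_one_lt_left (Nat.pos_of_ne_zero index_ne_zero_of_finite) hp.out.one_lt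
  exact expBound_of_mulEquiv (QuotientGroup.quotientQuotientEquivQuotient Z T hZT)
    (ih _ hlt (S ⧸ Z) (hS.to_quotient Z) h1 _ rfl)

omit [Finite R] hp in
theorem expBound_of_omegaOne [Finite R]
    (h : Nat.card (Cfsg.omegaOne p (⊤ : Subgroup R)) ≤ p ^ 2) : ExpBound p R := fun _ hE =>
  le_trans (card_le_of_le fun x hx => Subgroup.subset_closure
    (show x ∈ {x : R | x ∈ (⊤ : Subgroup R) ∧ x ^ p = 1} from ⟨mem_top x, hE x hx⟩)) h

theorem omegaOne_le_of_expBound (h3 : 3 < p) (hR : IsPGroup p R) (h : ExpBound p R) :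
    Nat.card (Cfsg.omegaOne p (⊤ : Subgroup R)) ≤ p ^ 2 := by
  refine h _ fun x hx => ?_
  have hset : {x : R | x ∈ (⊤ : Subgroup R) ∧ x ^ p = 1} = {x : R | x ^ p = 1} := by simp
  rw [Cfsg.omegaOne, hset] at hx
  exact Cfsg.Agent.S0128.result h3 hR (fun E hE => h E hE.2) x hx

omit [Finite R] hp in
theorem powerClosure_top_normal (p n : ℕ) : (Cfsg.powerClosure p n (⊤ : Subgroup R)).Normal :=
  ⟨fun _ hx _ => conj_mem_powerClosure (fun _ _ => mem_top _) hx⟩

/-- The quotient by the `p`-th powers has order at most `p²` and is abelian. -/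
theorem expBound_frattini (h3 : 3 < p) (hR : IsPGroup p R) (h : ExpBound p R) :
    frattini R ≤ Cfsg.powerClosure p 1 (⊤ : Subgroup R) ∧
      (Cfsg.powerClosure p 1 (⊤ : Subgroup R)).index ≤ p ^ 2 := by
  have hn := powerClosure_top_normal (R := R) p 1
  set W := Cfsg.powerClosure p 1 (⊤ : Subgroup R)
  have hpow : ∀ x : R, x ^ p ∈ W := fun x => by
    have := pow_mem_powerClosure (p := p) (n := 1) (mem_top x)
    rwa [pow_one] at this
  have hexp : ∀ q : R ⧸ W, q ^ p = 1 := by
    intro q
    obtain ⟨x, rfl⟩ := QuotientGroup.mk'_surjective W q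
    rw [← map_pow, QuotientGroup.mk'_apply, QuotientGroup.eq_one_iff]
    exact hpow x
  have hb := expBound_quotient h3 hR h W ⊤ fun q _ => hexp q
  rw [card_top] at hb
  refine ⟨frattini_le_of_elementary (fun x y => ?_) hpow, by rwa [index_eq_card]⟩
  obtain ⟨k, hk⟩ := IsPGroup.iff_card.1 (hR.to_quotient W)
  have hk2 : k ≤ 2 := by rw [hk] at hb; exact (Nat.pow_le_pow_iff_right hp.out.one_lt).1 hb
  have hcomm : ∀ u v : R ⧸ W, u * v = v * u := by
    interval_cases k
    · have : Subsingleton (R ⧸ W) := (Nat.card_eq_one_iff_unique.1 (by rw [hk, pow_zero])).1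
      exact fun u v => Subsingleton.elim _ _
    · have := isCyclic_of_prime_card (p := p) (by rw [hk, pow_one] : Nat.card (R ⧸ W) = p)
      exact fun u v => (IsCyclic.isMulCommutative).is_comm.comm u v
    · exact fun u v => (IsPGroup.isMulCommutative_of_card_eq_prime_sq hk).is_comm.comm u v
  rw [← QuotientGroup.eq_one_iff, ← QuotientGroup.mk'_apply (N := W), map_commutatorElement,
    commutatorElement_eq_one_iff_mul_comm]
  exact hcomm _ _

/-- An element outside the Frattini subgroup extends to a generating pair. -/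
theorem exists_generator_pair (h3 : 3 < p) (hR : IsPGroup p R) (h : ExpBound p R) {x : R}
    (hx : x ∉ frattini R) : ∃ y : R, zpowers x ⊔ zpowers y = ⊤ := by
  obtain ⟨hΦ, hW⟩ := expBound_frattini h3 hR h
  have hWΦ : Cfsg.powerClosure p 1 (⊤ : Subgroup R) ≤ frattini R := by
    rw [Cfsg.powerClosure, Subgroup.closure_le]
    rintro _ ⟨z, -, rfl⟩
    rw [pow_one]
    exact pow_mem_frattini hR z
  rw [le_antisymm hWΦ hΦ] at hW
  set S := frattini R ⊔ zpowers x
  by_cases hS : S = ⊤
  · exact ⟨1, by
      rw [zpowers_one_eq_bot, sup_bot_eq]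
      exact frattini_nongenerating (by rwa [sup_comm])⟩
  obtain ⟨y, hy⟩ : ∃ y, y ∉ S := by
    by_contra hall
    push Not at hall
    exact hS (eq_top_iff.2 fun z _ => hall z)
  refine ⟨y, frattini_nongenerating ?_⟩
  set T := zpowers x ⊔ zpowers y ⊔ frattini R
  have hST : S < T := lt_of_le_of_ne (sup_le le_sup_right (le_sup_left.trans le_sup_left))
    fun e => hy (e ▸ mem_sup_left (mem_sup_right (mem_zpowers y)))
  have hFS : frattini R < S := lt_of_le_of_ne le_sup_left
    fun e => hx (e ▸ mem_sup_right (mem_zpowers x))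
  have step : ∀ A B : Subgroup R, A < B → p * B.index ≤ A.index := by
    intro A B hAB
    rw [← relIndex_mul_index hAB.le]
    refine Nat.mul_le_mul_right _ ?_
    obtain ⟨k, hk⟩ := (Nat.dvd_prime_pow hp.out).1
      ((relIndex_dvd_card (H := A) (K := B)).trans (IsPGroup.iff_card.1 (hR.to_subgroup B)).choose_spec.dvd) |>.imp fun _ => And.right
    have : k ≠ 0 := fun e => hAB.not_ge (relIndex_eq_one.1 (by rw [hk, e, pow_zero]))
    rw [hk]
    exact Nat.le_self_pow this p
  have h1 := step _ _ hFS
  have h2 := step _ _ hST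
  refine index_eq_one.1 (le_antisymm ?_ (Nat.pos_of_ne_zero index_ne_zero_of_finite))
  have h4 : p ^ 2 * T.index ≤ p ^ 2 * 1 := by
    calc p ^ 2 * T.index = p * (p * T.index) := by ring
      _ ≤ p * S.index := Nat.mul_le_mul_left _ h2
      _ ≤ (frattini R).index := h1
      _ ≤ p ^ 2 * 1 := by rwa [mul_one]
  exact Nat.le_of_mul_le_mul_left h4 (pow_pos hp.out.pos 2)

theorem exists_two_generators (h3 : 3 < p) (hR : IsPGroup p R) (h : ExpBound p R) :
    ∃ a b : R, zpowers a ⊔ zpowers b = ⊤ := by
  by_cases hR1 : Nontrivial R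
  · obtain ⟨x, hx⟩ : ∃ x : R, x ∉ frattini R := by
      by_contra hall
      push Not at hall
      exact frattini_ne_top (G := R) (eq_top_iff.2 fun z _ => hall z)
    obtain ⟨y, hy⟩ := exists_generator_pair h3 hR h hx
    exact ⟨x, y, hy⟩
  · rw [not_nontrivial_iff_subsingleton] at hR1
    exact ⟨1, 1, eq_top_iff.2 fun z _ => by rw [Subsingleton.elim z 1]; exact one_mem _⟩

/-- An exponent-`p` derived subgroup of order `p²` is impossible. -/
theorem not_commutator_sq (h3 : 3 < p) (hR : IsPGroup p R) (h : ExpBound p R)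
    (hexp : ∀ x ∈ commutator R, x ^ p = 1) (hc : Nat.card (commutator R) = p ^ 2) : False := by
  have hreg : Cfsg.IsRegularPGroup p R := by
    refine isRegularPGroup_of_class_lt hR (le_bot_iff.1 ?_)
    rw [← lcs_eq_bot_of_card_le hR 2 1 (by rw [Subgroup.top_lowerCentralSeries_one, hc])]
    exact Subgroup.lowerCentralSeries_antitone _ (by omega)
  have hcent : commutator R ≤ center R := by
    intro c hc'
    obtain ⟨x, -, rfl⟩ := exists_pow_of_mem_powerClosure hR (firstPowerCondition_of_regular hreg) 1 _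
      ((expBound_frattini h3 hR h).1 (commutator_le_frattini hR hc'))
    rw [pow_one, mem_center_iff]
    intro g
    have h1 : (g * x * g⁻¹ * x⁻¹) ^ p = 1 :=
      hexp _ (commutator_mem_commutator (mem_top g) (mem_top x))
    have h2 : (g * x * g⁻¹) ^ p = x ^ p := by
      have h4 := (regular_pow_eq_iff hreg 1 (g * x * g⁻¹) x).2 (by rw [pow_one]; exact h1)
      rwa [pow_one] at h4
    rw [conj_pow] at h2
    exact mul_inv_eq_iff_eq_mul.1 h2
  obtain ⟨a, b, hab⟩ := exists_two_generators h3 hR h
  have hpair : closure ({a, b} : Set R) = ⊤ := by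
    rw [eq_top_iff, ← hab]
    exact sup_le (zpowers_le.2 (Subgroup.subset_closure (by simp))) (zpowers_le.2 (Subgroup.subset_closure (by simp)))
  have hmem : ⁅a, b⁆ ∈ commutator R := commutator_mem_commutator (mem_top a) (mem_top b)
  have hle : commutator R ≤ zpowers ⁅a, b⁆ := by
    have h1 := commutator_closure_pair_le (a := a) (b := b) (N := zpowers ⁅a, b⁆)
      (fun g _ n hn => by
        rw [mem_center_iff.1 (zpowers_le.2 (hcent hmem) hn) g, mul_inv_cancel_right]
        exact hn) (mem_zpowers _)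
    rw [hpair] at h1
    rwa [_root_.commutator_def]
  have h1 := card_le_of_le hle
  rw [hc, Nat.card_zpowers] at h1
  have h2 : orderOf ⁅a, b⁆ ≤ p :=
    Nat.le_of_dvd hp.out.pos (orderOf_dvd_of_pow_eq_one (hexp _ hmem))
  have := hp.out.two_le
  nlinarith [h1.trans h2]

theorem commutator_isCyclic (h3 : 3 < p) (hR : IsPGroup p R) (h : ExpBound p R) :
    IsCyclic (commutator R) := by
  set D := commutator R
  set K := (frattini D).map D.subtype with hK
  have hKD : K ≤ D := map_subtype_le _
  have hKn : K.Normal := by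
    have : (frattini D).Characteristic := inferInstance
    rw [hK]; infer_instance
  have hQb := expBound_quotient h3 hR h K
  have hQD : commutator (R ⧸ K) = D.map (QuotientGroup.mk' K) := by
    rw [_root_.commutator_def, ← Subgroup.map_top_of_surjective _ (QuotientGroup.mk'_surjective K),
      ← Subgroup.map_commutator, ← _root_.commutator_def]
  have hexp : ∀ q ∈ commutator (R ⧸ K), q ^ p = 1 := by
    rw [hQD]
    rintro _ ⟨d, hd, rfl⟩
    rw [← map_pow, QuotientGroup.mk'_apply, QuotientGroup.eq_one_iff, hK]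
    exact ⟨(⟨d, hd⟩ : D) ^ p, pow_mem_frattini (hR.to_subgroup D) _, rfl⟩
  -- the derived subgroup of the quotient has order at most `p`
  have hA : Nat.card (commutator (R ⧸ K)) ≤ p := by
    by_contra hlt
    push Not at hlt
    obtain ⟨a, ha⟩ := IsPGroup.iff_card.1 ((hR.to_quotient K).to_subgroup (commutator (R ⧸ K)))
    have ha2 : 2 ≤ a := by
      rw [ha] at hlt
      nth_rw 1 [← pow_one p] at hlt
      exact (Nat.pow_lt_pow_iff_right hp.out.one_lt).1 hlt
    obtain ⟨L, hLn, hLA, hLc⟩ :=
      exists_normal_card_le (hR.to_quotient K) (a - 2) a (commutator (R ⧸ K)) ha (by omega)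
    refine not_commutator_sq h3 ((hR.to_quotient K).to_quotient L)
      (expBound_quotient h3 (hR.to_quotient K) hQb L) ?_ ?_
    · rw [_root_.commutator_def, ← Subgroup.map_top_of_surjective _ (QuotientGroup.mk'_surjective L),
        ← Subgroup.map_commutator, ← _root_.commutator_def]
      rintro _ ⟨q, hq, rfl⟩
      rw [← map_pow, hexp q hq, map_one]
    · rw [_root_.commutator_def, ← Subgroup.map_top_of_surjective _ (QuotientGroup.mk'_surjective L),
        ← Subgroup.map_commutator, ← _root_.commutator_def]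
      have h1 := relIndex_ker (f := QuotientGroup.mk' L) (K := commutator (R ⧸ K))
      rw [QuotientGroup.ker_mk'] at h1
      rw [← h1]
      have h2 := (L.subgroupOf (commutator (R ⧸ K))).card_mul_index
      rw [Nat.card_congr (subgroupOfEquivOfLe hLA).toEquiv, ha, hLc,
        show p ^ a = p ^ (a - 2) * p ^ 2 by rw [← pow_add]; congr 1; omega] at h2
      exact Nat.eq_of_mul_eq_mul_left (pow_pos hp.out.pos _) h2
  -- hence `D` is cyclic
  have hidx : (frattini D).index ≤ p := by
    refine le_trans (le_of_eq ?_) hA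
    rw [hQD, ← relIndex_ker (f := QuotientGroup.mk' K) (K := D), QuotientGroup.ker_mk', relIndex]
    congr 1
    exact (comap_map_eq_self_of_injective D.subtype_injective _).symm
  rw [isCyclic_iff_exists_zpowers_eq_top]
  by_cases hD1 : Nontrivial D
  · obtain ⟨x, hx⟩ : ∃ x : D, x ∉ frattini D := by
      by_contra hall
      push Not at hall
      exact frattini_ne_top (G := D) (eq_top_iff.2 fun z _ => hall z)
    refine ⟨x, frattini_nongenerating ?_⟩
    rw [← index_eq_one]
    have hd : (zpowers x ⊔ frattini D).index ∣ (frattini D).index := index_dvd_of_le le_sup_right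
    obtain ⟨k, hk⟩ := (hR.to_subgroup D).index (frattini D)
    have hk1 : k ≤ 1 := by
      rw [hk] at hidx
      exact (Nat.pow_le_pow_iff_right hp.out.one_lt).1 (by rwa [pow_one])
    rcases Nat.le_one_iff_eq_zero_or_eq_one.1 hk1 with rfl | rfl
    · rw [pow_zero] at hk; exact Nat.dvd_one.1 (hk ▸ hd)
    · rw [pow_one] at hk
      refine ((Nat.dvd_prime hp.out).1 (hk ▸ hd)).resolve_right fun e => hx ?_
      have h2 : frattini D = zpowers x ⊔ frattini D := eq_of_le_of_card_ge le_sup_right (by
        have h1 := (zpowers x ⊔ frattini D).card_mul_index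
        rw [e, ← (frattini D).card_mul_index, hk] at h1
        exact (Nat.eq_of_mul_eq_mul_right hp.out.pos h1).le)
      rw [h2]
      exact mem_sup_left (mem_zpowers x)
  · rw [not_nontrivial_iff_subsingleton] at hD1
    exact ⟨1, eq_top_iff.2 fun z _ => by rw [Subsingleton.elim z 1]; exact one_mem _⟩

/-- A `p`-group with cyclic derived subgroup, `p` odd, satisfies the first power condition. -/
theorem firstPowerCondition_of_cyclic_commutator (h2 : 2 < p) (hR : IsPGroup p R)
    (hc : IsCyclic (commutator R)) : FirstPowerCondition p R := by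
  intro a b
  set H := closure ({a, b} : Set R) with hH
  have ha : a ∈ H := Subgroup.subset_closure (by simp)
  have hb : b ∈ H := Subgroup.subset_closure (by simp)
  set W := Cfsg.powerClosure p 1 (commutator H) with hW
  have hWn : W.Normal :=
    ⟨fun x hx g => conj_mem_powerClosure (fun k hk => Normal.conj_mem inferInstance k hk g) hx⟩
  have hcyc : IsCyclic (commutator H) := by
    have hle : (commutator H).map H.subtype ≤ commutator R := by
      rw [map_subtype_commutator, _root_.commutator_def]
      exact commutator_mono le_top le_top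
    have : IsCyclic ((commutator H).map H.subtype) :=
      isCyclic_of_injective (inclusion hle) (inclusion_injective hle)
    exact isCyclic_of_surjective ((commutator H).equivMapOfInjective _ H.subtype_injective).symm.toMonoidHom
      (MulEquiv.surjective _)
  have hpowW : ∀ d ∈ commutator H, QuotientGroup.mk' W d ^ p = 1 := fun d hd => by
    rw [← map_pow, QuotientGroup.mk'_apply, QuotientGroup.eq_one_iff]
    have := pow_mem_powerClosure (p := p) (n := 1) hd
    rwa [pow_one] at this
  have hQD : commutator (H ⧸ W) = (commutator H).map (QuotientGroup.mk' W) := by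
    rw [_root_.commutator_def, ← Subgroup.map_top_of_surjective _ (QuotientGroup.mk'_surjective W),
      ← Subgroup.map_commutator, ← _root_.commutator_def]
  have hcard : Nat.card (commutator (H ⧸ W)) ≤ p := by
    obtain ⟨d, hd⟩ := (Subgroup.isCyclic_iff_exists_zpowers_eq_top _).1 hcyc
    rw [hQD, ← hd, MonoidHom.map_zpowers, Nat.card_zpowers]
    refine Nat.le_of_dvd hp.out.pos (orderOf_dvd_of_pow_eq_one (hpowW d ?_))
    rw [← hd]; exact mem_zpowers d
  have hcl : (⊤ : Subgroup (H ⧸ W)).lowerCentralSeries (p - 1) = ⊥ := by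
    refine le_bot_iff.1 ?_
    rw [← lcs_eq_bot_of_card_le ((hR.to_subgroup H).to_quotient W) 1 1
      (by rw [Subgroup.top_lowerCentralSeries_one, pow_one]; exact hcard)]
    exact Subgroup.lowerCentralSeries_antitone _ (by omega)
  set a' : H := ⟨a, ha⟩
  set b' : H := ⟨b, hb⟩
  set c := (a' ^ p * b' ^ p)⁻¹ * (a' * b') ^ p with hcdef
  have hmem : c ∈ W := by
    have hbot : Cfsg.powerClosure p 1 (commutator (H ⧸ W)) = ⊥ := by
      rw [eq_bot_iff, Cfsg.powerClosure, Subgroup.closure_le, hQD]
      rintro _ ⟨_, ⟨d, hd, rfl⟩, rfl⟩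
      rw [pow_one, SetLike.mem_coe, mem_bot]
      exact hpowW d hd
    have := mul_pow_prime_pow_of_class_lt hcl (QuotientGroup.mk' W a') (QuotientGroup.mk' W b') 1
    rw [hbot, mem_bot, pow_one, ← map_pow, ← map_pow, ← map_mul, ← map_mul, ← map_pow, ← map_inv,
      ← map_mul, QuotientGroup.mk'_apply, QuotientGroup.eq_one_iff] at this
    exact this
  refine ⟨(c : R), ?_, by rw [hcdef]; simp [a', b', mul_assoc]⟩
  have hle : W.map H.subtype ≤ Cfsg.powerClosure p 1 ⁅H, H⁆ := by
    rw [hW]
    conv_lhs => rw [Cfsg.powerClosure, MonoidHom.map_closure]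
    rw [Subgroup.closure_le]
    rintro _ ⟨_, ⟨x, hx, rfl⟩, rfl⟩
    rw [map_pow]
    refine pow_mem_powerClosure ?_
    rw [← map_subtype_commutator]
    exact mem_map_of_mem _ hx
  exact hle (mem_map_of_mem _ hmem)

/-- Huppert's criterion. -/
theorem isMetacyclic_of_expBound (h3 : 3 < p) (hR : IsPGroup p R) (h : ExpBound p R) :
    Cfsg.IsMetacyclic R := by
  have hD := commutator_isCyclic h3 hR h
  have h1 := firstPowerCondition_of_cyclic_commutator (by omega) hR hD
  obtain ⟨c, hc⟩ := (Subgroup.isCyclic_iff_exists_zpowers_eq_top _).1 hD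
  by_cases hR1 : Nontrivial R
  swap
  · rw [not_nontrivial_iff_subsingleton] at hR1
    exact ⟨⊥, inferInstance, inferInstance, isCyclic_of_subsingleton⟩
  -- an element outside the Frattini subgroup with `c` among its powers
  obtain ⟨x, hxΦ, hcx⟩ : ∃ x : R, x ∉ frattini R ∧ c ∈ zpowers x := by
    obtain ⟨x₀, hx₀⟩ : ∃ x : R, x ∉ frattini R := by
      by_contra hall
      push Not at hall
      exact frattini_ne_top (G := R) (eq_top_iff.2 fun z _ => hall z)
    by_cases hc1 : c = 1
    · exact ⟨x₀, hx₀, hc1 ▸ one_mem _⟩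
    obtain ⟨x, hcx, hmax⟩ :=
      Set.exists_max_image {x : R | c ∈ zpowers x} orderOf (Set.toFinite _) ⟨c, mem_zpowers c⟩
    refine ⟨x, fun hxΦ => ?_, hcx⟩
    obtain ⟨y, -, rfl⟩ := exists_pow_of_mem_powerClosure hR h1 1 _
      ((expBound_frattini h3 hR h).1 hxΦ)
    rw [pow_one] at hcx hxΦ hmax
    have hy1 : y ≠ 1 := fun e => hc1 (by
      rw [e] at hcx
      simpa using hcx)
    have hle := hmax y (show c ∈ zpowers y from
      zpowers_le.2 (pow_mem (mem_zpowers y) p) hcx)
    rw [orderOf_pow' y hp.out.ne_zero,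
      Nat.gcd_eq_right (hR.dvd_orderOf hy1)] at hle
    exact absurd hle (not_le.2 (Nat.div_lt_self (orderOf_pos y) hp.out.one_lt))
  obtain ⟨y, hy⟩ := exists_generator_pair h3 hR h hxΦ
  have hDx : commutator R ≤ zpowers x := hc ▸ zpowers_le.2 hcx
  have hN : (zpowers x).Normal := ⟨fun m hm g => by
    have : ⁅g, m⁆ * m ∈ zpowers x :=
      (zpowers x).mul_mem (hDx (commutator_mem_commutator (mem_top g) (mem_top m))) hm
    rwa [commutatorElement_def, inv_mul_cancel_right] at this⟩
  refine ⟨zpowers x, hN, inferInstance, isCyclic_iff_exists_zpowers_eq_top.2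
    ⟨QuotientGroup.mk' (zpowers x) y, ?_⟩⟩
  rw [← MonoidHom.map_zpowers, ← Subgroup.map_top_of_surjective _
    (QuotientGroup.mk'_surjective (zpowers x)), ← hy, Subgroup.map_sup,
    QuotientGroup.map_mk'_self, bot_sup_eq]

end CfsgLib.PGroup
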