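import Cfsg.Agent.Lib.PGroup.CyclicMaximal
import Cfsg.Prelude.Def_PLocal
import Cfsg.Prelude.Def_OddOrderLocal
import Cfsg.Prelude.Def_Transfer
import Mathlib.GroupTheory.SpecificGroups.Cyclic

/-!
Normal subgroups of order `p²` and the omega subgroup of metacyclic `p`-groups.
-/

set_option autoImplicit false

open Subgroup

namespace CfsgLib.PGroup

variable {R : Type*} [Group R] [Finite R] {p : ℕ} [hp : Fact p.Prime]

theorem exists_normal_elementary_sq (hp2 : p ≠ 2) (hR : IsPGroup p R) (S : Subgroup R) [S.Normal]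
    (hS : ¬ IsCyclic S) :
    ∃ A : Subgroup R, A ≤ S ∧ A.Normal ∧ Cfsg.IsElementaryAbelian p A ∧ Nat.card A = p ^ 2 := by
  obtain ⟨T, ⟨hTn, hTS, hTc⟩, hmin⟩ :=
    (Set.toFinite {T : Subgroup R | T.Normal ∧ T ≤ S ∧ ¬ IsCyclic T}).exists_minimal
      ⟨S, inferInstance, le_rfl, hS⟩
  have hne : T ≠ ⊥ := fun e => hTc (by subst e; infer_instance)
  obtain ⟨M, x, hMn, hMT, hx, hxM, hsup, hcard, -⟩ := exists_normal_index_prime hR T hne
  have hMc : IsCyclic M := by
    by_contra hMc
    exact hxM (hmin ⟨hMn, hMT.trans hTS, hMc⟩ hMT hx)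
  have hidx : (M.subgroupOf T).index = p := by
    have h := (M.subgroupOf T).card_mul_index
    rw [Nat.card_congr (subgroupOfEquivOfLe hMT).toEquiv, hcard, mul_comm p] at h
    exact Nat.eq_of_mul_eq_mul_left Nat.card_pos h
  have hMc' : IsCyclic (M.subgroupOf T) :=
    isCyclic_of_surjective (subgroupOfEquivOfLe hMT).symm.toMonoidHom (MulEquiv.surjective _)
  obtain ⟨K, hK, hKm⟩ := omega_of_cyclic_index_prime hp2 (hR.to_subgroup T) hTc (M.subgroupOf T)
    hMc' hidx
  refine ⟨K.map T.subtype, (map_subtype_le K).trans hTS, ⟨?_⟩, ⟨?_, ?_⟩, ?_⟩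
  · rintro _ ⟨k, hk, rfl⟩ g
    refine ⟨⟨g * k * g⁻¹, hTn.conj_mem _ k.2 g⟩, ?_, rfl⟩
    rw [SetLike.mem_coe, hKm, Subtype.ext_iff, Subgroup.coe_pow, conj_pow, ← Subgroup.coe_pow,
      (hKm k).1 hk]
    simp
  · refine IsPGroup.isMulCommutative_of_card_eq_prime_sq ?_ (p := p)
    rw [card_map_of_injective T.subtype_injective, hK]
  · rintro _ ⟨k, hk, rfl⟩
    rw [← map_pow, (hKm k).1 hk, map_one]
  · rw [card_map_of_injective T.subtype_injective, hK]

omit [Finite R] hp in
theorem omegaOne_eq_of_forall {K : Subgroup R} (hK : ∀ x : R, x ∈ K ↔ x ^ p = 1) :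
    Cfsg.omegaOne p (⊤ : Subgroup R) = K := by
  have : {x : R | x ∈ (⊤ : Subgroup R) ∧ x ^ p = 1} = (K : Set R) := by
    ext x
    simp [hK]
  rw [Cfsg.omegaOne, this, closure_eq]

theorem metacyclic_omegaOne (hp2 : p ≠ 2) (hR : IsPGroup p R) (hm : Cfsg.IsMetacyclic R)
    (hnc : ¬ IsCyclic R) :
    ∃ K : Subgroup R, Nat.card K = p ^ 2 ∧ ∀ x : R, x ∈ K ↔ x ^ p = 1 := by
  obtain ⟨N, hN, hNc, hQc⟩ := hm
  have hQ1 : Nontrivial (R ⧸ N) := by
    rw [← not_subsingleton_iff_nontrivial]
    intro hs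
    have hNt : N = ⊤ := eq_top_iff.2 fun g _ =>
      (QuotientGroup.eq_one_iff g).1 (Subsingleton.elim _ _)
    subst hNt
    exact hnc (isCyclic_of_surjective (Subgroup.topEquiv : (⊤ : Subgroup R) ≃* R).toMonoidHom
      (MulEquiv.surjective _))
  obtain ⟨z, -, -, hz⟩ := exists_central_orderOf_eq (hR.to_quotient N) (⊤ : Subgroup (R ⧸ N))
    top_ne_bot
  set M := (zpowers z).comap (QuotientGroup.mk' N)
  have hall : ∀ x : R, x ^ p = 1 → x ∈ M := by
    intro x hx
    rw [mem_comap]
    set q := QuotientGroup.mk' N x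
    have hq : q ^ p = 1 := by rw [← map_pow, hx, map_one]
    by_cases hq1 : q = 1
    · rw [hq1]; exact one_mem _
    have ho : orderOf q = p := orderOf_eq_prime hq hq1
    classical
    have := Fintype.ofFinite (R ⧸ N)
    by_contra hne
    have hzp : ∀ y ∈ zpowers z, y ^ p = 1 := by
      intro y hy
      obtain ⟨j, rfl⟩ := mem_zpowers_iff.1 hy
      rw [← zpow_natCast (z ^ j), ← zpow_mul, mul_comm, zpow_mul, zpow_natCast, ← hz,
        pow_orderOf_eq_one, one_zpow]
    have hle := IsCyclic.card_pow_eq_one_le (α := R ⧸ N) hp.out.pos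
    have hsub : insert q (zpowers z : Set (R ⧸ N)).toFinset ⊆
        Finset.univ.filter fun y : R ⧸ N => y ^ p = 1 := by
      intro y hy
      rw [Finset.mem_insert, Set.mem_toFinset] at hy
      rw [Finset.mem_filter]
      rcases hy with rfl | hy
      · exact ⟨Finset.mem_univ _, hq⟩
      · exact ⟨Finset.mem_univ _, hzp y hy⟩
    have h1 := (Finset.card_le_card hsub).trans hle
    rw [Finset.card_insert_of_notMem (by simpa using hne), Set.toFinset_card,
      ← Nat.card_eq_fintype_card] at h1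
    have h2 : Nat.card (zpowers z) = p := by rw [Nat.card_zpowers, hz]
    simp only [SetLike.coe_sort_coe] at h1
    omega
  have hNM : N ≤ M := fun n hn => by
    rw [mem_comap, QuotientGroup.mk'_apply, (QuotientGroup.eq_one_iff n).2 hn]
    exact one_mem _
  have hidx : (N.subgroupOf M).index = p := by
    have h := relIndex_comap (H := (⊥ : Subgroup (R ⧸ N))) (f := QuotientGroup.mk' N) (K := M)
    rw [MonoidHom.comap_bot, QuotientGroup.ker_mk',
      map_comap_eq_self_of_surjective (QuotientGroup.mk'_surjective N), relIndex_bot_left,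
      Nat.card_zpowers, hz] at h
    exact h
  have hNc' : IsCyclic (N.subgroupOf M) :=
    isCyclic_of_surjective (subgroupOfEquivOfLe hNM).symm.toMonoidHom (MulEquiv.surjective _)
  by_cases hMc : IsCyclic M
  · exfalso
    refine hnc (isCyclic_of_unique_order_prime hp2 hR fun x y hx hx1 hy => ?_)
    classical
    have := Fintype.ofFinite M
    set x' : M := ⟨x, hall x hx⟩
    set y' : M := ⟨y, hall y hy⟩
    by_contra hne
    have hox : orderOf x' = p := by
      rw [← Subgroup.orderOf_coe]; exact orderOf_eq_prime hx hx1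
    have hle := IsCyclic.card_pow_eq_one_le (α := M) hp.out.pos
    have hsub : insert y' (zpowers x' : Set M).toFinset ⊆
        Finset.univ.filter fun w : M => w ^ p = 1 := by
      intro w hw
      rw [Finset.mem_insert, Set.mem_toFinset] at hw
      rw [Finset.mem_filter]
      rcases hw with rfl | hw
      · exact ⟨Finset.mem_univ _, Subtype.ext hy⟩
      · obtain ⟨j, rfl⟩ := mem_zpowers_iff.1 hw
        refine ⟨Finset.mem_univ _, ?_⟩
        rw [← zpow_natCast (x' ^ j), ← zpow_mul, mul_comm, zpow_mul, zpow_natCast, ← hox,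
          pow_orderOf_eq_one, one_zpow]
    have h1 := (Finset.card_le_card hsub).trans hle
    have hnot : y' ∉ (zpowers x' : Set M).toFinset := by
      rw [Set.mem_toFinset]
      intro h
      obtain ⟨j, hj⟩ := mem_zpowers_iff.1 h
      exact hne (mem_zpowers_iff.2 ⟨j, by simpa [x', y'] using congrArg Subtype.val hj⟩)
    rw [Finset.card_insert_of_notMem hnot, Set.toFinset_card, ← Nat.card_eq_fintype_card] at h1
    have h2 : Nat.card (zpowers x') = p := by rw [Nat.card_zpowers, hox]
    simp only [SetLike.coe_sort_coe] at h1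
    omega
  · obtain ⟨K, hK, hKm⟩ := omega_of_cyclic_index_prime hp2 (hR.to_subgroup M) hMc (N.subgroupOf M)
      hNc' hidx
    refine ⟨K.map M.subtype, by rw [card_map_of_injective M.subtype_injective, hK], fun x => ?_⟩
    constructor
    · rintro ⟨k, hk, rfl⟩
      rw [← map_pow, (hKm k).1 hk, map_one]
    · intro hx
      exact ⟨⟨x, hall x hx⟩, (hKm _).2 (Subtype.ext hx), rfl⟩

end CfsgLib.PGroup
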