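import Mathlib.GroupTheory.PGroup
import Mathlib.GroupTheory.Sylow
import Mathlib.GroupTheory.IndexNormal
import Mathlib.GroupTheory.Abelianization.Defs
import Mathlib.GroupTheory.Commutator.Finite
import Mathlib.GroupTheory.SpecificGroups.Cyclic

/-!
A group with an abelian normal subgroup `A` of prime index: `|A| = |P'| * |A ∩ C(y)|`, and abelian
maximal subgroups of groups of order `p ^ 4`.
-/

set_option autoImplicit false

namespace CfsgLib.PGroup.AbelianMax

open scoped commutatorElement

variable {P : Type*} [Group P]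

theorem sup_zpowers_eq_top (A : Subgroup P) (hidx : A.index.Prime) (y : P) (hy : y ∉ A) :
    A ⊔ Subgroup.zpowers y = ⊤ := by
  have h : (A ⊔ Subgroup.zpowers y).index ∣ A.index := Subgroup.index_dvd_of_le le_sup_left
  rcases hidx.eq_one_or_self_of_dvd _ h with h1 | h1
  · exact Subgroup.index_eq_one.1 h1
  · exfalso
    have hr : A.relIndex (A ⊔ Subgroup.zpowers y) = 1 := by
      have := Subgroup.relIndex_mul_index (le_sup_left : A ≤ A ⊔ Subgroup.zpowers y)
      rw [h1] at this
      exact Nat.eq_of_mul_eq_mul_right hidx.pos (this.trans (one_mul _).symm)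
    exact hy (Subgroup.relIndex_eq_one.1 hr (le_sup_right (a := A) (Subgroup.mem_zpowers y)))

/-- `a ↦ a * y * a⁻¹ * y⁻¹` on an abelian normal subgroup. -/
def commHom (A : Subgroup P) [hA : A.Normal] (hab : ∀ a ∈ A, ∀ b ∈ A, a * b = b * a) (y : P) :
    A →* P where
  toFun a := (a : P) * y * (a : P)⁻¹ * y⁻¹
  map_one' := by simp
  map_mul' := by
    rintro ⟨a, ha⟩ ⟨b, hb⟩
    simp only [Subgroup.coe_mul, mul_inv_rev]
    have hu : b * y * b⁻¹ * y⁻¹ ∈ A := by
      have := A.mul_mem hb (hA.conj_mem _ (A.inv_mem hb) y)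
      simpa [mul_assoc] using this
    have hv : a * y * a⁻¹ * y⁻¹ ∈ A := by
      have := A.mul_mem ha (hA.conj_mem _ (A.inv_mem ha) y)
      simpa [mul_assoc] using this
    calc a * b * y * (b⁻¹ * a⁻¹) * y⁻¹
        = a * (b * y * b⁻¹ * y⁻¹) * (a⁻¹ * (a * y * a⁻¹ * y⁻¹)) := by group
      _ = (b * y * b⁻¹ * y⁻¹) * (a * y * a⁻¹ * y⁻¹) := by
          rw [hab a ha _ hu]; group
      _ = a * y * a⁻¹ * y⁻¹ * (b * y * b⁻¹ * y⁻¹) := hab _ hu _ hv

theorem range_commHom (A : Subgroup P) [hA : A.Normal] (hab : ∀ a ∈ A, ∀ b ∈ A, a * b = b * a)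
    (y : P) (htop : A ⊔ Subgroup.zpowers y = ⊤) :
    (commHom A hab y).range = commutator P := by
  apply le_antisymm
  · rintro _ ⟨a, rfl⟩
    rw [commutator_def]
    exact Subgroup.commutator_mem_commutator (Subgroup.mem_top (a : P)) (Subgroup.mem_top y)
  · set R := (commHom A hab y).range with hR
    have hRA : R ≤ A := by
      rintro _ ⟨⟨a, ha⟩, rfl⟩
      have := A.mul_mem ha (hA.conj_mem _ (A.inv_mem ha) y)
      simpa [commHom, mul_assoc] using this
    have hn : R.Normal := by
      rw [← Subgroup.normalizer_eq_top_iff, eq_top_iff, ← htop, sup_le_iff]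
      refine ⟨fun a ha => ?_, Subgroup.zpowers_le.2 ?_⟩
      · rw [Subgroup.mem_normalizer_iff]
        intro r
        constructor
        · intro hr
          rw [hab a ha r (hRA hr), mul_inv_cancel_right]
          exact hr
        · intro hr
          have h2 : a * r * a⁻¹ ∈ A := hRA hr
          have hrA : r ∈ A := by
            have := A.mul_mem (A.mul_mem (A.inv_mem ha) h2) ha
            simpa [mul_assoc] using this
          rwa [hab a ha r hrA, mul_inv_cancel_right] at hr
      · rw [Subgroup.mem_normalizer_iff]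
        intro r
        constructor
        · rintro ⟨⟨a, ha⟩, rfl⟩
          exact ⟨⟨y * a * y⁻¹, hA.conj_mem a ha y⟩, by simp [commHom, mul_assoc]⟩
        · rintro ⟨⟨a, ha⟩, h⟩
          refine ⟨⟨y⁻¹ * a * y, by simpa using hA.conj_mem a ha y⁻¹⟩, ?_⟩
          have h' : a * y * a⁻¹ * y⁻¹ = y * r * y⁻¹ := h
          calc (y⁻¹ * a * y) * y * (y⁻¹ * a * y)⁻¹ * y⁻¹
              = y⁻¹ * (a * y * a⁻¹ * y⁻¹) * y := by group
            _ = r := by rw [h']; group
    let π := QuotientGroup.mk' R
    have hy' : ∀ a ∈ A, π a * π y = π y * π a := by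
      intro a ha
      have h : π (a * y * a⁻¹ * y⁻¹) = 1 :=
        (QuotientGroup.eq_one_iff _).2 ⟨⟨a, ha⟩, rfl⟩
      simp only [map_mul, map_inv] at h
      rwa [mul_inv_eq_one, mul_inv_eq_iff_eq_mul] at h
    have hgen : Subgroup.closure (π '' ((A : Set P) ∪ {y})) = ⊤ := by
      rw [← MonoidHom.map_closure, Subgroup.closure_union, Subgroup.closure_eq,
        ← Subgroup.zpowers_eq_closure, htop]
      exact Subgroup.map_top_of_surjective π (QuotientGroup.mk'_surjective R)
    have hcomm : Subgroup.center (P ⧸ R) = ⊤ := by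
      rw [eq_top_iff, ← hgen, Subgroup.closure_le, Subgroup.coe_center,
        Set.subset_def]
      intro u hu
      have huc : u ∈ Subgroup.center (P ⧸ R) := by
        rw [← Subgroup.centralizer_univ, ← Subgroup.coe_top, ← hgen, Subgroup.centralizer_closure,
          Subgroup.mem_centralizer_iff]
        intro v hv
        obtain ⟨g, hg, rfl⟩ := hu
        obtain ⟨k, hk, rfl⟩ := hv
        rcases hg with hg | rfl <;> rcases hk with hk | rfl
        · rw [← map_mul, hab k hk g hg, map_mul]
        · exact (hy' g hg).symm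
        · exact hy' k hk
        · rfl
      exact huc
    rw [commutator_def, Subgroup.commutator_le]
    intro g _ k _
    apply (QuotientGroup.eq_one_iff _).1
    have hc : π g * π k = π k * π g :=
      (Subgroup.mem_center_iff.1 (hcomm ▸ Subgroup.mem_top (π k))) (π g)
    show π ⁅g, k⁆ = 1
    rw [map_commutatorElement]
    exact commutatorElement_eq_one_iff_mul_comm.2 hc

theorem mem_ker_commHom (A : Subgroup P) [A.Normal] (hab : ∀ a ∈ A, ∀ b ∈ A, a * b = b * a)
    (y : P) (a : A) : a ∈ (commHom A hab y).ker ↔ (a : P) * y = y * a := by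
  show (a : P) * y * (a : P)⁻¹ * y⁻¹ = 1 ↔ _
  rw [mul_inv_eq_one, mul_inv_eq_iff_eq_mul]

theorem card_eq_card_commutator_mul (A : Subgroup P) [A.Normal]
    (hab : ∀ a ∈ A, ∀ b ∈ A, a * b = b * a) (y : P) (htop : A ⊔ Subgroup.zpowers y = ⊤) :
    Nat.card A = Nat.card (commutator P) * Nat.card {a : A // (a : P) * y = y * a} := by
  rw [← range_commHom A hab y htop, Subgroup.card_eq_card_quotient_mul_card_subgroup
    (commHom A hab y).ker, Nat.card_congr (QuotientGroup.quotientKerEquivRange _).toEquiv]
  congr 1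
  exact Nat.card_congr (Equiv.subtypeEquivRight (fun a => mem_ker_commHom A hab y a))

/-- If `A` is abelian normal of prime index in a nonabelian group, `|A| = |P'| |Z(P)|`. -/
theorem card_eq_card_commutator_mul_card_center (A : Subgroup P) [A.Normal]
    (hab : ∀ a ∈ A, ∀ b ∈ A, a * b = b * a) (hidx : A.index.Prime)
    (hna : Subgroup.center P ≠ ⊤) :
    Nat.card A = Nat.card (commutator P) * Nat.card (Subgroup.center P) := by
  have hA : A ≠ ⊤ := fun h => Nat.not_prime_one (by simpa [h] using hidx)
  obtain ⟨y, hy⟩ : ∃ y, y ∉ A := not_forall.1 fun h => hA (eq_top_iff.2 fun y _ => h y)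
  have htop := sup_zpowers_eq_top A hidx y hy
  rw [card_eq_card_commutator_mul A hab y htop]
  congr 1
  have hgen : Subgroup.closure ((A : Set P) ∪ {y}) = ⊤ := by
    rw [Subgroup.closure_union, Subgroup.closure_eq, ← Subgroup.zpowers_eq_closure, htop]
  have hZA : Subgroup.center P ≤ A := by
    intro z hz
    by_contra hzA
    apply hna
    have hgz : Subgroup.closure ((A : Set P) ∪ {z}) = ⊤ := by
      rw [Subgroup.closure_union, Subgroup.closure_eq, ← Subgroup.zpowers_eq_closure,
        sup_zpowers_eq_top A hidx z hzA]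
    rw [eq_top_iff, ← hgz, Subgroup.closure_le]
    rintro u (hu | rfl)
    · rw [SetLike.mem_coe, ← Subgroup.centralizer_univ, ← Subgroup.coe_top, ← hgz,
        Subgroup.centralizer_closure, Subgroup.mem_centralizer_iff]
      rintro v (hv | rfl)
      · exact hab v hv u hu
      · exact (Subgroup.mem_center_iff.1 hz u).symm
    · exact hz
  refine Nat.card_congr ⟨fun a => ⟨(a.1 : P), ?_⟩, fun z => ⟨⟨z, hZA z.2⟩, ?_⟩,
    fun a => rfl, fun z => rfl⟩
  · rw [← Subgroup.centralizer_univ, ← Subgroup.coe_top, ← hgen, Subgroup.centralizer_closure,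
      Subgroup.mem_centralizer_iff]
    rintro v (hv | rfl)
    · exact hab v hv _ a.1.2
    · exact a.2.symm
  · exact (Subgroup.mem_center_iff.1 z.2 y).symm

variable [Finite P]

theorem index_eq_prime_of_card (p : ℕ) [hp : Fact p.Prime] (hP : Nat.card P = p ^ 4)
    (M : Subgroup P) (hM : Nat.card M = p ^ 3) : M.index = p := by
  have := M.card_mul_index
  rw [hM, hP] at this
  exact Nat.eq_of_mul_eq_mul_left (pow_pos hp.out.pos 3) (by rw [this]; ring)

/-- A group of order `p ^ 4` has an abelian normal subgroup of index `p`. -/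
theorem exists_abelian_index_prime (p : ℕ) [hp : Fact p.Prime] (hP : Nat.card P = p ^ 4) :
    ∃ A : Subgroup P, A.Normal ∧ (∀ a ∈ A, ∀ b ∈ A, a * b = b * a) ∧ A.index = p := by
  have hpg : IsPGroup p P := IsPGroup.of_card hP
  have key : ∀ M Z : Subgroup P, Nat.card M = p ^ 3 → Z ≤ M → p ^ 2 ∣ Nat.card Z →
      (∀ z ∈ Z, ∀ m ∈ M, z * m = m * z) →
      ∃ A : Subgroup P, A.Normal ∧ (∀ a ∈ A, ∀ b ∈ A, a * b = b * a) ∧ A.index = p := by
    intro M Z hM hZM hZ hc
    have hi : M.index = p := index_eq_prime_of_card p hP M hM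
    refine ⟨M, ?_, ?_, hi⟩
    · refine Subgroup.normal_of_index_eq_minFac_card (G := P) ?_
      rw [hi, hP, Nat.pow_minFac (by norm_num), hp.out.minFac_eq]
    · by_cases hZe : Z = M
      · subst hZe; exact hc
      · obtain ⟨x, hxM, hxZ⟩ := SetLike.exists_of_lt (lt_of_le_of_ne hZM hZe)
        have hle : Z ⊔ Subgroup.zpowers x ≤ M := sup_le hZM (Subgroup.zpowers_le.2 hxM)
        have hlt : Z < Z ⊔ Subgroup.zpowers x :=
          lt_of_le_not_ge le_sup_left fun h =>
            hxZ (h (le_sup_right (a := Z) (Subgroup.mem_zpowers x)))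
        have hE : Z ⊔ Subgroup.zpowers x = M := by
          refine Subgroup.eq_of_le_of_card_ge hle ?_
          rw [hM]
          obtain ⟨i, hi', hci⟩ := (Nat.dvd_prime_pow hp.out).1
            (hP ▸ Subgroup.card_subgroup_dvd_card (Z ⊔ Subgroup.zpowers x))
          rw [hci]
          by_contra hlt'
          have hi2 : i ≤ 2 := by
            by_contra h2
            exact hlt' (Nat.pow_le_pow_right hp.out.pos (by omega))
          have : Nat.card (Z ⊔ Subgroup.zpowers x : Subgroup P) ≤ Nat.card Z :=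
            hci ▸ (Nat.pow_le_pow_right hp.out.pos hi2).trans (Nat.le_of_dvd Nat.card_pos hZ)
          exact hlt.ne (Subgroup.eq_of_le_of_card_ge hlt.le this)
        have hcl : M = Subgroup.closure ((Z : Set P) ∪ {x}) := by
          rw [Subgroup.closure_union, Subgroup.closure_eq, ← Subgroup.zpowers_eq_closure, hE]
        intro a ha b hb
        have hgen : ∀ u ∈ ((Z : Set P) ∪ {x}), ∀ v ∈ ((Z : Set P) ∪ {x}), u * v = v * u := by
          rintro u (hu | rfl) v (hv | rfl)
          · exact hc u hu v (hZM hv)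
          · exact hc u hu _ hxM
          · exact (hc v hv _ hxM).symm
          · rfl
        have hM' : M ≤ Subgroup.centralizer (M : Set P) := by
          conv => rhs; rw [hcl, Subgroup.centralizer_closure]
          conv => lhs; rw [hcl]
          rw [Subgroup.closure_le]
          intro u hu
          rw [SetLike.mem_coe, Subgroup.mem_centralizer_iff]
          exact fun v hv => hgen v hv u hu
        exact ((Subgroup.mem_centralizer_iff.1 (hM' ha)) b hb).symm
  obtain ⟨k, hk0, hk⟩ := IsPGroup.card_center_eq_prime_pow hP (by norm_num)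
  by_cases hk2 : 2 ≤ k
  · have hd : p ^ 2 ∣ Nat.card (Subgroup.center P) := hk ▸ pow_dvd_pow p hk2
    obtain ⟨N, hNle, hN⟩ := Sylow.exists_subgroup_le_card_pow_prime_of_le_card hp.out hpg
      (hk ▸ Nat.pow_le_pow_right hp.out.pos hk2)
    obtain ⟨M, hM, hNM⟩ := Sylow.exists_subgroup_card_pow_prime_le p (m := 3)
      (by rw [hP]; exact pow_dvd_pow p (by norm_num)) N hN (by norm_num)
    exact key M N hM hNM (hN ▸ dvd_rfl) fun z hz m _ =>
      ((Subgroup.mem_center_iff.1 (hNle hz)) m).symm
  · have hk1 : k = 1 := by omega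
    subst hk1
    have hnt : Nontrivial (P ⧸ Subgroup.center P) := by
      rw [← Finite.one_lt_card_iff_nontrivial]
      have h := Subgroup.card_eq_card_quotient_mul_card_subgroup (Subgroup.center P)
      rw [hP, hk] at h
      by_contra h1
      have hone : Nat.card (P ⧸ Subgroup.center P) = 1 :=
        le_antisymm (not_lt.1 h1) Nat.card_pos
      rw [hone, one_mul] at h
      exact absurd (Nat.pow_right_injective hp.out.two_le h) (by norm_num)
    haveI := (hpg.to_quotient (Subgroup.center P)).center_nontrivial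
    obtain ⟨⟨q, hq⟩, hq1⟩ := exists_ne (1 : Subgroup.center (P ⧸ Subgroup.center P))
    obtain ⟨n, rfl⟩ := QuotientGroup.mk_surjective q
    have hn : n ∉ Subgroup.center P := fun h =>
      hq1 (Subtype.ext ((QuotientGroup.eq_one_iff n).2 h))
    have hcz : ∀ g : P, g * n * g⁻¹ * n⁻¹ ∈ Subgroup.center P := by
      intro g
      rw [← QuotientGroup.eq_one_iff]
      have := Subgroup.mem_center_iff.1 hq (g : P ⧸ Subgroup.center P)
      simp [this]
    let φ : P →* Subgroup.center P :=
      { toFun := fun g => ⟨g * n * g⁻¹ * n⁻¹, hcz g⟩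
        map_one' := by simp
        map_mul' := by
          intro g h
          apply Subtype.ext
          show g * h * n * (g * h)⁻¹ * n⁻¹ = g * n * g⁻¹ * n⁻¹ * (h * n * h⁻¹ * n⁻¹)
          calc g * h * n * (g * h)⁻¹ * n⁻¹ = g * (h * n * h⁻¹ * n⁻¹) * n * g⁻¹ * n⁻¹ := by group
            _ = h * n * h⁻¹ * n⁻¹ * (g * n * g⁻¹ * n⁻¹) := by
                rw [Subgroup.mem_center_iff.1 (hcz h) g]; group
            _ = g * n * g⁻¹ * n⁻¹ * (h * n * h⁻¹ * n⁻¹) :=
                (Subgroup.mem_center_iff.1 (hcz h) _).symm }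
    have hker : ∀ g, g ∈ φ.ker ↔ g * n = n * g := by
      intro g
      show φ g = 1 ↔ _
      rw [Subtype.ext_iff]
      show g * n * g⁻¹ * n⁻¹ = 1 ↔ _
      rw [mul_inv_eq_one, mul_inv_eq_iff_eq_mul]
    have hnt2 : φ.ker ≠ ⊤ := fun h => hn (Subgroup.mem_center_iff.2 fun g =>
      (hker g).1 (h ▸ Subgroup.mem_top g))
    have hidx : φ.ker.index = p := by
      have hd : φ.ker.index ∣ p := by
        rw [Subgroup.index_ker, ← pow_one p, ← hk]
        exact Subgroup.card_subgroup_dvd_card φ.range
      exact (hp.out.eq_one_or_self_of_dvd _ hd).resolve_left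
        fun h => hnt2 (Subgroup.index_eq_one.1 h)
    have hcard : Nat.card φ.ker = p ^ 3 := by
      have := φ.ker.card_mul_index
      rw [hidx, hP] at this
      exact Nat.eq_of_mul_eq_mul_right hp.out.pos (by rw [this]; ring)
    refine key φ.ker (Subgroup.center P ⊔ Subgroup.zpowers n) hcard ?_ ?_ ?_
    · exact sup_le (fun z hz => (hker z).2 (Subgroup.mem_center_iff.1 hz n).symm)
        (Subgroup.zpowers_le.2 ((hker n).2 rfl))
    · have hlt : Subgroup.center P < Subgroup.center P ⊔ Subgroup.zpowers n :=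
        lt_of_le_not_ge le_sup_left fun h =>
          hn (h (le_sup_right (a := Subgroup.center P) (Subgroup.mem_zpowers n)))
      obtain ⟨i, _, hci⟩ := (Nat.dvd_prime_pow hp.out).1
        (hP ▸ Subgroup.card_subgroup_dvd_card (Subgroup.center P ⊔ Subgroup.zpowers n))
      rw [hci]
      refine pow_dvd_pow p ?_
      by_contra hi
      refine hlt.ne (Subgroup.eq_of_le_of_card_ge hlt.le ?_)
      rw [hci, hk]
      exact Nat.pow_le_pow_right hp.out.pos (by omega)
    · intro z hz m hm
      have hle : Subgroup.center P ⊔ Subgroup.zpowers n ≤ Subgroup.centralizer {m} :=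
        sup_le (Subgroup.center_le_centralizer _) (Subgroup.zpowers_le.2 (by
          rw [Subgroup.mem_centralizer_iff]
          rintro u rfl
          exact (hker u).1 hm))
      exact ((Subgroup.mem_centralizer_iff.1 (hle hz)) m rfl).symm

theorem card_commutator_mul_card_center_pow_four (p : ℕ) [hp : Fact p.Prime]
    (hP : Nat.card P = p ^ 4) (hna : Subgroup.center P ≠ ⊤) :
    Nat.card (commutator P) * Nat.card (Subgroup.center P) = p ^ 3 := by
  obtain ⟨A, hn, hab, hidx⟩ := exists_abelian_index_prime p hP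
  haveI := hn
  rw [← card_eq_card_commutator_mul_card_center A hab (hidx ▸ hp.out) hna]
  have := A.card_mul_index
  rw [hidx, hP] at this
  exact Nat.eq_of_mul_eq_mul_right hp.out.pos (by rw [this]; ring)

end CfsgLib.PGroup.AbelianMax
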