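import Mathlib
import Cfsg.Prelude.Def_PLocal

/-!
Philip Hall's power lemmas for regular `p`-groups.
-/

open Subgroup
open scoped commutatorElement

namespace CfsgLib.PGroup

variable {G : Type*} [Group G]

/-- In a finite nilpotent group, a single element generating modulo the derived group generates. -/
theorem zpowers_eq_top_of_sup_commutator {K : Type*} [Group K] [Finite K] [Group.IsNilpotent K] {x : K}
    (h : Subgroup.zpowers x ⊔ commutator K = ⊤) : Subgroup.zpowers x = ⊤ := by
  by_contra hne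
  obtain ⟨M, hM, hxM⟩ := (eq_top_or_exists_le_coatom (Subgroup.zpowers x)).resolve_left hne
  have hMn : M.Normal := Subgroup.NormalizerCondition.normal_of_coatom M Group.normalizerCondition_of_isNilpotent hM
  have hsimple : ∀ L : Subgroup (K ⧸ M), L = ⊥ ∨ L = ⊤ := by
    intro L
    have hle : M ≤ L.comap (QuotientGroup.mk' M) := fun m hm => by
      rw [Subgroup.mem_comap, QuotientGroup.mk'_apply, (QuotientGroup.eq_one_iff m).2 hm]
      exact one_mem L
    rcases hle.eq_or_lt with heq | hlt
    · left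
      rw [eq_bot_iff]
      intro q hq
      induction q using QuotientGroup.induction_on with
      | H g => exact Subgroup.mem_bot.2 ((QuotientGroup.eq_one_iff g).2 (heq.symm.le hq))
    · right
      apply Subgroup.comap_injective (QuotientGroup.mk'_surjective M)
      rw [hM.2 _ hlt, Subgroup.comap_top]
  have hcomm : ∀ u v : K ⧸ M, u * v = v * u := by
    intro u v
    rcases hsimple (Subgroup.zpowers u) with h1 | h1
    · rw [Subgroup.zpowers_eq_bot.1 h1, one_mul, mul_one]
    · obtain ⟨i, rfl⟩ := Subgroup.mem_zpowers_iff.1 (h1.symm ▸ Subgroup.mem_top v : v ∈ Subgroup.zpowers u)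
      exact (Commute.self_zpow u i).eq
  have hc : commutator K ≤ M := by
    rw [_root_.commutator_def]
    refine Subgroup.commutator_le.2 fun g _ k _ => (QuotientGroup.eq_one_iff _).1 ?_
    rw [← QuotientGroup.mk'_apply M ⁅g, k⁆, map_commutatorElement, commutatorElement_eq_one_iff_mul_comm]
    exact hcomm _ _
  exact hM.1 (top_le_iff.1 (h ▸ sup_le hxM hc))

/-- In a non-commutative two-generated subgroup `H`, `⟨x⟩ [H,H]` is proper. -/
theorem zpowers_sup_commutator_lt [Finite G] {p : ℕ} [Fact p.Prime] (hG : IsPGroup p G) {H : Subgroup G}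
    {a b x : G} (ha : a ∈ H) (hb : b ∈ H) (hab : ¬ Commute a b) (hx : x ∈ H) :
    Subgroup.zpowers x ⊔ ⁅H, H⁆ < H := by
  refine lt_of_le_of_ne (sup_le (Subgroup.zpowers_le.2 hx)
    (Subgroup.commutator_le.2 fun u hu v hv =>
      mul_mem (mul_mem (mul_mem hu hv) (inv_mem hu)) (inv_mem hv))) fun heq => hab ?_
  haveI : Group.IsNilpotent H := (hG.to_subgroup H).isNilpotent
  have htop : Subgroup.zpowers (⟨x, hx⟩ : H) ⊔ commutator H = ⊤ := by
    apply Subgroup.map_injective H.subtype_injective
    rw [Subgroup.map_sup, MonoidHom.map_zpowers, Subgroup.map_subtype_commutator, ← MonoidHom.range_eq_map,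
      Subgroup.range_subtype]
    exact heq
  have hz := zpowers_eq_top_of_sup_commutator htop
  obtain ⟨i, hi⟩ := Subgroup.mem_zpowers_iff.1 (hz.symm ▸ Subgroup.mem_top _ : (⟨a, ha⟩ : H) ∈ _)
  obtain ⟨j, hj⟩ := Subgroup.mem_zpowers_iff.1 (hz.symm ▸ Subgroup.mem_top _ : (⟨b, hb⟩ : H) ∈ _)
  have : Commute (⟨a, ha⟩ : H) ⟨b, hb⟩ := by rw [← hi, ← hj]; exact Commute.zpow_zpow_self _ i j
  exact this.map H.subtype

/-- The derived group of `⟨a, b⟩` lies in any subgroup normalized by `⟨a, b⟩` containing `⁅a, b⁆`. -/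
theorem commutator_closure_pair_le {a b : G} {N : Subgroup G}
    (hN : ∀ g ∈ closure ({a, b} : Set G), ∀ n ∈ N, g * n * g⁻¹ ∈ N) (hc : ⁅a, b⁆ ∈ N) :
    ⁅closure ({a, b} : Set G), closure ({a, b} : Set G)⁆ ≤ N := by
  set H := closure ({a, b} : Set G) with hH
  have hn : (N.subgroupOf H).Normal := ⟨fun n hn g => by
    simpa [Subgroup.mem_subgroupOf] using hN g g.2 n hn⟩
  let π := QuotientGroup.mk' (N.subgroupOf H)
  have ha : a ∈ H := Subgroup.subset_closure (by simp)
  have hb : b ∈ H := Subgroup.subset_closure (by simp)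
  have hcomm : Commute (π ⟨a, ha⟩) (π ⟨b, hb⟩) := by
    rw [← commutatorElement_eq_one_iff_commute, ← map_commutatorElement]
    exact (QuotientGroup.eq_one_iff _).2 hc
  have key : ∀ g (hg : g ∈ H), ∀ y (hy : y ∈ H), Commute (π ⟨g, hg⟩) (π ⟨y, hy⟩) := by
    intro g hg y hy
    induction hg, hy using Subgroup.closure_induction₂ with
    | mem u v hu hv =>
      rcases hu with rfl | rfl <;> rcases hv with rfl | rfl
      · exact Commute.refl _
      · exact hcomm
      · exact hcomm.symm
      · exact Commute.refl _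
    | one_left y hy => exact (map_one π).symm ▸ Commute.one_left _
    | one_right y hy => exact (map_one π).symm ▸ Commute.one_right _
    | mul_left u v w hu hv hw h1 h2 => exact (map_mul π ⟨u, hu⟩ ⟨v, hv⟩).symm ▸ h1.mul_left h2
    | mul_right u v w hu hv hw h1 h2 => exact Commute.mul_right (by simpa using h1) (by simpa using h2) |> (fun h => by simpa [← map_mul] using h)
    | inv_left u v hu hv h1 => exact (map_inv π ⟨u, hu⟩).symm ▸ h1.inv_left
    | inv_right u v hu hv h1 => exact (map_inv π ⟨v, hv⟩).symm ▸ h1.inv_right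
  refine Subgroup.commutator_le.2 fun u hu v hv => ?_
  have h1 := key u hu v hv
  rw [← commutatorElement_eq_one_iff_commute, ← map_commutatorElement] at h1
  exact (QuotientGroup.eq_one_iff (N := N.subgroupOf H) ⁅(⟨u, hu⟩ : H), (⟨v, hv⟩ : H)⁆).1 h1

/-- Hall: in a regular `p`-group `a^(p^k) = b^(p^k)` iff `(a b⁻¹)^(p^k) = 1`. -/
theorem regular_pow_eq_iff [Finite G] {p : ℕ} [Fact p.Prime] (hG : Cfsg.IsRegularPGroup p G) (k : ℕ) :
    ∀ a b : G, a ^ p ^ k = b ^ p ^ k ↔ (a * b⁻¹) ^ p ^ k = 1 := by
  suffices key : ∀ (n : ℕ) (a b : G), Nat.card (closure ({a, b} : Set G)) = n →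
      (a ^ p ^ k = b ^ p ^ k ↔ (a * b⁻¹) ^ p ^ k = 1) from fun a b => key _ a b rfl
  intro n
  induction n using Nat.strong_induction_on with
  | _ n ih =>
    intro a b hn
    set q := p ^ k with hq
    set H := closure ({a, b} : Set G) with hH
    by_cases hcomm : Commute a b
    · rw [hcomm.inv_right.mul_pow, inv_pow, mul_inv_eq_one]
    have ha : a ∈ H := Subgroup.subset_closure (by simp)
    have hb : b ∈ H := Subgroup.subset_closure (by simp)
    -- the induction hypothesis inside proper subgroups of `H`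
    have IH : ∀ L : Subgroup G, L < H → ∀ u ∈ L, ∀ v ∈ L, (u ^ q = v ^ q ↔ (u * v⁻¹) ^ q = 1) := by
      intro L hL u hu v hv
      have hle : closure ({u, v} : Set G) ≤ L := by
        rw [Subgroup.closure_le]; rintro z (rfl | rfl) <;> assumption
      have hlt : Nat.card (closure ({u, v} : Set G)) < n := by
        rw [← hn]
        exact lt_of_le_of_lt (Subgroup.card_le_of_le hle)
          (lt_of_le_of_ne (Subgroup.card_le_of_le hL.le) fun h => hL.ne (Subgroup.eq_of_le_of_card_ge hL.le h.ge))
      exact ih _ hlt u v rfl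
    have hD : ⁅H, H⁆ < H := lt_of_le_of_lt le_sup_right (zpowers_sup_commutator_lt hG.1 ha hb hcomm ha)
    let Ω : Subgroup G :=
      { carrier := {x | x ∈ ⁅H, H⁆ ∧ x ^ q = 1}
        one_mem' := ⟨one_mem _, one_pow q⟩
        inv_mem' := fun {x} hx => ⟨inv_mem hx.1, by rw [inv_pow, hx.2, inv_one]⟩
        mul_mem' := fun {x y} hx hy => by
          refine ⟨mul_mem hx.1 hy.1, ?_⟩
          have := (IH _ hD x hx.1 y⁻¹ (inv_mem hy.1)).1 (by rw [hx.2, inv_pow, hy.2, inv_one])
          rwa [inv_inv] at this }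
    -- if the commutator is killed by `q` then `q`-th powers are multiplicative on `H`
    have mulpow : ⁅a, b⁆ ^ q = 1 → ∀ u ∈ H, ∀ v ∈ H, (u * v) ^ q = u ^ q * v ^ q := by
      intro hc u hu v hv
      have hmem : ⁅a, b⁆ ∈ Ω := ⟨commutator_mem_commutator ha hb, hc⟩
      have hle : ⁅H, H⁆ ≤ Ω := by
        refine commutator_closure_pair_le (fun g hg x hx => ⟨?_, ?_⟩) hmem
        · exact (Subgroup.le_normalizer_iff.1 (normalizer_commutator_ge_left H H)) g hg x hx.1
        · rw [conj_pow, hx.2, mul_one, mul_inv_cancel]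
      obtain ⟨c, hc', e⟩ := hG.2 u v k
      have : Cfsg.powerClosure p k ⁅closure ({u, v} : Set G), closure ({u, v} : Set G)⁆ ≤ ⊥ := by
        rw [Cfsg.powerClosure, Subgroup.closure_le]
        rintro _ ⟨x, hx, rfl⟩
        have hle' : closure ({u, v} : Set G) ≤ H := by
          rw [Subgroup.closure_le]; rintro z (rfl | rfl) <;> assumption
        exact (hle (Subgroup.commutator_mono hle' hle' hx)).2
      rw [Subgroup.mem_bot.1 (this hc'), mul_one] at e
      exact e
    have conj_mem : ∀ x ∈ H, ∀ y ∈ H, y * x * y⁻¹ ∈ Subgroup.zpowers x ⊔ ⁅H, H⁆ := by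
      intro x hx y hy
      have : y * x * y⁻¹ = ⁅y, x⁆ * x := by rw [commutatorElement_def]; group
      rw [this]
      exact mul_mem (le_sup_right (a := Subgroup.zpowers x) (commutator_mem_commutator hy hx))
        (le_sup_left (b := ⁅H, H⁆) (Subgroup.mem_zpowers x))
    have hx : a * b⁻¹ ∈ H := mul_mem ha (inv_mem hb)
    constructor
    · intro h
      have hfix : (b * a * b⁻¹) ^ q = a ^ q := by
        rw [conj_pow, h, (Commute.self_pow b q).eq, mul_inv_cancel_right]
      have h1 := (IH _ (zpowers_sup_commutator_lt hG.1 ha hb hcomm ha) a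
        (le_sup_left (b := ⁅H, H⁆) (Subgroup.mem_zpowers a)) _ (conj_mem a ha b hb)).1 hfix.symm
      have hc : ⁅a, b⁆ ^ q = 1 := by
        rw [show ⁅a, b⁆ = a * (b * a * b⁻¹)⁻¹ by rw [commutatorElement_def]; group]; exact h1
      have e := mulpow hc (a * b⁻¹) hx b hb
      rw [inv_mul_cancel_right, h] at e
      exact mul_eq_right.1 e.symm
    · intro h
      set x := a * b⁻¹ with hxdef
      have hxb : ¬ Commute x b := fun hc => hcomm (by
        have := hc.mul_left (Commute.refl b)
        rwa [hxdef, inv_mul_cancel_right] at this)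
      have h1 := (IH _ (zpowers_sup_commutator_lt hG.1 hx hb hxb hx) x
        (le_sup_left (b := ⁅H, H⁆) (Subgroup.mem_zpowers x)) _ (conj_mem x hx b hb)).1
        (by rw [conj_pow, h, mul_one, mul_inv_cancel])
      have hc : ⁅a, b⁆ ^ q = 1 := by
        rw [show ⁅a, b⁆ = x * (b * x * b⁻¹)⁻¹ by rw [commutatorElement_def, hxdef]; group]; exact h1
      have e := mulpow hc x hx b hb
      rw [hxdef, inv_mul_cancel_right, ← hxdef, h, one_mul] at e
      exact e

/-- In a regular `p`-group the elements killed by `p^k` form a subgroup. -/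
def regularOmega [Finite G] {p : ℕ} [Fact p.Prime] (hG : Cfsg.IsRegularPGroup p G) (k : ℕ) : Subgroup G where
  carrier := {x | x ^ p ^ k = 1}
  one_mem' := one_pow _
  inv_mem' := fun {x} (hx : x ^ p ^ k = 1) => show x⁻¹ ^ p ^ k = 1 by rw [inv_pow, hx, inv_one]
  mul_mem' := fun {x y} (hx : x ^ p ^ k = 1) (hy : y ^ p ^ k = 1) => show (x * y) ^ p ^ k = 1 by
    have := (regular_pow_eq_iff hG k x y⁻¹).1 (by rw [hx, inv_pow, hy, inv_one])
    rwa [inv_inv] at this

theorem regularOmega_characteristic [Finite G] {p : ℕ} [Fact p.Prime] (hG : Cfsg.IsRegularPGroup p G) (k : ℕ) :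
    (regularOmega hG k).Characteristic := by
  refine Subgroup.characteristic_iff_comap_eq.2 fun φ => Subgroup.ext fun x => ?_
  show (φ x) ^ p ^ k = 1 ↔ x ^ p ^ k = 1
  rw [← map_pow, map_eq_one_iff φ φ.injective]

end CfsgLib.PGroup
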