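import Cfsg.Agent.Lib.PGroup.Basic
import Mathlib.GroupTheory.Index
import Mathlib.GroupTheory.IndexNormal
import Mathlib.RingTheory.Coprime.Lemmas
import Mathlib.Tactic.Ring

/-!
Vaughan-Lee's theorem on the derived subgroup of a finite p-group of bounded breadth.

The induction uses two statements about a proper subgroup `C` of index `p`:
* `One`: if `g ∉ C` has at most `p ^ b` conjugates, then `|G'| ≤ p ^ tri b`;
* `Two`: if moreover those outside a second proper subgroup `W` have at most `p ^ (b - 1)`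
  conjugates, then `|G'| ≤ p ^ (tri (b - 1) + 1)`, and the `+ 1` is dropped if `|G : W| > p`.
-/

set_option autoImplicit false

open Subgroup

open scoped commutatorElement

namespace CfsgLib.PGroup.Breadth

universe u

/-- Triangular numbers. -/
def tri : ℕ → ℕ
  | 0 => 0
  | n + 1 => tri n + (n + 1)

theorem two_mul_tri (n : ℕ) : 2 * tri n = n * (n + 1) := by
  induction n with
  | zero => rfl
  | succ n ih => rw [tri, mul_add, ih]; ring

theorem tri_eq (n : ℕ) : tri n = n * (n + 1) / 2 := by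
  rw [← two_mul_tri, Nat.mul_div_cancel_left _ two_pos]

theorem tri_add_le (m e : ℕ) : tri m + e ≤ tri (m + e) := by
  induction e with
  | zero => simp
  | succ e ih => rw [← add_assoc, ← add_assoc, tri]; omega

/-- The arithmetic of the pivot step. -/
theorem pivot_arith (b j q : ℕ) (h : (j ≤ b ∧ q = b) ∨ (b < j ∧ q + j = 2 * b)) (hq : 1 ≤ q) :
    j + tri (q - 1) ≤ tri b := by
  obtain ⟨m, rfl⟩ : ∃ m, q = m + 1 := ⟨q - 1, by omega⟩
  rw [Nat.add_sub_cancel]
  rcases h with ⟨h1, rfl⟩ | ⟨h1, h2⟩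
  · rw [tri]; omega
  · obtain ⟨e, rfl⟩ : ∃ e, b = m + e + 1 := ⟨b - (m + 1), by omega⟩
    have := tri_add_le m e
    rw [tri]; omega

variable {G : Type u} [Group G] [Finite G] {p : ℕ} [hp : Fact p.Prime]

theorem exists_index_prime_ge (hG : IsPGroup p G) {W : Subgroup G} (hW : W ≠ ⊤) :
    ∃ D : Subgroup G, W ≤ D ∧ D.index = p ∧ commutator G ≤ D ∧ ∀ x : G, x ^ p ∈ D := by
  obtain ⟨D, ⟨hWD, hD⟩, hmax⟩ :=
    (Set.toFinite {D : Subgroup G | W ≤ D ∧ D ≠ ⊤}).exists_maximal ⟨W, le_rfl, hW⟩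
  have hco : IsCoatom D := ⟨hD, fun K hK => by_contra fun h =>
    hK.not_ge (hmax ⟨hWD.trans hK.le, h⟩ hK.le)⟩
  haveI : D.Normal := NormalizerCondition.normal_of_coatom D
    (@Group.normalizerCondition_of_isNilpotent _ _ hG.isNilpotent) hco
  obtain ⟨x, -, hxD, hxp, -⟩ := exists_step hG D ⊤ (lt_top_iff_ne_top.2 hD)
  have htop : D ⊔ zpowers x = ⊤ :=
    hco.2 _ (lt_of_le_of_ne le_sup_left fun h => hxD (h ▸ mem_sup_right (mem_zpowers x)))
  refine ⟨D, hWD, ?_, (commutator_le_frattini hG).trans (frattini_le_coatom hco),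
    fun y => frattini_le_coatom hco (pow_mem_frattini hG y)⟩
  have h := card_sup_zpowers hxD hxp
  rw [htop, card_top, ← D.card_mul_index, mul_comm p] at h
  exact Nat.eq_of_mul_eq_mul_left Nat.card_pos h

omit [Finite G] in
theorem mem_commutator' (a b : G) : ⁅a, b⁆ ∈ commutator G := by
  rw [_root_.commutator_def]
  exact commutator_mem_commutator (mem_top a) (mem_top b)

omit [Finite G] in
theorem normal_of_commutator_le {K : Subgroup G} (h : commutator G ≤ K) : K.Normal :=
  ⟨fun a ha g => by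
    have h1 : ⁅g, a⁆ ∈ K := h (mem_commutator' g a)
    have := K.mul_mem h1 ha
    rwa [commutatorElement_def, inv_mul_cancel_right] at this⟩

theorem eq_of_le_of_index_eq {A B : Subgroup G} (h : A ≤ B) (hi : A.index = B.index) : A = B := by
  refine eq_of_le_of_card_ge h ?_
  have h1 := A.card_mul_index
  rw [hi, ← B.card_mul_index] at h1
  exact (Nat.eq_of_mul_eq_mul_right (Nat.pos_of_ne_zero index_ne_zero_of_finite) h1).ge

theorem index_eq_pow (hG : IsPGroup p G) (K : Subgroup G) : ∃ k, K.index = p ^ k := hG.index K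

omit hp in
theorem card_eq_card_mul_card_map (N K : Subgroup G) [N.Normal] (h : N ≤ K) :
    Nat.card K = Nat.card N * Nat.card (K.map (QuotientGroup.mk' N)) := by
  have h1 := relIndex_comap (H := (⊥ : Subgroup (G ⧸ N))) (f := QuotientGroup.mk' N) (K := K)
  rw [MonoidHom.comap_bot, QuotientGroup.ker_mk', relIndex_bot_left] at h1
  rw [← h1, relIndex, ← (N.subgroupOf K).card_mul_index,
    Nat.card_congr (subgroupOfEquivOfLe h).toEquiv]

omit [Finite G] hp in
theorem comm_central_hom {g : G} {K : Subgroup G} (hK : ∀ y ∈ K, ⁅g, y⁆ ∈ center G) (x y : K) :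
    ⁅g, ((x * y : K) : G)⁆ = ⁅g, (x : G)⁆ * ⁅g, (y : G)⁆ := by
  have h := mem_center_iff.1 (hK y y.2) (x : G)
  calc ⁅g, ((x * y : K) : G)⁆ = ⁅g, (x : G)⁆ * ((x : G) * ⁅g, (y : G)⁆ * (x : G)⁻¹) := by
        simp only [commutatorElement_def, Subgroup.coe_mul]; group
    _ = ⁅g, (x : G)⁆ * ⁅g, (y : G)⁆ := by rw [h, mul_inv_cancel_right]

/-- A pivot: an element `a` central modulo the centre, with `T = [a, G]`. -/
structure Pivot (G : Type u) [Group G] where
  a : G
  central : ∀ y : G, ⁅a, y⁆ ∈ center G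

namespace Pivot

variable (P : Pivot G)

/-- The map `y ↦ [a, y]`. -/
def hom : G →* G :=
  MonoidHom.mk' (fun y => ⁅P.a, y⁆) fun x y => by
    have h := mem_center_iff.1 (P.central y) x
    calc ⁅P.a, x * y⁆ = ⁅P.a, x⁆ * (x * ⁅P.a, y⁆ * x⁻¹) := by
          simp only [commutatorElement_def]; group
      _ = ⁅P.a, x⁆ * ⁅P.a, y⁆ := by rw [h, mul_inv_cancel_right]

/-- The subgroup `[a, G]`. -/
def T : Subgroup G := P.hom.range

/-- The centraliser of `a`. -/
def H : Subgroup G := P.hom.ker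

omit [Finite G] hp in
theorem hom_apply (y : G) : P.hom y = ⁅P.a, y⁆ := rfl

omit [Finite G] hp in
theorem T_le_center : P.T ≤ center G := by
  rintro _ ⟨y, rfl⟩; exact P.central y

omit [Finite G] hp in
theorem T_normal : P.T.Normal :=
  ⟨fun n hn g => by
    rw [mem_center_iff.1 (P.T_le_center hn) g, mul_inv_cancel_right]; exact hn⟩

omit [Finite G] hp in
theorem T_le_commutator : P.T ≤ commutator G := by
  rintro _ ⟨y, rfl⟩; exact mem_commutator' _ _

omit [Finite G] hp in
theorem T_le_H : P.T ≤ P.H := by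
  intro t ht
  rw [H, MonoidHom.mem_ker, hom_apply, commutatorElement_eq_one_iff_mul_comm]
  exact mem_center_iff.1 (P.T_le_center ht) P.a

theorem card_T : Nat.card P.T = P.H.index := (index_ker P.hom).symm

omit [Finite G] hp in
theorem mem_H {y : G} : y ∈ P.H ↔ ⁅P.a, y⁆ = 1 := Iff.rfl

/-- Bounds for the class size of `g` modulo `[a, G]`. -/
theorem bounds (hG : IsPGroup p G) [P.T.Normal] {b j : ℕ} (hj : P.H.index = p ^ j) {g : G}
    (hg : (centralizer {g}).index ≤ p ^ b) (hga : (centralizer {g * P.a}).index ≤ p ^ b) :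
    ∃ i, (centralizer {QuotientGroup.mk' P.T g}).index = p ^ i ∧ i ≤ b ∧ i + j ≤ 2 * b ∧
      (g ∉ P.H → i + 1 ≤ b ∧ i + 1 + j ≤ 2 * b) := by
  obtain ⟨i, hi⟩ := index_eq_pow (hG.to_quotient P.T) (centralizer {QuotientGroup.mk' P.T g})
  refine ⟨i, hi, ?_⟩
  set K := (centralizer {QuotientGroup.mk' P.T g}).comap (QuotientGroup.mk' P.T) with hK
  have hKi : K.index = p ^ i := by
    rw [hK, index_comap_of_surjective _ (QuotientGroup.mk'_surjective _), hi]
  have hmemK : ∀ y : G, y ∈ K → ⁅g, y⁆ ∈ P.T := by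
    intro y hy
    rw [hK, mem_comap, mem_centralizer_singleton_iff, eq_comm,
      ← commutatorElement_eq_one_iff_mul_comm, ← map_commutatorElement, QuotientGroup.mk'_apply,
      QuotientGroup.eq_one_iff] at hy
    exact hy
  have hmemK' : ∀ y : G, ⁅g, y⁆ ∈ P.T → y ∈ K := by
    intro y hy
    rw [hK, mem_comap, mem_centralizer_singleton_iff, eq_comm,
      ← commutatorElement_eq_one_iff_mul_comm, ← map_commutatorElement, QuotientGroup.mk'_apply,
      QuotientGroup.eq_one_iff]
    exact hy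
  have hga' : ∀ y : G, ⁅g, y⁆ ∈ center G → ⁅g * P.a, y⁆ = ⁅g, y⁆ * ⁅P.a, y⁆ := by
    intro y hy
    have h1 := mem_center_iff.1 (P.central y) g
    calc ⁅g * P.a, y⁆ = g * ⁅P.a, y⁆ * g⁻¹ * ⁅g, y⁆ := by simp only [commutatorElement_def]; group
      _ = ⁅g, y⁆ * ⁅P.a, y⁆ := by
        rw [h1, mul_inv_cancel_right]; exact mem_center_iff.1 hy _
  have hcg : ∀ y ∈ K, ⁅g, y⁆ ∈ center G := fun y hy => P.T_le_center (hmemK y hy)
  have hcga : ∀ y ∈ K, ⁅g * P.a, y⁆ ∈ center G := fun y hy => by
    rw [hga' y (hcg y hy)]; exact mul_mem (hcg y hy) (P.central y)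
  set f : K →* G := MonoidHom.mk' (fun y : K => ⁅g, (y : G)⁆) (comm_central_hom hcg) with hf
  set f' : K →* G := MonoidHom.mk' (fun y : K => ⁅g * P.a, (y : G)⁆) (comm_central_hom hcga) with hf'
  have hbound : ∀ (x : G) (φ : K →* G), (∀ y : K, φ y = ⁅x, (y : G)⁆) →
      (∀ y : G, y ∈ centralizer ({x} : Set G) → y ∈ K) → (centralizer {x}).index ≤ p ^ b →
      Nat.card φ.range * p ^ i ≤ p ^ b := by
    intro x φ hφ hle hx
    have hker : φ.ker = (centralizer {x}).subgroupOf K := by
      ext y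
      rw [MonoidHom.mem_ker, hφ, mem_subgroupOf, mem_centralizer_singleton_iff,
        commutatorElement_eq_one_iff_mul_comm, eq_comm]
    rw [← index_ker, hker, ← hKi, ← relIndex, relIndex_mul_index hle]
    exact hx
  have hS : Nat.card f.range * p ^ i ≤ p ^ b :=
    hbound g f (fun _ => rfl) (fun y hy => hmemK' y (by
      rw [commutatorElement_eq_one_iff_mul_comm.2 (mem_centralizer_singleton_iff.1 hy).symm]
      exact one_mem _)) hg
  have hS' : Nat.card f'.range * p ^ i ≤ p ^ b := by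
    refine hbound (g * P.a) f' (fun _ => rfl) (fun y hy => ?_) hga
    rw [hK, mem_comap, mem_centralizer_singleton_iff]
    have h1 : QuotientGroup.mk' P.T (g * P.a) * QuotientGroup.mk' P.T y
        = QuotientGroup.mk' P.T y * QuotientGroup.mk' P.T (g * P.a) := by
      rw [← map_mul, ← map_mul, mem_centralizer_singleton_iff.1 hy]
    have hac : ∀ q : G ⧸ P.T, QuotientGroup.mk' P.T P.a * q = q * QuotientGroup.mk' P.T P.a := by
      intro q
      obtain ⟨x, rfl⟩ := QuotientGroup.mk'_surjective P.T q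
      rw [← commutatorElement_eq_one_iff_mul_comm, ← map_commutatorElement, QuotientGroup.mk'_apply,
        QuotientGroup.eq_one_iff]
      exact ⟨x, rfl⟩
    rw [map_mul, mul_assoc, hac, ← mul_assoc, ← mul_assoc] at h1
    exact (mul_right_cancel h1).symm
  have hA : P.H.index ≤ p ^ i * Nat.card (K.map P.hom) := by
    have h1 := relIndex_comap (H := (⊥ : Subgroup G)) (f := P.hom) (K := K)
    rw [MonoidHom.comap_bot, relIndex_bot_left] at h1
    rw [← h1, ← hKi, mul_comm, ← inf_relIndex_right, relIndex_mul_index inf_le_right]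
    exact Nat.le_of_dvd (Nat.pos_of_ne_zero index_ne_zero_of_finite)
      (index_dvd_of_le (inf_le_left (a := P.hom.ker) (b := K)))
  have hSn : ∀ φ : K →* G, (∀ y, φ y ∈ center G) → φ.range.Normal := by
    intro φ hφ
    refine ⟨fun n hn x => ?_⟩
    obtain ⟨y, hy⟩ := hn
    rw [← hy, mem_center_iff.1 (hφ y) x, mul_inv_cancel_right]
    exact ⟨y, rfl⟩
  haveI := hSn f fun y => hcg y y.2
  have hle : K.map P.hom ≤ f.range ⊔ f'.range := by
    rintro _ ⟨y, hy, rfl⟩
    have h1 : P.hom y = (f ⟨y, hy⟩)⁻¹ * f' ⟨y, hy⟩ := by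
      show ⁅P.a, y⁆ = ⁅g, y⁆⁻¹ * ⁅g * P.a, y⁆
      rw [hga' y (hcg y hy), inv_mul_cancel_left]
    rw [h1]
    exact mul_mem (mem_sup_left (inv_mem ⟨_, rfl⟩)) (mem_sup_right ⟨_, rfl⟩)
  have hsup : Nat.card ↥(f.range ⊔ f'.range) * Nat.card ↥(f.range ⊓ f'.range)
      = Nat.card f.range * Nat.card f'.range := by
    have e1 := (f.range.subgroupOf (f.range ⊔ f'.range)).card_mul_index
    rw [← relIndex, Nat.card_congr (subgroupOfEquivOfLe le_sup_left).toEquiv, sup_comm,
      relIndex_sup_right] at e1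
    have e2 := (f.range.subgroupOf f'.range).card_mul_index
    rw [← relIndex] at e2
    have e3 : Nat.card ↥(f.range.subgroupOf f'.range) = Nat.card ↥(f.range ⊓ f'.range) := by
      rw [← Nat.card_congr (subgroupOfEquivOfLe (inf_le_right (a := f.range) (b := f'.range))).toEquiv,
        inf_subgroupOf_right]
    rw [e3] at e2
    rw [sup_comm f.range, ← e1, ← e2]; ring
  have hmain : p ^ j * Nat.card ↥(f.range ⊓ f'.range) * p ^ i ≤ p ^ (2 * b) := by
    calc p ^ j * Nat.card ↥(f.range ⊓ f'.range) * p ^ i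
        ≤ p ^ i * Nat.card (K.map P.hom) * Nat.card ↥(f.range ⊓ f'.range) * p ^ i := by
          rw [← hj]; gcongr
      _ ≤ p ^ i * Nat.card ↥(f.range ⊔ f'.range) * Nat.card ↥(f.range ⊓ f'.range) * p ^ i := by
          gcongr
          exact card_le_of_le hle
      _ = (Nat.card f.range * p ^ i) * (Nat.card f'.range * p ^ i) := by
          rw [mul_assoc (p ^ i), hsup]; ring
      _ ≤ p ^ b * p ^ b := Nat.mul_le_mul hS hS'
      _ = p ^ (2 * b) := by rw [← pow_add, two_mul]
  have hp1 := hp.out.one_lt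
  have hb1 : i ≤ b := (Nat.pow_le_pow_iff_right hp1).1
    (le_trans (Nat.le_mul_of_pos_left _ Nat.card_pos) hS)
  refine ⟨hb1, ?_, fun hgH => ?_⟩
  · refine (Nat.pow_le_pow_iff_right hp1).1 ?_
    rw [pow_add, mul_comm]
    refine le_trans ?_ hmain
    rw [mul_right_comm]
    exact Nat.le_mul_of_pos_right _ Nat.card_pos
  · have hne : ∀ S : Subgroup G, ⁅g, P.a⁆ ∈ S → p ≤ Nat.card S := by
      intro S hS
      obtain ⟨k, hk⟩ := (hG.to_subgroup S).exists_card_eq
      rcases k with _ | k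
      · exfalso
        rw [pow_zero] at hk
        rw [card_eq_one.1 hk, mem_bot, ← commutatorElement_inv, inv_eq_one] at hS
        exact hgH (P.mem_H.2 hS)
      · rw [hk, pow_succ']; exact Nat.le_mul_of_pos_right _ (pow_pos hp.out.pos k)
    have haK : P.a ∈ K := hmemK' _ (by
      rw [← commutatorElement_inv]; exact inv_mem ⟨g, rfl⟩)
    have h1 : ⁅g, P.a⁆ ∈ f.range := ⟨⟨P.a, haK⟩, rfl⟩
    have h2 : ⁅g, P.a⁆ ∈ f'.range := ⟨⟨P.a, haK⟩, by
      show ⁅g * P.a, P.a⁆ = ⁅g, P.a⁆
      rw [hga' _ (hcg _ haK), commutatorElement_self, mul_one]⟩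
    constructor
    · refine (Nat.pow_le_pow_iff_right hp1).1 ?_
      rw [pow_succ']
      exact le_trans (Nat.mul_le_mul_right _ (hne _ h1)) hS
    · refine (Nat.pow_le_pow_iff_right hp1).1 ?_
      calc p ^ (i + 1 + j) = p ^ j * p * p ^ i := by rw [pow_add, pow_succ]; ring
        _ ≤ p ^ j * Nat.card ↥(f.range ⊓ f'.range) * p ^ i := by
          gcongr
          exact hne _ ⟨h1, h2⟩
        _ ≤ p ^ (2 * b) := hmain

end Pivot

/-- The first statement of the induction. -/
def One (p b : ℕ) : Prop :=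
  ∀ (G : Type u) [Group G] [Finite G], IsPGroup p G → ∀ C : Subgroup G, C ≠ ⊤ →
    (∀ g, g ∉ C → (centralizer ({g} : Set G)).index ≤ p ^ b) →
    Nat.card (commutator G) ≤ p ^ tri b

/-- The second statement of the induction. -/
def Two (p b : ℕ) : Prop :=
  ∀ (G : Type u) [Group G] [Finite G], IsPGroup p G → ∀ C W : Subgroup G, C.index = p → W ≠ ⊤ →
    ¬ W ≤ C → (∀ g, g ∉ C → (centralizer ({g} : Set G)).index ≤ p ^ b) →
    (∀ g, g ∉ C → g ∉ W → (centralizer ({g} : Set G)).index * p ≤ p ^ b) →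
    Nat.card (commutator G) ≤ p ^ (tri (b - 1) + 1) ∧
      ((W.index = p → b ≤ 1) → Nat.card (commutator G) ≤ p ^ tri (b - 1))

theorem le_of_mul_le {x b : ℕ} (h : x * p ≤ p ^ (b + 1)) : x ≤ p ^ b := by
  rw [pow_succ] at h
  exact Nat.le_of_mul_le_mul_right h hp.out.pos

omit [Finite G] hp in
theorem forall_mem_of_complement {C K : Subgroup G} (hC : C ≠ ⊤) (h : ∀ g, g ∉ C → g ∈ K) :
    ∀ g, g ∈ K := by
  intro g
  by_cases hg : g ∈ C
  · obtain ⟨x, hx⟩ : ∃ x, x ∉ C := by
      by_contra hall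
      push Not at hall
      exact hC (eq_top_iff.2 fun y _ => hall y)
    have h1 : g * x ∉ C := fun h' => hx ((C.mul_mem_cancel_left hg).1 h')
    have := K.mul_mem (h _ h1) (K.inv_mem (h x hx))
    rwa [mul_inv_cancel_right] at this
  · exact h g hg

theorem mem_center_of_index_le_one {g : G} (h : (centralizer ({g} : Set G)).index ≤ 1) :
    g ∈ center G := by
  have h1 : centralizer ({g} : Set G) = ⊤ :=
    index_eq_one.1 (le_antisymm h (Nat.one_le_iff_ne_zero.2 index_ne_zero_of_finite))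
  rw [mem_center_iff]
  intro y
  exact mem_centralizer_singleton_iff.1 (h1 ▸ mem_top y)

omit hp in
theorem card_commutator_map {K : Subgroup G} :
    Nat.card (⁅K, K⁆ : Subgroup G) = Nat.card (commutator K) := by
  rw [← map_subtype_commutator, card_map_of_injective K.subtype_injective]

omit hp in
theorem index_centralizer_subtype (K : Subgroup G) (e : K) :
    (centralizer ({e} : Set K)).index = (centralizer ({(e : G)} : Set G)).relIndex K := by
  rw [relIndex]
  congr 1
  ext y
  rw [mem_subgroupOf, mem_centralizer_singleton_iff, mem_centralizer_singleton_iff, Subtype.ext_iff]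
  rfl

theorem two_step {b : ℕ} (hb : 1 ≤ b) (ih : ∀ c < b, One.{u} p c ∧ (1 ≤ c → Two.{u} p c)) :
    Two.{u} p b := by
  intro G _ _ hG C W hCi hW hWC hall hout
  have hP := hp.out
  have hp1 := hP.one_lt
  obtain ⟨k, rfl⟩ : ∃ k, b = k + 1 := ⟨b - 1, by omega⟩
  rw [Nat.add_sub_cancel]
  have hCtop : C ≠ ⊤ := fun h => by rw [h, index_top] at hCi; exact hP.ne_one hCi.symm
  have hmono : ∀ {x : ℕ}, x ≤ p ^ tri k → x ≤ p ^ (tri k + 1) ∧
      ((W.index = p → k + 1 ≤ 1) → x ≤ p ^ tri k) := fun h =>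
    ⟨h.trans (Nat.pow_le_pow_right hP.pos (Nat.le_succ _)), fun _ => h⟩
  by_cases hsmall : ∀ g, g ∉ C → (centralizer ({g} : Set G)).index * p ≤ p ^ (k + 1)
  · exact hmono ((ih k (Nat.lt_succ_self k)).1 G hG C hCtop fun g hg => le_of_mul_le (hsmall g hg))
  push Not at hsmall
  obtain ⟨m, hmC, hmlt⟩ := hsmall
  have hmW : m ∈ W := by_contra fun h => absurd (hout m hmC h) (Nat.not_le.2 hmlt)
  obtain ⟨D, hWD, hDi, hDc, hDp⟩ := exists_index_prime_ge hG hW
  obtain ⟨C', hC'C, hC'i, hCc, hCp⟩ := exists_index_prime_ge hG hCtop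
  obtain rfl : C = C' := eq_of_le_of_index_eq hC'C (by rw [hCi, hC'i])
  haveI hCn : C.Normal := normal_of_commutator_le hCc
  haveI hDn : D.Normal := normal_of_commutator_le hDc
  obtain ⟨y, hyC, hyD⟩ : ∃ y, y ∈ C ∧ y ∉ D := by
    by_contra hh
    push Not at hh
    have : C = D := eq_of_le_of_index_eq hh (by rw [hCi, hDi])
    exact hWC (this ▸ hWD)
  have hmD : m ∈ D := hWD hmW
  haveI hN : (C ⊓ D).Normal := normal_of_commutator_le (le_inf hCc hDc)
  set E := (C ⊓ D) ⊔ zpowers (y * m) with hEdef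
  haveI hEn : E.Normal := normal_of_commutator_le (le_trans (le_inf hCc hDc) le_sup_left)
  have hymC : y * m ∉ C := fun h => hmC ((C.mul_mem_cancel_left hyC).1 h)
  have hymD : y * m ∉ D := fun h => hyD ((D.mul_mem_cancel_right hmD).1 h)
  have hEi : E.index = p := by
    have h1 : Nat.card E = p * Nat.card (C ⊓ D : Subgroup G) :=
      card_sup_zpowers (A := C ⊓ D) (p := p) (fun h => hymC h.1) ⟨hCp _, hDp _⟩
    have h2 : D.relIndex C = p := by
      rw [← relIndex_sup_right, ← hDi]
      have : C ⊔ D = ⊤ := by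
        by_contra hne
        obtain ⟨K, hK, hKi, -, -⟩ := exists_index_prime_ge hG hne
        have : D = K := eq_of_le_of_index_eq (le_sup_right.trans hK) (by rw [hDi, hKi])
        exact hyD (this ▸ hK (mem_sup_left hyC))
      rw [this, relIndex_top_right]
    have h3 : Nat.card (C ⊓ D : Subgroup G) * p = Nat.card C := by
      rw [← h2, ← (D.subgroupOf C).card_mul_index, relIndex]
      congr 1
      rw [← Nat.card_congr (subgroupOfEquivOfLe (inf_le_left (a := C) (b := D))).toEquiv,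
        inf_subgroupOf_left]
    have h4 := E.card_mul_index
    rw [h1, mul_comm p, h3, ← C.card_mul_index, hCi] at h4
    exact Nat.eq_of_mul_eq_mul_left Nat.card_pos h4
  have hED : ∀ e ∈ E, e ∈ D → e ∈ C := by
    intro e he heD
    obtain ⟨c, hc, w, hw, rfl⟩ := mem_sup_of_normal_left (s := C ⊓ D).1 he
    obtain ⟨i, rfl⟩ := mem_zpowers_iff.1 hw
    have h1 : (y * m) ^ i ∈ D := (D.mul_mem_cancel_left hc.2).1 heD
    refine C.mul_mem hc.1 ?_
    by_cases hpi : (p : ℤ) ∣ i
    · obtain ⟨l, rfl⟩ := hpi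
      rw [zpow_mul, zpow_natCast]
      exact zpow_mem (hCp _) l
    · exfalso
      refine hymD ?_
      obtain ⟨α, β, hαβ⟩ := ((Nat.prime_iff_prime_int.1 hP).coprime_iff_not_dvd.2 hpi)
      rw [← zpow_one (y * m), ← hαβ, zpow_add, mul_comm α, zpow_mul, mul_comm β, zpow_mul,
        zpow_natCast]
      exact mul_mem (zpow_mem (hDp _) _) (zpow_mem h1 _)
  have hmE : m ∉ E := fun h => hmC (hED m h hmD)
  have hEgen : E ⊔ zpowers m = ⊤ := by
    by_contra hne
    obtain ⟨K, hK, hKi, -, -⟩ := exists_index_prime_ge hG hne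
    have : E = K := eq_of_le_of_index_eq (le_sup_left.trans hK) (by rw [hEi, hKi])
    exact hmE (this ▸ hK (mem_sup_right (mem_zpowers m)))
  have hEC : C.subgroupOf E ≠ ⊤ := fun h => hymC (by
    have := mem_top (⟨y * m, mem_sup_right (mem_zpowers _)⟩ : E)
    rw [← h, mem_subgroupOf] at this
    exact this)
  have hEW : ∀ e : E, e ∉ C.subgroupOf E → (e : G) ∉ W := fun e he h => he (hED e e.2 (hWD h))
  have hcentE : ∀ e : E, (centralizer ({e} : Set E)).index ≤ (centralizer ({(e : G)} : Set G)).index :=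
    fun e => by
      rw [index_centralizer_subtype]
      exact Nat.le_of_dvd (Nat.pos_of_ne_zero index_ne_zero_of_finite)
        (relIndex_dvd_index_normal_right _ _)
  have hEall : ∀ e : E, e ∉ C.subgroupOf E → (centralizer ({e} : Set E)).index ≤ p ^ k := fun e he =>
    (hcentE e).trans (le_of_mul_le (hout e (fun h => he h) (hEW e he)))
  -- the map `e ↦ [m, e]` modulo `E'`
  haveI hE'n : (⁅E, E⁆ : Subgroup G).Normal := Subgroup.commutator_normal E E
  set π := QuotientGroup.mk' (⁅E, E⁆ : Subgroup G) with hπ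
  have hEab : ∀ e ∈ E, ∀ f ∈ E, π e * π f = π f * π e := by
    intro e he f hf
    rw [← commutatorElement_eq_one_iff_mul_comm, ← map_commutatorElement, hπ, QuotientGroup.mk'_apply,
      QuotientGroup.eq_one_iff]
    exact commutator_mem_commutator he hf
  have hmemE : ∀ e ∈ E, ⁅m, e⁆ ∈ E := fun e he =>
    le_trans (le_inf hCc hDc) le_sup_left (mem_commutator' m e)
  let δ : E →* G ⧸ (⁅E, E⁆ : Subgroup G) := MonoidHom.mk' (fun e => π ⁅m, (e : G)⁆) fun x z => by
    calc π ⁅m, ((x * z : E) : G)⁆ = π ⁅m, (x : G)⁆ * (π x * π ⁅m, (z : G)⁆ * (π x)⁻¹) := by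
          rw [← map_inv, ← map_mul, ← map_mul, ← map_mul]
          congr 1
          simp only [commutatorElement_def, Subgroup.coe_mul]; group
      _ = π ⁅m, (x : G)⁆ * π ⁅m, (z : G)⁆ := by
          rw [hEab _ x.2 _ (hmemE _ z.2), mul_inv_cancel_right]
  have hδker : ∀ e : E, e ∈ δ.ker ↔ π m * π e = π e * π m := fun e => by
    rw [MonoidHom.mem_ker, ← commutatorElement_eq_one_iff_mul_comm, ← map_commutatorElement]
    rfl
  have hR0 : δ.range.Normal := by
    refine ⟨fun x hx q => ?_⟩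
    obtain ⟨g, rfl⟩ := QuotientGroup.mk'_surjective _ q
    obtain ⟨e, rfl⟩ := hx
    obtain ⟨f, hf, w, hw, rfl⟩ := mem_sup_of_normal_left (s := E).1 (hEgen.symm ▸ mem_top g)
    obtain ⟨i, rfl⟩ := mem_zpowers_iff.1 hw
    refine ⟨⟨m ^ i * e * (m ^ i)⁻¹, hEn.conj_mem _ e.2 _⟩, ?_⟩
    show π ⁅m, m ^ i * e * (m ^ i)⁻¹⁆ = π (f * m ^ i) * π ⁅m, (e : G)⁆ * (π (f * m ^ i))⁻¹
    have h1 : ⁅m, m ^ i * (e : G) * (m ^ i)⁻¹⁆ = m ^ i * ⁅m, (e : G)⁆ * (m ^ i)⁻¹ := by
      simp only [commutatorElement_def]; group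
    rw [h1, map_mul π f, mul_inv_rev, map_mul, map_mul, map_inv]
    have h2 : Commute (π f) (π (m ^ i) * π ⁅m, (e : G)⁆ * (π (m ^ i))⁻¹) := by
      rw [← map_inv, ← map_mul, ← map_mul]
      exact hEab f hf _ (hEn.conj_mem _ (hmemE _ e.2) _)
    rw [show π f * π (m ^ i) * π ⁅m, (e : G)⁆ * ((π (m ^ i))⁻¹ * (π f)⁻¹)
      = π f * (π (m ^ i) * π ⁅m, (e : G)⁆ * (π (m ^ i))⁻¹) * (π f)⁻¹ by simp only [mul_assoc],
      h2.eq, mul_inv_cancel_right]
  have hcard : Nat.card (commutator G) ≤ Nat.card (commutator E) * δ.ker.index := by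
    set N0 := δ.range.comap π with hN0
    have hle : commutator G ≤ N0 := by
      rw [commutator_eq_closure, closure_le]
      rintro _ ⟨g, h, rfl⟩
      rw [SetLike.mem_coe, hN0, mem_comap, ← QuotientGroup.eq_one_iff (N := δ.range),
        ← QuotientGroup.mk'_apply (N := δ.range), map_commutatorElement, map_commutatorElement,
        commutatorElement_eq_one_iff_mul_comm]
      set ρ := (QuotientGroup.mk' δ.range).comp π
      show Commute (ρ g) (ρ h)
      have hme : ∀ e ∈ E, Commute (ρ m) (ρ e) := fun e he => by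
        show ρ m * ρ e = ρ e * ρ m
        rw [← commutatorElement_eq_one_iff_mul_comm, ← map_commutatorElement]
        show (QuotientGroup.mk' δ.range) (π ⁅m, e⁆) = 1
        rw [QuotientGroup.mk'_apply, QuotientGroup.eq_one_iff]
        exact ⟨⟨e, he⟩, rfl⟩
      have hee : ∀ e ∈ E, ∀ f ∈ E, Commute (ρ e) (ρ f) := fun e he f hf =>
        (show Commute (π e) (π f) from hEab e he f hf).map (QuotientGroup.mk' δ.range)
      obtain ⟨e, he, w, hw, rfl⟩ := mem_sup_of_normal_left (s := E).1 (hEgen.symm ▸ mem_top g)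
      obtain ⟨i, rfl⟩ := mem_zpowers_iff.1 hw
      obtain ⟨f, hf, w, hw, rfl⟩ := mem_sup_of_normal_left (s := E).1 (hEgen.symm ▸ mem_top h)
      obtain ⟨l, rfl⟩ := mem_zpowers_iff.1 hw
      simp only [map_mul, map_zpow]
      exact Commute.mul_left ((hee e he f hf).mul_right ((hme e he).symm.zpow_right l))
        (((hme f hf).zpow_left i).mul_right (Commute.zpow_zpow_self _ i l))
    have hE'N : (⁅E, E⁆ : Subgroup G) ≤ N0 := fun x hx => by
      rw [hN0, mem_comap, hπ, QuotientGroup.mk'_apply, (QuotientGroup.eq_one_iff x).2 hx]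
      exact one_mem _
    refine (card_le_of_le hle).trans ?_
    rw [card_eq_card_mul_card_map _ N0 hE'N, card_commutator_map, hN0,
      map_comap_eq_self_of_surjective (QuotientGroup.mk'_surjective _), index_ker]
  obtain ⟨κ, hκ⟩ := index_eq_pow (hG.to_subgroup E) δ.ker
  rw [hκ] at hcard
  have hCEm : ∀ e : E, (e : G) ∈ centralizer ({m} : Set G) → e ∈ δ.ker := fun e he => by
    rw [hδker, ← map_mul, ← map_mul, mem_centralizer_singleton_iff.1 he]
  have hκb : κ ≤ k + 1 := by
    refine (Nat.pow_le_pow_iff_right hp1).1 (hκ ▸ ?_)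
    refine le_trans (Nat.le_of_dvd (Nat.pos_of_ne_zero index_ne_zero_of_finite)
      (index_dvd_of_le (H := (centralizer ({m} : Set G)).subgroupOf E) fun e he => hCEm e he)) ?_
    exact le_trans (Nat.le_of_dvd (Nat.pos_of_ne_zero index_ne_zero_of_finite)
      (relIndex_dvd_index_normal_right _ _)) (hall m hmC)
  have hκs : W.index ≠ p → κ ≤ k := by
    intro hne
    obtain ⟨z, hzC, hzE, hzW⟩ : ∃ z, z ∈ C ∧ z ∈ E ∧ z ∉ W := by
      by_contra hh
      push Not at hh
      refine hne ?_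
      have hle : C ⊓ D ≤ W := fun x hx => hh x hx.1 (mem_sup_left hx)
      have h1 : Nat.card (C ⊓ D : Subgroup G) * p ≤ Nat.card W := by
        have hsub : (C ⊓ D) ⊔ zpowers m ≤ W := sup_le hle (zpowers_le.2 hmW)
        refine le_trans (le_of_eq ?_) (card_le_of_le hsub)
        rw [card_sup_zpowers (A := C ⊓ D) (p := p) (fun h => hmC h.1) ⟨hCp _, hDp _⟩, mul_comm]
      have h2 : Nat.card D ≤ Nat.card W := by
        have h3 : Nat.card E = p * Nat.card (C ⊓ D : Subgroup G) :=
          card_sup_zpowers (A := C ⊓ D) (p := p) (fun h => hymC h.1) ⟨hCp _, hDp _⟩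
        have h4 : Nat.card E = Nat.card D := by
          have := E.card_mul_index
          rw [hEi, ← D.card_mul_index, hDi] at this
          exact Nat.eq_of_mul_eq_mul_right hP.pos this
        rw [← h4, h3, mul_comm]; exact h1
      rw [eq_of_le_of_card_ge hWD h2, hDi]
    have hxC : m * z ∉ C := fun h => hmC ((C.mul_mem_cancel_right hzC).1 h)
    have hxW : m * z ∉ W := fun h => hzW ((W.mul_mem_cancel_left hmW).1 h)
    have h1 := le_of_mul_le (hout _ hxC hxW)
    refine (Nat.pow_le_pow_iff_right hp1).1 (hκ ▸ le_trans ?_ h1)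
    refine le_trans (Nat.le_of_dvd (Nat.pos_of_ne_zero index_ne_zero_of_finite)
      (index_dvd_of_le (H := (centralizer ({m * z} : Set G)).subgroupOf E) fun e he => ?_))
      (Nat.le_of_dvd (Nat.pos_of_ne_zero index_ne_zero_of_finite) (relIndex_dvd_index_normal_right _ _))
    rw [hδker]
    have h2 : π (m * z) * π e = π e * π (m * z) := by
      rw [← map_mul, ← map_mul, mem_centralizer_singleton_iff.1 (show (e : G) ∈ _ from he)]
    rw [map_mul, mul_assoc, hEab z hzE e e.2, ← mul_assoc, ← mul_assoc] at h2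
    exact mul_right_cancel h2
  -- elements of `E` outside `C` and the kernel of `δ`
  have hEout : ∀ e : E, e ∉ C.subgroupOf E → e ∉ δ.ker →
      (centralizer ({e} : Set E)).index * p ≤ p ^ k := by
    intro e he heδ
    have hsub : centralizer ({(e : G)} : Set G) ≤ E := by
      intro g hg
      obtain ⟨f, hf, w, hw, rfl⟩ := mem_sup_of_normal_left (s := E).1 (hEgen.symm ▸ mem_top g)
      obtain ⟨i, rfl⟩ := mem_zpowers_iff.1 hw
      refine E.mul_mem hf ?_
      by_cases hpi : (p : ℤ) ∣ i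
      · obtain ⟨l, rfl⟩ := hpi
        rw [zpow_mul, zpow_natCast]
        exact zpow_mem (show m ^ p ∈ E from mem_sup_left (show m ^ p ∈ C ⊓ D from ⟨hCp m, hDp m⟩)) l
      · exfalso
        refine heδ ((hδker e).2 ?_)
        have h1 : Commute (π f * π (m ^ i)) (π e) := by
          rw [← map_mul]
          show π (f * m ^ i) * π e = π e * π (f * m ^ i)
          rw [← map_mul, ← map_mul, mem_centralizer_singleton_iff.1 hg]
        have h2 := (show Commute (π f) (π e) from hEab f hf e e.2).inv_left.mul_left h1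
        rw [inv_mul_cancel_left, map_zpow] at h2
        have h3 : Commute (π m ^ (p : ℤ)) (π e) := by
          rw [zpow_natCast, ← map_pow]
          exact hEab _ (show m ^ p ∈ E from mem_sup_left (show m ^ p ∈ C ⊓ D from ⟨hCp m, hDp m⟩)) _ e.2
        obtain ⟨α, β, hαβ⟩ := ((Nat.prime_iff_prime_int.1 hP).coprime_iff_not_dvd.2 hpi)
        show Commute (π m) (π e)
        rw [← zpow_one (π m), ← hαβ, zpow_add, mul_comm α, zpow_mul, mul_comm β, zpow_mul]
        exact (h3.zpow_left α).mul_left (h2.zpow_left β)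
    refine le_of_mul_le ?_
    calc (centralizer ({e} : Set E)).index * p * p
        = (centralizer ({(e : G)} : Set G)).index * p := by
          rw [index_centralizer_subtype]
          conv_lhs => arg 1; arg 2; rw [← hEi]
          rw [relIndex_mul_index hsub]
      _ ≤ p ^ (k + 1) := hout e (fun h => he h) (hEW e he)
  obtain ⟨e₀, he₀⟩ : ∃ e₀ : E, e₀ ∉ C.subgroupOf E := by
    by_contra hh
    push Not at hh
    exact hEC (eq_top_iff.2 fun x _ => hh x)
  rcases k with _ | k
  · -- all elements of `E` outside `C` are central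
    exfalso
    have hcen : E ≤ center G := by
      intro x hx
      refine forall_mem_of_complement hEC (K := (center G).subgroupOf E) (fun e he => ?_) ⟨x, hx⟩
      refine mem_center_of_index_le_one ?_
      have h := le_of_mul_le (hout e (fun h => he h) (hEW e he))
      simpa using h
    have : centralizer ({m} : Set G) = ⊤ := by
      rw [eq_top_iff, ← hEgen]
      refine sup_le (fun x hx => ?_) (zpowers_le.2 ?_) <;> rw [mem_centralizer_singleton_iff]
      exact (mem_center_iff.1 (hcen hx) m).symm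
    rw [this, index_top] at hmlt
    simp at hmlt
  have hEb : ∀ c, (∀ e : E, e ∉ C.subgroupOf E → (centralizer ({e} : Set E)).index ≤ p ^ c) →
      c < k + 1 + 1 → Nat.card (commutator G) ≤ p ^ (tri c + κ) := by
    intro c hc hlt
    refine hcard.trans ?_
    rw [pow_add]
    exact Nat.mul_le_mul_right _ ((ih c hlt).1 E (hG.to_subgroup E) _ hEC hc)
  rcases Nat.eq_zero_or_pos κ with rfl | hκpos
  · exact hmono (hEb (k + 1) hEall (by omega))
  have hbound : Nat.card (commutator G) ≤ p ^ (tri k + κ + (if κ = 1 ∧ 1 ≤ k then 1 else 0)) := by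
    by_cases hW' : δ.ker ≤ C.subgroupOf E
    · refine le_trans (hEb k (fun e he => ?_) (by omega))
        (Nat.pow_le_pow_right hP.pos (Nat.le_add_right _ _))
      exact le_of_mul_le (hEout e he fun h => he (hW' h))
    · have hCEi : (C.subgroupOf E).index = p := by
        show C.relIndex E = p
        rw [← relIndex_sup_right]
        have : E ⊔ C = ⊤ := by
          by_contra hne
          obtain ⟨K, hK, hKi, -, -⟩ := exists_index_prime_ge hG hne
          have : C = K := eq_of_le_of_index_eq (le_sup_right.trans hK) (by rw [hCi, hKi])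
          exact hymC (this ▸ hK (mem_sup_left (mem_sup_right (mem_zpowers _))))
        rw [this, relIndex_top_right, hCi]
      have hker : δ.ker ≠ ⊤ := fun h => by
        rw [h, index_top] at hκ
        exact absurd hκ.symm (Nat.one_lt_pow (by omega) hp1).ne'
      obtain ⟨h1, h2⟩ := (ih (k + 1) (by omega)).2 (by omega) E (hG.to_subgroup E) (C.subgroupOf E)
        δ.ker hCEi hker hW' hEall hEout
      refine hcard.trans ?_
      rw [Nat.add_sub_cancel] at h1 h2
      split_ifs with hc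
      · refine le_trans (Nat.mul_le_mul_right _ h1) (le_of_eq ?_)
        rw [← pow_add]; congr 1; ring
      · refine le_trans (Nat.mul_le_mul_right _ (h2 fun hidx => ?_)) (le_of_eq (by rw [← pow_add, add_zero]))
        rw [hκ] at hidx
        have : κ = 1 := Nat.pow_right_injective hP.two_le (by simpa using hidx)
        omega
  refine ⟨hbound.trans (Nat.pow_le_pow_right hP.pos ?_), fun hW1 => hbound.trans
    (Nat.pow_le_pow_right hP.pos ?_)⟩
  · split_ifs with hc
    · rw [hc.1, tri]; omega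
    · rw [tri]; omega
  · have hκk : κ ≤ k + 1 := hκs fun h => by
      have := hW1 h
      omega
    split_ifs with hc
    · rw [hc.1, tri]; omega
    · rw [tri]; omega

theorem one_step {b : ℕ} (ih : ∀ c < b, One.{u} p c) (ih2 : ∀ c ≤ b, 1 ≤ c → Two.{u} p c) :
    One.{u} p b := by
  intro G _ _ hG C₀ hC₀ hall₀
  have hP := hp.out
  obtain ⟨C, hC₀C, hCi, hCc, hCp⟩ := exists_index_prime_ge hG hC₀
  have hall : ∀ g, g ∉ C → (centralizer ({g} : Set G)).index ≤ p ^ b :=
    fun g hg => hall₀ g fun h => hg (hC₀C h)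
  haveI hCn : C.Normal := normal_of_commutator_le hCc
  have hCtop : C ≠ ⊤ := fun h => by rw [h, index_top] at hCi; exact hP.ne_one hCi.symm
  by_cases hab : C ≤ center G
  · have hcomm : commutator G = ⊥ := by
      rw [_root_.commutator_def, commutator_eq_bot_iff_le_centralizer]
      intro g _
      have hgc : g ∈ center G := forall_mem_of_complement hCtop (fun x hx => by
        have hxC : C ⊔ zpowers x = ⊤ := by
          by_contra hne
          obtain ⟨K, hK, hKi, -, -⟩ := exists_index_prime_ge hG hne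
          have : C = K := eq_of_le_of_index_eq (le_sup_left.trans hK) (by rw [hCi, hKi])
          exact hx (this ▸ hK (mem_sup_right (mem_zpowers x)))
        rw [mem_center_iff]
        intro z
        have hle : C ⊔ zpowers x ≤ centralizer {x} := by
          refine sup_le (fun c hc => ?_) (zpowers_le.2 ?_) <;> rw [mem_centralizer_singleton_iff]
          exact (mem_center_iff.1 (hab hc) x).symm
        exact mem_centralizer_singleton_iff.1 (hle (hxC ▸ mem_top z))) g
      exact center_le_centralizer _ hgc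
    rw [hcomm, card_bot]
    exact Nat.one_le_pow _ _ hP.pos
  have hlt : center G ⊓ C < C := lt_of_le_of_ne inf_le_right fun h => hab (h ▸ inf_le_left)
  haveI : (center G ⊓ C).Normal := inferInstance
  obtain ⟨a, haC, haZ', -, hac⟩ := exists_step hG (center G ⊓ C) C hlt
  have haZ : a ∉ center G := fun h => haZ' ⟨h, haC⟩
  let P : Pivot G := ⟨a, fun y => (hac y).1⟩
  haveI := P.T_normal
  obtain ⟨j, hj⟩ := index_eq_pow hG P.H
  have hj1 : 1 ≤ j := by
    by_contra h
    obtain rfl : j = 0 := by omega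
    rw [pow_zero, index_eq_one] at hj
    refine haZ (mem_center_iff.2 fun g => ?_)
    exact (commutatorElement_eq_one_iff_mul_comm.1 (P.mem_H.1 (hj ▸ mem_top g : g ∈ P.H))).symm
  set π := QuotientGroup.mk' P.T
  have hTC : P.T ≤ C := P.T_le_commutator.trans hCc
  have hout : ∀ g, g ∉ C → g * a ∉ C := fun g hg h => hg ((C.mul_mem_cancel_right haC).1 h)
  have hcardG : Nat.card (commutator G) = p ^ j * Nat.card (commutator (G ⧸ P.T)) := by
    rw [card_eq_card_mul_card_map P.T _ P.T_le_commutator, P.card_T, hj]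
    congr 2
    rw [_root_.commutator_def, map_commutator, map_top_of_surjective _ (QuotientGroup.mk'_surjective _)]
    rfl
  set C' := C.map π
  have hC'pre : ∀ g : G, π g ∈ C' → g ∈ C := by
    intro g ⟨c, hc, hgc⟩
    have : c⁻¹ * g ∈ P.T := QuotientGroup.eq.1 hgc
    simpa using C.mul_mem hc (hTC this)
  have hC'i : C'.index = p := by
    rw [index_map_eq C (QuotientGroup.mk'_surjective _) (by rwa [QuotientGroup.ker_mk']), hCi]
  have hC'top : C' ≠ ⊤ := fun h => by rw [h, index_top] at hC'i; exact hP.ne_one hC'i.symm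
  obtain ⟨g₀, hg₀⟩ : ∃ g₀, g₀ ∉ C := by
    by_contra hh
    push Not at hh
    exact hCtop (eq_top_iff.2 fun x _ => hh x)
  obtain ⟨i₀, hi₀, hi₀b, hi₀j, -⟩ := P.bounds hG hj (hall g₀ hg₀) (hall _ (hout g₀ hg₀))
  obtain ⟨q, hq⟩ : ∃ q, (j ≤ b ∧ q = b) ∨ (b < j ∧ q + j = 2 * b) := by
    rcases Nat.lt_or_ge b j with h | h
    · exact ⟨2 * b - j, Or.inr ⟨h, by omega⟩⟩
    · exact ⟨b, Or.inl ⟨h, rfl⟩⟩
  have hQ : ∀ x : G ⧸ P.T, x ∉ C' → (centralizer {x}).index ≤ p ^ q ∧
      (x ∉ P.H.map π → (centralizer {x}).index * p ≤ p ^ q) := by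
    intro x hx
    obtain ⟨g, rfl⟩ := QuotientGroup.mk'_surjective P.T x
    have hgC : g ∉ C := fun h => hx ⟨g, h, rfl⟩
    obtain ⟨i, hi, hib, hij, hiH⟩ := P.bounds hG hj (hall g hgC) (hall _ (hout g hgC))
    refine ⟨hi ▸ Nat.pow_le_pow_right hP.pos (by omega), fun hxH => ?_⟩
    obtain ⟨h1, h2⟩ := hiH fun h => hxH ⟨g, h, rfl⟩
    rw [hi, ← pow_succ]
    exact Nat.pow_le_pow_right hP.pos (by omega)
  have hfin : ∀ e : ℕ, Nat.card (commutator (G ⧸ P.T)) ≤ p ^ e → j + e ≤ tri b →
      Nat.card (commutator G) ≤ p ^ tri b := by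
    intro e he hje
    rw [hcardG]
    refine le_trans (Nat.mul_le_mul_left _ he) ?_
    rw [← pow_add]
    exact Nat.pow_le_pow_right hP.pos hje
  have hHtop : P.H ≠ ⊤ := fun h => by
    rw [h, index_top] at hj
    exact absurd hj (Nat.one_lt_pow (by omega) hP.one_lt).ne
  have hHpre : ∀ g : G, π g ∈ P.H.map π → g ∈ P.H := by
    intro g ⟨c, hc, hgc⟩
    have : c⁻¹ * g ∈ P.T := QuotientGroup.eq.1 hgc
    simpa using P.H.mul_mem hc (P.T_le_H this)
  -- an element outside `C ∪ H` shows `1 ≤ q`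
  obtain ⟨g₁, hg₁C, hg₁H⟩ : ∃ g, g ∉ C ∧ g ∉ P.H := by
    by_contra hh
    push Not at hh
    exact hHtop (eq_top_iff.2 fun x _ => forall_mem_of_complement hCtop hh x)
  have hq1 : 1 ≤ q := by
    obtain ⟨i, -, -, -, hiH⟩ := P.bounds hG hj (hall g₁ hg₁C) (hall _ (hout g₁ hg₁C))
    have := hiH hg₁H
    omega
  have harith := pivot_arith b j q hq hq1
  by_cases hHC : P.H.map π ≤ C'
  · refine hfin (tri (q - 1)) ?_ harith
    refine ih (q - 1) (by omega) _ (hG.to_quotient _) C' hC'top fun x hx => le_of_mul_le ?_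
    rw [Nat.sub_add_cancel hq1]
    exact (hQ x hx).2 fun h => hx (hHC h)
  have hH'top : P.H.map π ≠ ⊤ := fun h => hg₁H (hHpre g₁ (h ▸ mem_top _))
  obtain ⟨h1, h2⟩ := ih2 q (by omega) hq1 _ (hG.to_quotient _) C' (P.H.map π) hC'i hH'top hHC
    (fun x hx => (hQ x hx).1) fun x hx hxW => (hQ x hx).2 hxW
  by_cases hW1 : (P.H.map π).index = p ∧ 2 ≤ q
  · refine hfin _ h1 ?_
    have hj' : j = 1 := by
      have h3 := hW1.1
      rw [index_map_eq P.H (QuotientGroup.mk'_surjective _) (by rw [QuotientGroup.ker_mk']; exact P.T_le_H),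
        hj] at h3
      exact Nat.pow_right_injective hP.two_le (by simpa using h3)
    subst hj'
    obtain ⟨m, rfl⟩ : ∃ m, q = m + 2 := ⟨q - 2, by omega⟩
    obtain rfl : b = m + 2 := by omega
    rw [tri.eq_2 (m + 1)]
    simp only [Nat.add_sub_cancel, show m + 2 - 1 = m + 1 from rfl]
    omega
  · refine hfin _ (h2 fun h => ?_) harith
    by_contra h'
    exact hW1 ⟨h, by omega⟩

theorem both (b : ℕ) : One.{u} p b ∧ (1 ≤ b → Two.{u} p b) := by
  induction b using Nat.strong_induction_on with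
  | _ b ih =>
    have h2 : 1 ≤ b → Two.{u} p b := fun h => two_step h ih
    refine ⟨one_step (fun c hc => (ih c hc).1) fun c hc h1 => ?_, h2⟩
    rcases hc.lt_or_eq with h | rfl
    · exact (ih c h).2 h1
    · exact h2 h1

/-- Vaughan-Lee's theorem. -/
theorem card_commutator_le (hG : IsPGroup p G) (b : ℕ)
    (hb : ∀ x : G, (centralizer ({x} : Set G)).index ≤ p ^ b) :
    Nat.card (commutator G) ≤ p ^ (b * (b + 1) / 2) := by
  rw [← tri_eq]
  have hP := hp.out
  by_cases hcen : center G = ⊤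
  · have h : commutator G = ⊥ := by
      rw [_root_.commutator_def, commutator_eq_bot_iff_le_centralizer]
      exact hcen.ge.trans (center_le_centralizer _)
    rw [h, card_bot]
    exact Nat.one_le_pow _ _ hP.pos
  obtain ⟨a, -, haZ, -, hac⟩ := exists_step hG (center G) ⊤ (lt_top_iff_ne_top.2 hcen)
  let P : Pivot G := ⟨a, hac⟩
  haveI := P.T_normal
  obtain ⟨j, hj⟩ := index_eq_pow hG P.H
  have hHeq : P.H = centralizer ({a} : Set G) := by
    ext y
    rw [P.mem_H, mem_centralizer_singleton_iff, commutatorElement_eq_one_iff_mul_comm, eq_comm]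
  have hjb : j ≤ b := (Nat.pow_le_pow_iff_right hP.one_lt).1 (hj ▸ hHeq ▸ hb a)
  have hH'top : P.H.map (QuotientGroup.mk' P.T) ≠ ⊤ := fun h => by
    refine haZ (mem_center_iff.2 fun g => ?_)
    obtain ⟨c, hc, hgc⟩ : QuotientGroup.mk' P.T g ∈ P.H.map (QuotientGroup.mk' P.T) := h ▸ mem_top _
    have h1 : g ∈ P.H := by simpa using P.H.mul_mem hc (P.T_le_H (QuotientGroup.eq.1 hgc))
    exact (commutatorElement_eq_one_iff_mul_comm.1 (P.mem_H.1 h1)).symm
  have hb1 : 1 ≤ b := by
    by_contra h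
    obtain rfl : b = 0 := by omega
    exact haZ (mem_center_of_index_le_one (by simpa using hb a))
  obtain ⟨c, rfl⟩ : ∃ c, b = c + 1 := ⟨b - 1, by omega⟩
  have hcardG : Nat.card (commutator G) = p ^ j * Nat.card (commutator (G ⧸ P.T)) := by
    rw [card_eq_card_mul_card_map P.T _ P.T_le_commutator, P.card_T, hj]
    congr 2
    rw [_root_.commutator_def, map_commutator, map_top_of_surjective _ (QuotientGroup.mk'_surjective _)]
    rfl
  rw [hcardG]
  refine le_trans (Nat.mul_le_mul_left _ ((both c).1 _ (hG.to_quotient _) _ hH'top fun x hx => ?_)) ?_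
  · obtain ⟨g, rfl⟩ := QuotientGroup.mk'_surjective P.T x
    obtain ⟨i, hi, -, -, hiH⟩ := P.bounds hG hj (hb g) (hb _)
    rw [hi]
    exact Nat.pow_le_pow_right hP.pos (by have := hiH fun h => hx ⟨g, h, rfl⟩; omega)
  · rw [← pow_add]
    refine Nat.pow_le_pow_right hP.pos ?_
    rw [tri]; omega

end CfsgLib.PGroup.Breadth
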