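import Cfsg.Agent.Lib.PGroup.Basic
import Cfsg.Agent.Lib.Invol.Dihedral
import Mathlib.GroupTheory.SpecificGroups.Cyclic
import Mathlib.GroupTheory.SpecificGroups.KleinFour
import Mathlib.GroupTheory.IndexNormal

/-!
p-groups of maximal class; 2-groups whose derived subgroup has index 4.
-/

namespace CfsgLib.PGroup.MaxClass

open scoped commutatorElement

universe u

variable {p : ℕ} [hp : Fact p.Prime]

omit hp in
theorem eq_or_isCyclic_of_sup_commutator {X : Type u} [Group X] [Finite X] [Fact p.Prime]
    (hX : IsPGroup p X) (y : X) (h : Subgroup.zpowers y ⊔ commutator X = ⊤) : Subgroup.zpowers y = ⊤ := by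
  apply frattini_nongenerating
  exact top_unique (h ▸ sup_le_sup_left (commutator_le_frattini hX) _)

omit hp in
theorem class_le_one_of_zpowers_top {X : Type u} [Group X] [Group.IsNilpotent X] (y : X)
    (h : Subgroup.zpowers y = ⊤) : Group.nilpotencyClass X ≤ 1 := by
  rw [← Subgroup.lowerCentralSeries_eq_bot_iff_nilpotencyClass_le, Subgroup.top_lowerCentralSeries_one,
    commutator_def, ← h, Subgroup.commutator_eq_bot_iff_le_centralizer]
  exact Subgroup.le_centralizer _

omit hp in
/-- A subgroup of order `p^2` that is self-centralizing forces maximal class. -/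
theorem class_of_self_centralizing [Fact p.Prime] : ∀ (n : ℕ) (X : Type u) [Group X] [Finite X],
    Nat.card X = p ^ n → ∀ A : Subgroup X, Nat.card A = p ^ 2 →
      Subgroup.centralizer (A : Set X) = A → Group.nilpotencyClass X = n - 1 := by
  have hpp : p.Prime := Fact.out
  intro n
  induction n with
  | zero =>
    intro X _ _ hX A hA _
    have := A.card_subgroup_dvd_card
    rw [hA, hX, pow_zero, Nat.dvd_one] at this
    exact absurd this (Nat.one_lt_pow two_ne_zero hpp.one_lt).ne'
  | succ n ih =>
    intro X _ _ hX A hA hC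
    have hG : IsPGroup p X := IsPGroup.of_card hX
    have hnil := hG.isNilpotent
    have hle : 2 ≤ n + 1 := by
      have := A.card_subgroup_dvd_card
      rw [hA, hX] at this
      exact (Nat.pow_dvd_pow_iff_le_right hpp.one_lt).1 this
    have : Nontrivial X := by
      rw [← Finite.one_lt_card_iff_nontrivial, hX]
      exact Nat.one_lt_pow (Nat.succ_ne_zero n) hpp.one_lt
    rcases eq_or_lt_of_le hle with h2 | h3
    · -- order `p^2`
      rw [← h2]
      refine le_antisymm ?_ ?_
      · rw [← Subgroup.lowerCentralSeries_eq_bot_iff_nilpotencyClass_le, Subgroup.top_lowerCentralSeries_one,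
          commutator_def, Subgroup.commutator_eq_bot_iff_le_centralizer]
        have htop : A = ⊤ := Subgroup.eq_top_of_card_eq A (by rw [hA, hX, h2])
        rw [htop] at hC
        exact hC.ge
      · by_contra hlt
        exact not_subsingleton X (Group.nilpotencyClass_zero_iff_subsingleton.1 (by omega))
    -- the centre has order `p`
    have hZA : Subgroup.center X ≤ A := hC ▸ Subgroup.center_le_centralizer _
    have hZlt : Subgroup.center X < A := by
      refine lt_of_le_of_ne hZA fun h => ?_
      have : Subgroup.centralizer (A : Set X) = ⊤ := by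
        rw [← h, Subgroup.centralizer_eq_top_iff_subset]
      rw [hC] at this
      rw [this, Subgroup.card_top, hX] at hA
      have := Nat.pow_right_injective hpp.two_le hA
      omega
    have hZcard : Nat.card (Subgroup.center X) = p := by
      obtain ⟨i, hi⟩ := IsPGroup.iff_card.1 (hG.to_subgroup (Subgroup.center X))
      have h1 : Nat.card (Subgroup.center X) < Nat.card A := by
        by_contra hge
        exact hZlt.ne (Subgroup.eq_of_le_of_card_ge hZA (not_lt.1 hge))
      rw [hi, hA] at h1
      have hi2 := (Nat.pow_lt_pow_iff_right hpp.one_lt).1 h1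
      have hi0 : i ≠ 0 := by
        intro h0
        rw [h0, pow_zero] at hi
        have := IsPGroup.center_nontrivial hG
        exact (Finite.one_lt_card_iff_nontrivial.2 this).ne' hi
      rw [hi, show i = 1 by omega, pow_one]
    set N := Subgroup.normalizer (A : Set X) with hN
    have hAN : A ≤ N := Subgroup.le_normalizer
    have hAlt : A < N := Group.normalizerCondition_of_isNilpotent A (lt_top_iff_ne_top.2 fun h => by
      rw [h, Subgroup.card_top, hX] at hA
      have := Nat.pow_right_injective hpp.two_le hA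
      omega)
    -- elements of `N` act trivially on `A` modulo the centre
    have hNn : (A.subgroupOf N).Normal := (Subgroup.normal_subgroupOf_iff_le_normalizer hAN).2 le_rfl
    have hA'c : Nat.card (A.subgroupOf N) = p ^ 2 := by
      rw [Nat.card_congr (Subgroup.subgroupOfEquivOfLe hAN).toEquiv, hA]
    have hcomm : ∀ a ∈ A, ∀ g ∈ N, ⁅a, g⁆ ∈ Subgroup.center X := by
      obtain ⟨B, x, hBn, hBA, hxA, -, hsup, hcard, hxc⟩ :=
        exists_normal_index_prime (hG.to_subgroup N) (A.subgroupOf N) (fun h => by
          rw [h, Subgroup.card_bot] at hA'c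
          exact (Nat.one_lt_pow two_ne_zero hpp.one_lt).ne hA'c)
      have hBc : Nat.card B = p := by
        rw [hA'c, sq] at hcard
        exact (Nat.eq_of_mul_eq_mul_left hpp.pos hcard).symm
      -- `B` is central in `N`
      have hBne : B ≠ ⊥ := fun h => by rw [h, Subgroup.card_bot] at hBc; exact hpp.ne_one hBc.symm
      obtain ⟨z, hzB, hzc, hzo⟩ := exists_central_orderOf_eq (hG.to_subgroup N) B hBne
      have hBz : Subgroup.zpowers z = B := Subgroup.eq_of_le_of_card_ge (Subgroup.zpowers_le.2 hzB)
        (by rw [hBc, Nat.card_zpowers, hzo])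
      have hBcen : B ≤ Subgroup.center N := hBz ▸ Subgroup.zpowers_le.2 hzc
      set Z' := (Subgroup.center X).subgroupOf N with hZ'
      have hZ'c : Nat.card Z' = p := by
        rw [Nat.card_congr (Subgroup.subgroupOfEquivOfLe (hZA.trans hAN)).toEquiv, hZcard]
      have hBZ : B = Z' := by
        by_contra hne
        have hnle : ¬ Z' ≤ B := fun h => hne (Subgroup.eq_of_le_of_card_ge h (by rw [hBc, hZ'c])).symm
        obtain ⟨w, hwZ, hwB⟩ := SetLike.not_le_iff_exists.1 hnle
        have hwcen : ∀ g : N, ⁅w, g⁆ ∈ B := by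
          intro g
          have : ⁅w, g⁆ = 1 := commutatorElement_eq_one_iff_mul_comm.2 (Subtype.ext
            (Subgroup.mem_center_iff.1 (Subgroup.mem_subgroupOf.1 hwZ) g).symm)
          rw [this]; exact one_mem _
        have hwp : w ^ p ∈ B := by
          have : w ^ p = 1 := orderOf_dvd_iff_pow_eq_one.1 (hZ'c ▸ Subgroup.orderOf_dvd_natCard _ hwZ)
          rw [this]; exact one_mem _
        have hc := card_sup_zpowers hwB hwp
        have hle' : B ⊔ Subgroup.zpowers w ≤ A.subgroupOf N :=
          sup_le hBA (Subgroup.zpowers_le.2 (Subgroup.mem_subgroupOf.2 (hZA (Subgroup.mem_subgroupOf.1 hwZ))))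
        have heq : B ⊔ Subgroup.zpowers w = A.subgroupOf N :=
          Subgroup.eq_of_le_of_card_ge hle' (by rw [hc, hA'c, hBc, sq])
        have hcen : A.subgroupOf N ≤ Subgroup.center N := by
          rw [← heq]
          refine sup_le hBcen (Subgroup.zpowers_le.2 ?_)
          rw [Subgroup.mem_center_iff]
          intro g
          exact Subtype.ext (Subgroup.mem_center_iff.1 (Subgroup.mem_subgroupOf.1 hwZ) g)
        refine hAlt.not_ge fun g hg => ?_
        rw [← hC, Subgroup.mem_centralizer_iff]
        intro a ha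
        have := Subgroup.mem_center_iff.1 (hcen (Subgroup.mem_subgroupOf.2 ha : (⟨a, hAN ha⟩ : N) ∈ _)) ⟨g, hg⟩
        exact (congrArg Subtype.val this).symm
      intro a ha g hg
      have ha' : (⟨a, hAN ha⟩ : N) ∈ A.subgroupOf N := Subgroup.mem_subgroupOf.2 ha
      have hmap : A.subgroupOf N ≤ (Subgroup.center (N ⧸ B)).comap (QuotientGroup.mk' B) := by
        rw [← hsup]
        refine sup_le ?_ (Subgroup.zpowers_le.2 ?_)
        · intro b hb
          rw [Subgroup.mem_comap, QuotientGroup.mk'_apply, (QuotientGroup.eq_one_iff b).2 hb]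
          exact one_mem _
        · rw [Subgroup.mem_comap, Subgroup.mem_center_iff]
          intro q
          obtain ⟨k, rfl⟩ := QuotientGroup.mk'_surjective B q
          rw [eq_comm, ← commutatorElement_eq_one_iff_mul_comm, ← map_commutatorElement,
            QuotientGroup.mk'_apply, QuotientGroup.eq_one_iff]
          exact hxc k
      have h1 := hmap ha'
      rw [Subgroup.mem_comap, Subgroup.mem_center_iff] at h1
      have h2 : QuotientGroup.mk' B ⁅(⟨a, hAN ha⟩ : N), ⟨g, hg⟩⁆ = 1 := by
        rw [map_commutatorElement, commutatorElement_eq_one_iff_mul_comm]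
        exact (h1 _).symm
      rw [QuotientGroup.mk'_apply, QuotientGroup.eq_one_iff, hBZ, hZ', Subgroup.mem_subgroupOf] at h2
      exact h2
    -- `N` has order `p^3`
    have hNcard : Nat.card N = p ^ 3 := by
      have hcen : Subgroup.centralizer ((A.subgroupOf N : Subgroup N) : Set N) = A.subgroupOf N := by
        ext g
        rw [Subgroup.mem_centralizer_iff, Subgroup.mem_subgroupOf]
        constructor
        · intro h
          rw [← hC, Subgroup.mem_centralizer_iff]
          intro a ha
          exact congrArg Subtype.val (h ⟨a, hAN ha⟩ (Subgroup.mem_subgroupOf.2 ha))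
        · intro hg a ha
          apply Subtype.ext
          have hg' : (g : X) ∈ Subgroup.centralizer (A : Set X) := hC.symm ▸ hg
          exact Subgroup.mem_centralizer_iff.1 hg' a (Subgroup.mem_subgroupOf.1 ha)
      have h := index_centralizer_le (hG.to_subgroup N) 2 (A.subgroupOf N) hA'c
      rw [hcen] at h
      have hcardN := Subgroup.card_mul_index (A.subgroupOf N)
      rw [hA'c] at hcardN
      obtain ⟨k, hk⟩ := IsPGroup.iff_card.1 (hG.to_subgroup N)
      have h1 : Nat.card A < Nat.card N := by
        by_contra hge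
        exact hAlt.ne (Subgroup.eq_of_le_of_card_ge hAN (not_lt.1 hge))
      have h4 : Nat.card N ≤ p ^ 3 := by
        rw [← hcardN, pow_succ]
        exact Nat.mul_le_mul_left _ (by simpa using h)
      rw [hk] at h1 h4 ⊢
      rw [hA] at h1
      have := (Nat.pow_lt_pow_iff_right hpp.one_lt).1 h1
      have := (Nat.pow_le_pow_iff_right hpp.one_lt).1 h4
      congr 1; omega
    -- the image of `N` in `X / Z(X)`
    set π := QuotientGroup.mk' (Subgroup.center X) with hπ
    set A₂ := N.map π with hA₂
    have hZN : π.ker ≤ N := by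
      rw [hπ, QuotientGroup.ker_mk']; exact hZA.trans hAN
    have hA₂c : Nat.card A₂ = p ^ 2 := by
      have h1 := Subgroup.index_map_eq N (QuotientGroup.mk'_surjective (Subgroup.center X)) (hπ ▸ hZN)
      have h2 := A₂.card_mul_index
      rw [hA₂, h1] at h2
      have h3 := N.card_mul_index
      rw [hNcard] at h3
      have h4 := Subgroup.card_eq_card_quotient_mul_card_subgroup (Subgroup.center X)
      rw [← h2, ← h3, hZcard] at h4
      have hidx : 0 < N.index := Nat.pos_of_ne_zero Subgroup.index_ne_zero_of_finite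
      have h5 : Nat.card (N.map π) * p * N.index = p ^ 2 * p * N.index := by
        rw [← pow_succ, h4]; ring
      exact Nat.eq_of_mul_eq_mul_right hpp.pos (Nat.eq_of_mul_eq_mul_right hidx h5)
    have hC₂ : Subgroup.centralizer (A₂ : Set (X ⧸ Subgroup.center X)) = A₂ := by
      refine le_antisymm ?_ ?_
      · intro q hq
        obtain ⟨g, rfl⟩ := QuotientGroup.mk'_surjective (Subgroup.center X) q
        refine ⟨g, ?_, rfl⟩
        show g ∈ N
        have hmap : ∀ a ∈ A, ⁅g, a⁆ ∈ Subgroup.center X := by
          intro a ha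
          rw [← QuotientGroup.eq_one_iff, ← QuotientGroup.mk'_apply (N := Subgroup.center X),
            map_commutatorElement, commutatorElement_eq_one_iff_mul_comm]
          exact (Subgroup.mem_centralizer_iff.1 hq _ (Subgroup.mem_map_of_mem π (hAN ha))).symm
        have hfw : ∀ a ∈ A, g * a * g⁻¹ ∈ A := by
          intro a ha
          have := mul_mem (hZA (hmap a ha)) ha
          rwa [commutatorElement_def, inv_mul_cancel_right] at this
        exact Subgroup.mem_normalizer_iff.2 fun a => ⟨hfw a, fun ha => by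
          have h1 := hmap _ ha
          have h2 : ⁅g⁻¹, g * a * g⁻¹⁆ ∈ Subgroup.center X := by
            rw [← QuotientGroup.eq_one_iff, ← QuotientGroup.mk'_apply (N := Subgroup.center X),
              map_commutatorElement, map_inv, commutatorElement_eq_one_iff_mul_comm]
            rw [← QuotientGroup.eq_one_iff, ← QuotientGroup.mk'_apply (N := Subgroup.center X),
              map_commutatorElement, commutatorElement_eq_one_iff_mul_comm] at h1
            exact (Commute.inv_left (show Commute _ _ from h1)).eq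
          have := mul_mem (hZA h2) ha
          rw [commutatorElement_def] at this
          simpa [mul_assoc] using this⟩
      · rw [Subgroup.le_centralizer_iff_isMulCommutative]
        exact IsPGroup.isMulCommutative_of_card_eq_prime_sq hA₂c
    have hQcard : Nat.card (X ⧸ Subgroup.center X) = p ^ n := by
      have h4 := Subgroup.card_eq_card_quotient_mul_card_subgroup (Subgroup.center X)
      rw [hX, hZcard, pow_succ] at h4
      exact (Nat.eq_of_mul_eq_mul_right hpp.pos h4).symm
    have := ih (X ⧸ Subgroup.center X) hQcard A₂ hA₂c hC₂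
    rw [Group.nilpotencyClass_eq_quotient_center_plus_one, this]
    omega

/-- `[X : X'] ≤ 4` for a 2-group of order `2^n` and class `n - 1` (more generally `≤ p^2`). -/
theorem index_commutator_le {X : Type u} [Group X] [Finite X] (n : ℕ) (hn : 2 ≤ n)
    (hX : Nat.card X = p ^ n) (hc : Group.nilpotencyClass X = n - 1) :
    (commutator X).index ≤ p ^ 2 := by
  have hG : IsPGroup p X := IsPGroup.of_card hX
  have hnil := hG.isNilpotent
  let L : ℕ → Subgroup X := fun k => (⊤ : Subgroup X).lowerCentralSeries k
  have hne : ∀ k, k < n - 1 → L k ≠ ⊥ := fun k hk h => by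
    have := (Subgroup.lowerCentralSeries_eq_bot_iff_nilpotencyClass_le (G := X)).1 h
    omega
  have hstep : ∀ k, k < n - 1 → p * Nat.card (L (k + 1)) ≤ Nat.card (L k) := by
    intro k hk
    have hlt : L (k + 1) < L k := by
      refine lt_of_le_of_ne (Subgroup.lowerCentralSeries_antitone _ (Nat.le_succ k)) fun he => hne k hk ?_
      have hall : ∀ j, L k ≤ L (k + j) := by
        intro j
        induction j with
        | zero => exact le_rfl
        | succ j ihj =>
          show L k ≤ L (k + j + 1)
          calc L k = L (k + 1) := he.symm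
            _ = ⁅L k, ⊤⁆ := Subgroup.lowerCentralSeries_succ ..
            _ ≤ ⁅L (k + j), ⊤⁆ := Subgroup.commutator_mono ihj le_rfl
            _ = L (k + j + 1) := (Subgroup.lowerCentralSeries_succ ..).symm
      refine le_bot_iff.1 ((hall (n - 1)).trans ?_)
      have : L (n - 1) = ⊥ := (Subgroup.lowerCentralSeries_eq_bot_iff_nilpotencyClass_le (G := X)).2 hc.le
      exact this ▸ Subgroup.lowerCentralSeries_antitone _ (Nat.le_add_left _ _)
    have : (L (k + 1)).Normal := inferInstance
    have : (L k).Normal := inferInstance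
    obtain ⟨z, hzk, hzn, hzp, -⟩ := exists_step hG (L (k + 1)) (L k) hlt
    rw [← card_sup_zpowers hzn hzp]
    exact Subgroup.card_le_of_le (sup_le hlt.le (Subgroup.zpowers_le.2 hzk))
  have hlow : ∀ j k, k + j = n - 1 → p ^ j ≤ Nat.card (L k) := by
    intro j
    induction j with
    | zero => intro k _; simp [Nat.one_le_iff_ne_zero, Nat.card_pos.ne']
    | succ j ihj =>
      intro k hk
      rw [pow_succ']
      exact (Nat.mul_le_mul_left _ (ihj (k + 1) (by omega))).trans (hstep k (by omega))
  have h1 := hlow (n - 2) 1 (by omega)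
  have hmul := (commutator X).card_mul_index
  have hL1 : L 1 = commutator X := Subgroup.top_lowerCentralSeries_one
  rw [hL1] at h1
  rw [hX, show n = n - 2 + 2 by omega, pow_add] at hmul
  by_contra hgt
  rw [not_le] at hgt
  have hlt := Nat.mul_lt_mul_of_le_of_lt h1 hgt Nat.card_pos
  omega

omit hp in
/-- If `zpowers d` is normal with abelian quotient then it contains the derived subgroup. -/
theorem commutator_le_zpowers {X : Type u} [Group X] (C : Subgroup X) (t d : X)
    (hgen : C ⊔ Subgroup.zpowers t = ⊤) (hn : (Subgroup.zpowers d).Normal)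
    (hCC : ∀ a ∈ C, ∀ b ∈ C, ⁅a, b⁆ ∈ Subgroup.zpowers d) (htC : ∀ a ∈ C, ⁅a, t⁆ ∈ Subgroup.zpowers d) :
    commutator X ≤ Subgroup.zpowers d := by
  set π := QuotientGroup.mk' (Subgroup.zpowers d)
  have hk : ∀ a b : X, ⁅a, b⁆ ∈ Subgroup.zpowers d → Commute (π a) (π b) := fun a b h => by
    show π a * π b = π b * π a
    rw [← commutatorElement_eq_one_iff_mul_comm, ← map_commutatorElement, QuotientGroup.mk'_apply,
      QuotientGroup.eq_one_iff]
    exact h
  rw [← QuotientGroup.ker_mk' (Subgroup.zpowers d), ← Subgroup.map_eq_bot_iff, commutator_def, Subgroup.map_commutator,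
    Subgroup.commutator_eq_bot_iff_le_centralizer, ← hgen, Subgroup.map_sup, MonoidHom.map_zpowers]
  refine sup_le ?_ ?_ <;> rw [Subgroup.le_centralizer_iff] <;> refine sup_le ?_ ?_
  · rintro _ ⟨a, ha, rfl⟩
    rw [Subgroup.mem_centralizer_iff]
    rintro _ ⟨b, hb, rfl⟩
    exact (hk a b (hCC a ha b hb)).symm.eq
  · rw [Subgroup.zpowers_le, Subgroup.mem_centralizer_iff]
    rintro _ ⟨a, ha, rfl⟩
    exact (hk a t (htC a ha)).eq
  · rintro _ ⟨a, ha, rfl⟩
    rw [Subgroup.mem_centralizer_iff]
    intro y hy
    obtain ⟨j, rfl⟩ := Subgroup.mem_zpowers_iff.1 hy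
    exact ((hk a t (htC a ha)).zpow_right j).symm.eq
  · exact Subgroup.le_centralizer _

omit hp in
theorem exists_cyclic_index_two : ∀ (n : ℕ) (X : Type u) [Group X] [Finite X], 2 ≤ n →
    Nat.card X = 2 ^ n → (commutator X).index = 4 → ∃ C : Subgroup X, IsCyclic C ∧ C.index = 2 := by
  intro n
  induction n with
  | zero => intro X _ _ h; omega
  | succ n ih =>
    intro X _ _ hn hX hidx
    have hG : IsPGroup 2 X := IsPGroup.of_card hX
    rcases eq_or_lt_of_le hn with h2 | h3
    · have h : 2 ∣ Nat.card X := hX ▸ dvd_pow_self 2 (Nat.succ_ne_zero n)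
      obtain ⟨x, hx⟩ := exists_prime_orderOf_dvd_card' 2 h
      refine ⟨Subgroup.zpowers x, inferInstance, ?_⟩
      have := (Subgroup.zpowers x).card_mul_index
      rw [Nat.card_zpowers, hx, hX, ← h2] at this
      omega
    have hder : Nat.card (commutator X) = 2 ^ (n - 1) := by
      have := (commutator X).card_mul_index
      rw [hidx, hX, show n + 1 = n - 1 + 2 by omega, pow_add] at this
      omega
    have hne : commutator X ≠ ⊥ := fun h => by
      rw [h, Subgroup.card_bot] at hder
      exact (Nat.one_lt_pow (show n - 1 ≠ 0 by omega) one_lt_two).ne hder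
    obtain ⟨z, hzD, hzc, hzo⟩ := exists_central_orderOf_eq hG (commutator X) hne
    have hZn : (Subgroup.zpowers z).Normal := ⟨fun m hm g => by
      rw [Subgroup.mem_center_iff.1 (Subgroup.zpowers_le.2 hzc hm) g, mul_inv_cancel_right]; exact hm⟩
    set π := QuotientGroup.mk' (Subgroup.zpowers z) with hπ
    have hQ : Nat.card (X ⧸ Subgroup.zpowers z) = 2 ^ n := by
      have h := Subgroup.card_eq_card_quotient_mul_card_subgroup (Subgroup.zpowers z)
      rw [hX, Nat.card_zpowers, hzo, pow_succ] at h
      omega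
    have hQd : (commutator (X ⧸ Subgroup.zpowers z)).index = 4 := by
      have hm : (commutator X).map π = commutator (X ⧸ Subgroup.zpowers z) := by
        rw [commutator_def, Subgroup.map_commutator, ← MonoidHom.range_eq_map,
          MonoidHom.range_eq_top.2 (QuotientGroup.mk'_surjective _), commutator_def]
      rw [← hm, Subgroup.index_map_eq _ (QuotientGroup.mk'_surjective _)
        (by rw [QuotientGroup.ker_mk']; exact Subgroup.zpowers_le.2 hzD), hidx]
    obtain ⟨C', hC'c, hC'i⟩ := ih (X ⧸ Subgroup.zpowers z) (by omega) hQ hQd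
    set C := C'.comap π with hCdef
    have hCi : C.index = 2 := by
      rw [hCdef, Subgroup.index_comap_of_surjective _ (QuotientGroup.mk'_surjective _), hC'i]
    by_cases hcyc : IsCyclic C
    · exact ⟨C, hcyc, hCi⟩
    obtain ⟨g', hg'⟩ := hC'c.exists_generator
    obtain ⟨c, hc⟩ := QuotientGroup.mk'_surjective (Subgroup.zpowers z) (g' : X ⧸ Subgroup.zpowers z)
    have hcC : c ∈ C := by rw [hCdef, Subgroup.mem_comap]; exact hc ▸ g'.2
    have hzC : z ∈ C := by
      rw [hCdef, Subgroup.mem_comap, QuotientGroup.mk'_apply, (QuotientGroup.eq_one_iff z).2 (Subgroup.mem_zpowers z)]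
      exact one_mem _
    have hform : ∀ a ∈ C, ∃ i j : ℤ, a = c ^ i * z ^ j := by
      intro a ha
      obtain ⟨i, hi⟩ := Subgroup.mem_zpowers_iff.1 (hg' ⟨π a, ha⟩)
      have hi' : π c ^ i = π a := by rw [hc]; simpa using congrArg Subtype.val hi
      rw [← map_zpow, QuotientGroup.mk'_eq_mk'] at hi'
      obtain ⟨w, hw, hw'⟩ := hi'
      obtain ⟨j, rfl⟩ := Subgroup.mem_zpowers_iff.1 hw
      exact ⟨i, j, hw'.symm⟩
    have hzcomm : ∀ g : X, Commute z g := fun g => (Subgroup.mem_center_iff.1 hzc g).symm
    have hCab : ∀ a ∈ C, ∀ b ∈ C, Commute a b := by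
      intro a ha b hb
      obtain ⟨i, j, rfl⟩ := hform a ha
      obtain ⟨k, l, rfl⟩ := hform b hb
      refine Commute.mul_left (Commute.mul_right ?_ ?_) ((hzcomm _).zpow_left _)
      · exact Commute.zpow_zpow (Commute.refl c) i k
      · exact ((hzcomm _).zpow_left l).symm
    have hzncyc : z ∉ Subgroup.zpowers c := by
      intro hz
      apply hcyc
      have hCe : C = Subgroup.zpowers c := by
        refine le_antisymm (fun a ha => ?_) (Subgroup.zpowers_le.2 hcC)
        obtain ⟨i, j, rfl⟩ := hform a ha
        exact mul_mem (Subgroup.zpow_mem_zpowers c i) (zpow_mem hz j)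
      rw [hCe]; infer_instance
    have hCn : C.Normal := Subgroup.normal_of_index_eq_two hCi
    obtain ⟨t, ht⟩ : ∃ t, t ∉ C := by
      by_contra h; push Not at h
      rw [(Subgroup.eq_top_iff' C).2 h, Subgroup.index_top] at hCi
      omega
    have hgen : C ⊔ Subgroup.zpowers t = ⊤ := by
      rw [eq_top_iff]
      intro g _
      by_cases hg : g ∈ C
      · exact Subgroup.mem_sup_left hg
      · have hgt : g * t⁻¹ ∈ C := by
          rw [Subgroup.mul_mem_iff_of_index_two hCi, inv_mem_iff]
          exact iff_of_false hg ht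
        rw [← inv_mul_cancel_right g t]
        exact mul_mem (Subgroup.mem_sup_left hgt) (Subgroup.mem_sup_right (Subgroup.mem_zpowers t))
    have htt : t * t ∈ C := by
      rw [Subgroup.mul_mem_iff_of_index_two hCi]
    set d := ⁅t, c⁆ with hd
    have hdC : d ∈ C := mul_mem (hCn.conj_mem c hcC t) (inv_mem hcC)
    have hinv : t * d * t⁻¹ = d⁻¹ := by
      have h1 : t * t * c * (t * t)⁻¹ = c := by
        rw [(hCab _ htt _ hcC).eq, mul_inv_cancel_right]
      calc t * d * t⁻¹ = (t * t * c * (t * t)⁻¹) * (t * c * t⁻¹)⁻¹ := by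
            rw [hd, commutatorElement_def]; group
        _ = c * (t * c * t⁻¹)⁻¹ := by rw [h1]
        _ = d⁻¹ := by rw [hd, commutatorElement_def]; group
    have hdn : (Subgroup.zpowers d).Normal := by
      rw [← Subgroup.normalizer_eq_top_iff, eq_top_iff, ← hgen]
      have hC1 : C ≤ Subgroup.normalizer (Subgroup.zpowers d : Set X) := by
        intro a ha
        rw [Subgroup.mem_normalizer_iff]
        intro w
        constructor
        · intro hw
          have : Commute a w := hCab a ha w (Subgroup.zpowers_le.2 hdC hw)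
          rwa [this.eq, mul_inv_cancel_right]
        · intro hw
          have hwC : w ∈ C := by
            have := Subgroup.zpowers_le.2 hdC hw
            have h2 := mul_mem (mul_mem (inv_mem ha) this) ha
            simpa [mul_assoc] using h2
          rwa [(hCab a ha w hwC).eq, mul_inv_cancel_right] at hw
      refine sup_le hC1 (Subgroup.zpowers_le.2 ?_)
      have h1 : ∀ w ∈ Subgroup.zpowers d, t * w * t⁻¹ ∈ Subgroup.zpowers d := by
        intro w hw
        obtain ⟨k, rfl⟩ := Subgroup.mem_zpowers_iff.1 hw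
        rw [← conj_zpow, hinv]
        exact zpow_mem (inv_mem (Subgroup.mem_zpowers d)) k
      rw [Subgroup.mem_normalizer_iff]
      refine fun w => ⟨h1 w, fun hw => ?_⟩
      have h2 := h1 _ hw
      have hwC : w ∈ C := by
        have := hCn.conj_mem _ (Subgroup.zpowers_le.2 hdC hw) t⁻¹
        simpa [mul_assoc] using this
      have he : t * (t * w * t⁻¹) * t⁻¹ = w := by
        have : t * (t * w * t⁻¹) * t⁻¹ = (t * t) * w * (t * t)⁻¹ := by group
        rw [this, (hCab _ htt _ hwC).eq, mul_inv_cancel_right]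
      rwa [he] at h2
    have hle : commutator X ≤ Subgroup.zpowers d := by
      refine commutator_le_zpowers C t d hgen hdn (fun a ha b hb => ?_) (fun a ha => ?_)
      · rw [commutatorElement_eq_one_iff_mul_comm.2 (hCab a ha b hb).eq]; exact one_mem _
      · obtain ⟨i, j, rfl⟩ := hform a ha
        set π' := QuotientGroup.mk' (Subgroup.zpowers d)
        rw [← QuotientGroup.eq_one_iff, ← QuotientGroup.mk'_apply (N := Subgroup.zpowers d),
          map_commutatorElement, commutatorElement_eq_one_iff_mul_comm, map_mul, map_zpow, map_zpow]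
        have h1 : Commute (π' t) (π' c) := by
          show π' t * π' c = π' c * π' t
          rw [← commutatorElement_eq_one_iff_mul_comm, ← map_commutatorElement,
            QuotientGroup.mk'_apply, QuotientGroup.eq_one_iff]
          exact Subgroup.mem_zpowers d
        have h2 : Commute (π' z) (π' t) := (hzcomm t).map π'
        exact ((h1.symm.zpow_left i).mul_left (h2.zpow_left j)).eq
    -- `|X| = 8`
    have hn2 : n = 2 := by
      by_contra hne2
      have hzd : z ∈ Subgroup.zpowers d := hle hzD
      obtain ⟨k, hk⟩ := Subgroup.mem_zpowers_iff.1 hzd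
      have hd4 : 4 ∣ orderOf d := by
        obtain ⟨m, hm⟩ := IsPGroup.iff_orderOf.1 hG d
        have hh : 2 ^ (n - 1) ≤ 2 ^ m := by
          rw [← hder, ← hm, ← Nat.card_zpowers]; exact Subgroup.card_le_of_le hle
        have := (Nat.pow_le_pow_iff_right one_lt_two).1 hh
        rw [hm, show (4 : ℕ) = 2 ^ 2 from rfl]
        exact pow_dvd_pow 2 (by omega)
      have hz1 : d ^ (2 * k) = 1 := by
        rw [mul_comm, zpow_mul, hk]
        exact_mod_cast (hzo ▸ pow_orderOf_eq_one z : z ^ 2 = 1)
      have h4k : (4 : ℤ) ∣ 2 * k :=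
        (Int.natCast_dvd_natCast.2 hd4).trans (orderOf_dvd_iff_zpow_eq_one.2 hz1)
      obtain ⟨l, hl⟩ : (2 : ℤ) ∣ k := by omega
      obtain ⟨i, j, hij⟩ := hform d hdC
      apply hzncyc
      rw [← hk, hl, hij]
      have hcm : Commute (c ^ i) (z ^ j) := ((hzcomm _).zpow_left j).symm
      rw [hcm.mul_zpow, ← zpow_mul z, show j * (2 * l) = 2 * (j * l) by ring, zpow_mul z,
        show z ^ (2 : ℤ) = 1 from by exact_mod_cast (hzo ▸ pow_orderOf_eq_one z : z ^ 2 = 1),
        one_zpow, mul_one, ← zpow_mul]
      exact Subgroup.zpow_mem_zpowers c _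
    subst hn2
    -- an element of order 4
    obtain ⟨x, hx⟩ : ∃ x : X, x ^ 2 ≠ 1 := by
      by_contra h; push Not at h
      apply hne
      rw [commutator_def, Subgroup.commutator_eq_bot_iff_le_centralizer]
      intro a _
      rw [Subgroup.mem_centralizer_iff]
      intro b _
      have ha : a⁻¹ = a := inv_eq_of_mul_eq_one_right (by rw [← sq]; exact h a)
      have hb : b⁻¹ = b := inv_eq_of_mul_eq_one_right (by rw [← sq]; exact h b)
      have hab : (b * a)⁻¹ = b * a := inv_eq_of_mul_eq_one_right (by rw [← sq]; exact h _)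
      rw [← hab, mul_inv_rev, ha, hb]
    obtain ⟨m, hm⟩ := IsPGroup.iff_orderOf.1 hG x
    have hm3 : 2 ^ m ∣ 2 ^ 3 := hm ▸ hX ▸ orderOf_dvd_natCard x
    have hm3' := (Nat.pow_dvd_pow_iff_le_right one_lt_two).1 hm3
    have hm2 : 2 ≤ m := by
      by_contra hlt
      apply hx
      rw [← orderOf_dvd_iff_pow_eq_one, hm]
      exact (pow_dvd_pow 2 (show m ≤ 1 by omega))
    refine ⟨Subgroup.zpowers x, inferInstance, ?_⟩
    have hmul := (Subgroup.zpowers x).card_mul_index
    rw [Nat.card_zpowers, hm, hX] at hmul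
    interval_cases m
    · omega
    · exfalso
      have hxt : Subgroup.zpowers x = ⊤ := Subgroup.eq_top_of_card_eq _ (by rw [Nat.card_zpowers, hm, hX])
      apply hne
      rw [commutator_def, ← hxt, Subgroup.commutator_eq_bot_iff_le_centralizer]
      exact Subgroup.le_centralizer _

omit hp in
/-- Structure of a 2-group of order `2^n ≥ 8` with derived subgroup of index 4. -/
theorem structure_two {X : Type u} [Group X] [Finite X] (n : ℕ) (hn : 3 ≤ n) (hX : Nat.card X = 2 ^ n)
    (hidx : (commutator X).index = 4) :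
    ∃ a t : X, orderOf a = 2 ^ (n - 1) ∧ t ∉ Subgroup.zpowers a ∧ Subgroup.zpowers a ⊔ Subgroup.zpowers t = ⊤ ∧
      t * t ∈ Subgroup.center X ∧ t * a * t⁻¹ * a ∈ Subgroup.center X ∧ Subgroup.center X ≤ commutator X ∧
      Nat.card (Subgroup.center X) = 2 ∧ a ^ (2 ^ (n - 2)) ∈ Subgroup.center X := by
  obtain ⟨C, hC, hCi⟩ := exists_cyclic_index_two n X (by omega) hX hidx
  obtain ⟨a₀, ha₀⟩ := hC.exists_generator
  set a : X := (a₀ : X) with ha
  have hCz : C = Subgroup.zpowers a := by
    refine le_antisymm (fun x hx => ?_) (Subgroup.zpowers_le.2 a₀.2)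
    obtain ⟨k, hk⟩ := Subgroup.mem_zpowers_iff.1 (ha₀ ⟨x, hx⟩)
    exact ⟨k, by simpa [ha] using congrArg Subtype.val hk⟩
  rw [hCz] at hCi
  have hord : orderOf a = 2 ^ (n - 1) := by
    have := (Subgroup.zpowers a).card_mul_index
    rw [Nat.card_zpowers, hCi, hX, show n = n - 1 + 1 by omega, pow_succ] at this
    omega
  have hCn : (Subgroup.zpowers a).Normal := Subgroup.normal_of_index_eq_two hCi
  obtain ⟨t, ht⟩ : ∃ t, t ∉ Subgroup.zpowers a := by
    by_contra h; push Not at h
    rw [(Subgroup.eq_top_iff' _).2 h, Subgroup.index_top] at hCi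
    omega
  have hgen : Subgroup.zpowers a ⊔ Subgroup.zpowers t = ⊤ := by
    rw [eq_top_iff]
    intro g _
    by_cases hg : g ∈ Subgroup.zpowers a
    · exact Subgroup.mem_sup_left hg
    · have hgt : g * t⁻¹ ∈ Subgroup.zpowers a := by
        rw [Subgroup.mul_mem_iff_of_index_two hCi, inv_mem_iff]
        exact iff_of_false hg ht
      rw [← inv_mul_cancel_right g t]
      exact mul_mem (Subgroup.mem_sup_left hgt) (Subgroup.mem_sup_right (Subgroup.mem_zpowers t))
  obtain ⟨r, hr⟩ := Subgroup.mem_zpowers_iff.1 (hCn.conj_mem a (Subgroup.mem_zpowers a) t)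
  have hdk : ∀ k : ℤ, t * a ^ k * t⁻¹ = a ^ (r * k) := fun k => by rw [← conj_zpow, ← hr, ← zpow_mul]
  set s := r - 1 with hs
  have hts : ⁅t, a⁆ = a ^ s := by
    rw [commutatorElement_def, hs, zpow_sub, zpow_one, hr]
  -- the derived subgroup
  have hdn : (Subgroup.zpowers (a ^ s)).Normal := by
    rw [← Subgroup.normalizer_eq_top_iff, eq_top_iff]
    intro g _
    obtain ⟨e, he⟩ := Subgroup.mem_zpowers_iff.1 (hCn.conj_mem a (Subgroup.mem_zpowers a) g)
    obtain ⟨e', he'⟩ := Subgroup.mem_zpowers_iff.1 (hCn.conj_mem a (Subgroup.mem_zpowers a) g⁻¹)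
    rw [Subgroup.mem_normalizer_iff]
    intro w
    constructor
    · intro hw
      obtain ⟨k, rfl⟩ := Subgroup.mem_zpowers_iff.1 hw
      refine ⟨e * k, ?_⟩
      show (a ^ s) ^ (e * k) = g * (a ^ s) ^ k * g⁻¹
      rw [← zpow_mul a s k, ← conj_zpow, ← he, ← zpow_mul, ← zpow_mul]
      congr 1; ring
    · intro hw
      obtain ⟨k, hk⟩ := Subgroup.mem_zpowers_iff.1 hw
      have hwe : w = g⁻¹ * (g * w * g⁻¹) * g⁻¹⁻¹ := by group
      refine ⟨e' * k, ?_⟩
      show (a ^ s) ^ (e' * k) = w
      rw [hwe, ← hk, ← zpow_mul a s k, ← conj_zpow, ← he', ← zpow_mul, ← zpow_mul]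
      congr 1; ring
  have hle : commutator X ≤ Subgroup.zpowers (a ^ s) := by
    refine commutator_le_zpowers (Subgroup.zpowers a) t (a ^ s) hgen hdn (fun x hx y hy => ?_) (fun x hx => ?_)
    · obtain ⟨i, rfl⟩ := Subgroup.mem_zpowers_iff.1 hx
      obtain ⟨j, rfl⟩ := Subgroup.mem_zpowers_iff.1 hy
      rw [commutatorElement_eq_one_iff_mul_comm.2 (Commute.zpow_zpow (Commute.refl a) i j).eq]
      exact one_mem _
    · obtain ⟨i, rfl⟩ := Subgroup.mem_zpowers_iff.1 hx
      refine ⟨-i, ?_⟩
      show (a ^ s) ^ (-i) = ⁅a ^ i, t⁆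
      rw [← commutatorElement_inv, commutatorElement_def, hdk, ← zpow_sub, ← zpow_neg, ← zpow_mul,
        hs]
      congr 1; ring
  have hder : commutator X = Subgroup.zpowers (a ^ s) := le_antisymm hle (by
    rw [Subgroup.zpowers_le, ← hts, commutator_def]
    exact Subgroup.commutator_mem_commutator (Subgroup.mem_top t) (Subgroup.mem_top a))
  have hderc : Nat.card (commutator X) = 2 ^ (n - 2) := by
    have := (commutator X).card_mul_index
    rw [hidx, hX, show n = n - 2 + 2 by omega, pow_add] at this
    omega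
  have hords : orderOf (a ^ s) = 2 ^ (n - 2) := by rw [← Nat.card_zpowers, ← hder, hderc]
  have hsa : ∀ k : ℤ, a ^ k ∈ Subgroup.center X ↔ ((2 ^ (n - 2) : ℕ) : ℤ) ∣ k := by
    intro k
    rw [← hords, orderOf_dvd_iff_zpow_eq_one, ← zpow_mul, Subgroup.mem_center_iff]
    constructor
    · intro h
      have h1 : t * a ^ k * t⁻¹ = a ^ k := by rw [h t, mul_inv_cancel_right]
      rw [hdk] at h1
      rw [hs, sub_mul, one_mul, zpow_sub, h1, mul_inv_cancel]
    · intro h g
      have h1 : Commute t (a ^ k) := by
        rw [hs, sub_mul, one_mul, zpow_sub, mul_inv_eq_one, ← hdk, mul_inv_eq_iff_eq_mul] at h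
        exact h
      have hle' : Subgroup.zpowers a ⊔ Subgroup.zpowers t ≤ Subgroup.centralizer ({a ^ k} : Set X) := by
        refine sup_le (Subgroup.zpowers_le.2 ?_) (Subgroup.zpowers_le.2 ?_) <;>
          rw [Subgroup.mem_centralizer_singleton_iff]
        · exact ((Commute.refl a).zpow_right k).eq
        · exact h1.eq
      rw [hgen] at hle'
      exact Subgroup.mem_centralizer_singleton_iff.1 (hle' (Subgroup.mem_top g))
  have hpos : 2 ≤ 2 ^ (n - 2) := by
    calc 2 = 2 ^ 1 := rfl
      _ ≤ _ := Nat.pow_le_pow_right two_pos (by omega)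
  have htt : t * t ∈ Subgroup.center X := by
    have hmem : t * t ∈ Subgroup.zpowers a := by rw [Subgroup.mul_mem_iff_of_index_two hCi]
    obtain ⟨k, hk⟩ := Subgroup.mem_zpowers_iff.1 hmem
    rw [← hk, hsa, ← hords, orderOf_dvd_iff_zpow_eq_one, ← zpow_mul, hs, sub_mul, one_mul, zpow_sub,
      ← hdk, hk]
    group
  have hcenle : Subgroup.center X ≤ Subgroup.zpowers a := by
    intro x hx
    by_contra hxa
    have hts' : a ^ s = 1 := by
      rw [← hts, commutatorElement_eq_one_iff_mul_comm]
      have hxt : x * t⁻¹ ∈ Subgroup.zpowers a := by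
        rw [Subgroup.mul_mem_iff_of_index_two hCi, inv_mem_iff]
        exact iff_of_false hxa ht
      obtain ⟨i, hi⟩ := Subgroup.mem_zpowers_iff.1 hxt
      have h1 : Commute (a ^ i) a := (Commute.refl a).zpow_left i
      have h2 : Commute x a := (Subgroup.mem_center_iff.1 hx a).symm
      have h3 : t = (a ^ i)⁻¹ * x := by rw [hi]; group
      rw [h3]
      exact (h1.inv_left.mul_left h2).eq
    rw [hts', orderOf_one] at hords
    omega
  have hord1 : orderOf a = 2 * 2 ^ (n - 2) := by
    rw [hord, ← pow_succ']; congr 1; omega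
  have hcen : Subgroup.center X = Subgroup.zpowers (a ^ (2 ^ (n - 2) : ℕ)) := by
    refine le_antisymm (fun x hx => ?_) (Subgroup.zpowers_le.2 ?_)
    · obtain ⟨k, rfl⟩ := Subgroup.mem_zpowers_iff.1 (hcenle hx)
      obtain ⟨j, hj⟩ := (hsa k).1 hx
      exact ⟨j, by rw [hj, zpow_mul, zpow_natCast]⟩
    · rw [← zpow_natCast, hsa]
  have hcard : Nat.card (Subgroup.center X) = 2 := by
    rw [hcen, Nat.card_zpowers, orderOf_pow' a (by omega), hord1,
      Nat.gcd_eq_right (dvd_mul_left _ _), Nat.mul_div_cancel _ (by omega)]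
  refine ⟨a, t, hord, ht, hgen, htt, ?_, ?_, hcard, hcen.ge (Subgroup.mem_zpowers _)⟩
  · have h1 : t * a * t⁻¹ * a = a ^ (r + 1) := by rw [← hr, zpow_add_one]
    rw [h1, hsa, ← hords, orderOf_dvd_iff_zpow_eq_one, ← zpow_mul]
    obtain ⟨k, hk⟩ := Subgroup.mem_zpowers_iff.1
      (show t * t ∈ Subgroup.zpowers a by rw [Subgroup.mul_mem_iff_of_index_two hCi])
    have h2 : a ^ (r * r) = a := by
      rw [← hdk, hr]
      calc t * (t * a * t⁻¹) * t⁻¹ = (t * t) * a * (t * t)⁻¹ := by group
        _ = a := by rw [← hk, ((Commute.refl a).zpow_left k).eq, mul_inv_cancel_right]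
    rw [hs, show (r - 1) * (r + 1) = r * r - 1 by ring, zpow_sub, h2, zpow_one, mul_inv_cancel]
  · have hne : commutator X ≠ ⊥ := fun h => by
      rw [h, Subgroup.card_bot] at hderc
      omega
    obtain ⟨z, hzD, hzc, hzo⟩ := exists_central_orderOf_eq (IsPGroup.of_card hX) _ hne
    rw [← Subgroup.eq_of_le_of_card_ge (Subgroup.zpowers_le.2 hzc) (by rw [hcard, Nat.card_zpowers, hzo])]
    exact Subgroup.zpowers_le.2 hzD

omit hp in
theorem class_of_index_four : ∀ (n : ℕ) (X : Type u) [Group X] [Finite X], 2 ≤ n →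
    Nat.card X = 2 ^ n → (commutator X).index = 4 → Group.nilpotencyClass X = n - 1 := by
  intro n
  induction n with
  | zero => intro X _ _ h; omega
  | succ n ih =>
    intro X _ _ hn hX hidx
    have hG : IsPGroup 2 X := IsPGroup.of_card hX
    have hnil := hG.isNilpotent
    have : Nontrivial X := by
      rw [← Finite.one_lt_card_iff_nontrivial, hX]
      exact Nat.one_lt_pow (Nat.succ_ne_zero n) one_lt_two
    rcases eq_or_lt_of_le hn with h2 | h3
    · rw [← h2]
      refine le_antisymm ?_ ?_
      · rw [← Subgroup.lowerCentralSeries_eq_bot_iff_nilpotencyClass_le, Subgroup.top_lowerCentralSeries_one]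
        refine Subgroup.card_eq_one.1 ?_
        have := (commutator X).card_mul_index
        rw [hidx, hX, ← h2] at this
        omega
      · by_contra hlt
        exact not_subsingleton X (Group.nilpotencyClass_zero_iff_subsingleton.1 (by omega))
    obtain ⟨a, t, -, -, -, -, -, hcz, hc2, -⟩ := structure_two (n + 1) (by omega) hX hidx
    have hQ : Nat.card (X ⧸ Subgroup.center X) = 2 ^ n := by
      have h := Subgroup.card_eq_card_quotient_mul_card_subgroup (Subgroup.center X)
      rw [hX, hc2, pow_succ] at h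
      omega
    have hQd : (commutator (X ⧸ Subgroup.center X)).index = 4 := by
      have hm : (commutator X).map (QuotientGroup.mk' (Subgroup.center X)) = commutator (X ⧸ Subgroup.center X) := by
        rw [commutator_def, Subgroup.map_commutator, ← MonoidHom.range_eq_map,
          MonoidHom.range_eq_top.2 (QuotientGroup.mk'_surjective _), commutator_def]
      rw [← hm, Subgroup.index_map_eq _ (QuotientGroup.mk'_surjective _)
        (by rw [QuotientGroup.ker_mk']; exact hcz), hidx]
    rw [Group.nilpotencyClass_eq_quotient_center_plus_one, ih _ (by omega) hQ hQd]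
    omega

omit hp in
/-- A 2-group of maximal class has derived quotient a four-group. -/
theorem klein_of_class {X : Type u} [Group X] [Finite X] (n : ℕ) (hn : 3 ≤ n) (hX : Nat.card X = 2 ^ n)
    (hc : Group.nilpotencyClass X = n - 1) : IsKleinFour (X ⧸ commutator X) := by
  have hG : IsPGroup 2 X := IsPGroup.of_card hX
  have hnil := hG.isNilpotent
  have : Fact (Nat.Prime 2) := ⟨Nat.prime_two⟩
  have hgen : ∀ y : X, Subgroup.zpowers y ⊔ commutator X ≠ ⊤ := fun y h => by
    have := class_le_one_of_zpowers_top y (eq_or_isCyclic_of_sup_commutator hG y h)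
    omega
  have hle := index_commutator_le (p := 2) n (by omega) hX hc
  have hnc : ¬ IsCyclic (X ⧸ commutator X) := by
    intro hcy
    obtain ⟨q, hq⟩ := hcy.exists_generator
    obtain ⟨y, rfl⟩ := QuotientGroup.mk'_surjective (commutator X) q
    refine hgen y (top_unique fun x _ => ?_)
    obtain ⟨k, hk⟩ := Subgroup.mem_zpowers_iff.1 (hq (QuotientGroup.mk' _ x))
    rw [← map_zpow, QuotientGroup.mk'_eq_mk'] at hk
    obtain ⟨w, hw, hw'⟩ := hk
    rw [← hw']
    exact mul_mem (Subgroup.mem_sup_left (Subgroup.zpow_mem_zpowers y k)) (Subgroup.mem_sup_right hw)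
  obtain ⟨k, hk⟩ := IsPGroup.iff_card.1 (hG.to_quotient (commutator X))
  have hk2 : k ≤ 2 := by
    rw [Subgroup.index, hk] at hle
    exact (Nat.pow_le_pow_iff_right one_lt_two).1 hle
  have hk' : k = 2 := by
    by_contra hne
    rcases (show k = 0 ∨ k = 1 by omega) with rfl | rfl
    · rw [pow_zero] at hk
      have := (Nat.card_eq_one_iff_unique.1 hk).1
      exact hnc inferInstance
    · exact hnc (isCyclic_of_prime_card (p := 2) (by rw [hk, pow_one]))
  have : Nontrivial (X ⧸ commutator X) := by
    rw [← Finite.one_lt_card_iff_nontrivial, hk, hk']; norm_num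
  refine { card_four := by rw [hk, hk']; norm_num, exponent_two := ?_ }
  refine Monoid.exponent_eq_prime_iff Nat.prime_two |>.2 fun q hq => ?_
  obtain ⟨m, hm⟩ := IsPGroup.iff_orderOf.1 (hG.to_quotient (commutator X)) q
  have hm2 : 2 ^ m ∣ 2 ^ 2 := by rw [← hm]; have := orderOf_dvd_natCard q; rwa [hk, hk'] at this
  have hm2' := (Nat.pow_dvd_pow_iff_le_right one_lt_two).1 hm2
  interval_cases m
  · exact absurd (orderOf_eq_one_iff.1 (by simpa using hm)) hq
  · simpa using hm
  · exfalso
    refine hnc (isCyclic_iff_exists_zpowers_eq_top.2 ⟨q, ?_⟩)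
    exact Subgroup.eq_top_of_card_eq _ (by rw [Nat.card_zpowers, hm, hk, hk'])

omit hp in
theorem index_four_of_klein {X : Type u} [Group X] (h : IsKleinFour (X ⧸ commutator X)) :
    (commutator X).index = 4 := h.card_four

omit hp in
/-- The central quotient is dihedral. -/
theorem quotient_center_dihedral {X : Type u} [Group X] [Finite X] (n : ℕ) (hn : 3 ≤ n)
    (hX : Nat.card X = 2 ^ n) (hidx : (commutator X).index = 4) :
    Nonempty (X ⧸ Subgroup.center X ≃* DihedralGroup (2 ^ (n - 2))) := by
  obtain ⟨a, t, -, -, hgen, htt, hta, -, hc2, hapow⟩ := structure_two n hn hX hidx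
  set π := QuotientGroup.mk' (Subgroup.center X)
  have : NeZero (2 ^ (n - 2)) := ⟨(Nat.two_pow_pos _).ne'⟩
  have hQ : Nat.card (X ⧸ Subgroup.center X) = 2 * 2 ^ (n - 2) := by
    have h := Subgroup.card_eq_card_quotient_mul_card_subgroup (Subgroup.center X)
    rw [hX, hc2, show n = n - 2 + 1 + 1 by omega, pow_succ, pow_succ'] at h
    omega
  have hx : π t * π t = 1 := by
    rw [← map_mul, QuotientGroup.mk'_apply, QuotientGroup.eq_one_iff]; exact htt
  have hpow : π a ^ 2 ^ (n - 2) = 1 := by
    rw [← map_pow, QuotientGroup.mk'_apply, QuotientGroup.eq_one_iff]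
    exact hapow
  have hconj : π t * π a * (π t)⁻¹ = (π a)⁻¹ := by
    rw [← mul_inv_eq_one, inv_inv, ← map_inv, ← map_mul, ← map_mul, ← map_mul,
      QuotientGroup.mk'_apply, QuotientGroup.eq_one_iff]
    exact hta
  let f := CfsgLib.Invol.dihedralHom (π t) (π a) hx hpow hconj
  have hsurj : Function.Surjective f := by
    rw [← MonoidHom.range_eq_top, eq_top_iff, ← MonoidHom.range_eq_top.2
      (QuotientGroup.mk'_surjective (Subgroup.center X)), MonoidHom.range_eq_map, ← hgen, Subgroup.map_sup,
      MonoidHom.map_zpowers, MonoidHom.map_zpowers]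
    refine sup_le (Subgroup.zpowers_le.2 ⟨DihedralGroup.r 1, ?_⟩) (Subgroup.zpowers_le.2 ⟨DihedralGroup.sr 0, ?_⟩)
    · show π a ^ (((1 : ZMod (2 ^ (n - 2))).val : ℕ) : ℤ) = π a
      have : Fact (1 < 2 ^ (n - 2)) := ⟨Nat.one_lt_pow (by omega) one_lt_two⟩
      rw [ZMod.val_one]; simp
    · show π t * π a ^ (((0 : ZMod (2 ^ (n - 2))).val : ℕ) : ℤ) = π t
      simp
  refine ⟨(MulEquiv.ofBijective f ((Nat.bijective_iff_surjective_and_card f).2
    ⟨hsurj, by rw [DihedralGroup.nat_card, hQ]⟩)).symm⟩

end CfsgLib.PGroup.MaxClass
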