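import Cfsg.Agent.Lib.PGroup.CyclicMaximalClass
import Cfsg.Agent.Lib.PSL2Sub.Small
import Cfsg.Agent.Lib.Solvable.UniqueInvolution
import Cfsg.Prelude.Def_PLocal
import Cfsg.Prelude.Def_CaseTheorems
import Cfsg.Prelude.Def_Transfer

/-!
p-groups with a self-centralising cyclic normal subgroup.
-/

set_option autoImplicit false

open Subgroup

namespace CfsgLib.PGroup.SelfCent

variable {G : Type*} [Group G] [Finite G] {p : ℕ} [hp : Fact p.Prime] {u : G} {n : ℕ}

omit [Finite G] in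
theorem powerClosure_zpowers (u : G) :
    Cfsg.powerClosure p 1 (zpowers u) = zpowers (u ^ p) := by
  refine le_antisymm ((closure_le _).2 ?_) (zpowers_le.2 (subset_closure ?_))
  · rintro y ⟨x, hx, rfl⟩
    obtain ⟨k, rfl⟩ := mem_zpowers_iff.1 hx
    refine ⟨k, ?_⟩
    rw [pow_one]
    show (u ^ p) ^ k = (u ^ k) ^ p
    rw [← zpow_natCast u p, ← zpow_natCast (u ^ k) p, ← zpow_mul, ← zpow_mul, mul_comm]
  · exact ⟨u, mem_zpowers u, by rw [pow_one]⟩

omit [Finite G] hp in
theorem mem_centralizer_zpowers {x g : G} :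
    g ∈ centralizer (zpowers x : Set G) ↔ g * x * g⁻¹ = x := by
  rw [mul_inv_eq_iff_eq_mul]
  refine ⟨fun h => (mem_centralizer_iff.1 h x (mem_zpowers x)).symm, fun h => ?_⟩
  rw [mem_centralizer_iff]
  intro y hy
  obtain ⟨k, rfl⟩ := mem_zpowers_iff.1 hy
  exact ((Commute.zpow_right (a := g) h k).eq).symm

omit [Finite G] hp in
theorem dvd_iff (hu : orderOf u = p ^ n) {x : ℤ} : u ^ x = 1 ↔ (p : ℤ) ^ n ∣ x := by
  rw [← orderOf_dvd_iff_zpow_eq_one, hu, Nat.cast_pow]

omit [Finite G] hp in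
theorem zpow_congr (hu : orderOf u = p ^ n) {x y : ℤ} (h : (p : ℤ) ^ n ∣ x - y) : u ^ x = u ^ y :=
  zpow_eq_of_dvd hu (by rwa [Nat.cast_pow])

/-- A group of order `2^(n+1)` with a cyclic subgroup of index two is dihedral, quaternion or
semidihedral unless (for `n ≥ 3`) its squares are central. -/
theorem maximalClass_cases {G : Type*} [Group G] [Finite G] (n : ℕ) (hn : 2 ≤ n)
    (hG : Nat.card G = 2 ^ (n + 1)) (U : Subgroup G) (hU : IsCyclic U) (hUi : U.index = 2)
    (hna : ∃ x y : G, x * y ≠ y * x) (hsq : 3 ≤ n → ∃ x g : G, g * x ^ 2 * g⁻¹ ≠ x ^ 2) :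
    (∃ m : ℕ, Nonempty (G ≃* DihedralGroup m)) ∨ (∃ m : ℕ, Nonempty (G ≃* QuaternionGroup m)) ∨
      Cfsg.IsQuasiDihedral G := by
  obtain ⟨a, b, ha, hb, hcase⟩ := CfsgLib.PGroup.cyclic_maximal_two (n + 1) (by omega) hG U hU hUi hna
  rw [Nat.add_sub_cancel] at ha
  rw [show n + 1 - 2 = n - 1 by omega] at hcase
  have hAi : (zpowers a).index = 2 := by
    have h := (zpowers a).card_mul_index
    rw [Nat.card_zpowers, ha, hG, pow_succ] at h
    exact Nat.eq_of_mul_eq_mul_left (pow_pos two_pos n) h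
  have hout : ∀ x : G, x ∉ zpowers a → ∃ i : ℤ, x = a ^ i * b⁻¹ := by
    intro x hx
    have : x * b ∈ zpowers a := (mul_mem_iff_of_index_two hAi).2 (by tauto)
    obtain ⟨i, hi⟩ := mem_zpowers_iff.1 this
    exact ⟨i, by rw [hi, mul_inv_cancel_right]⟩
  rcases hcase with ⟨hb2, hba⟩ | ⟨hb2, hba⟩ | ⟨hn4, hb2, hba⟩ | ⟨hn4, hb2, hba⟩
  · refine Or.inl ⟨Nat.card (zpowers a),
      CfsgLib.PSL2Sub.dihedral_of_index_two (zpowers a) hAi inferInstance fun x hx => ?_⟩
    obtain ⟨i, rfl⟩ := hout x hx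
    have hbi : b⁻¹ = b := inv_eq_of_mul_eq_one_right (by rwa [sq] at hb2)
    calc a ^ i * b⁻¹ * (a ^ i * b⁻¹) = a ^ i * (b * a * b⁻¹) ^ i := by
          rw [conj_zpow, hbi]; simp only [mul_assoc]
      _ = 1 := by rw [hba, inv_zpow, mul_inv_cancel]
  · have h2n : 2 * 2 ^ (n - 1) = 2 ^ n := by rw [← pow_succ']; congr 1; omega
    haveI : NeZero (2 ^ (n - 1)) := ⟨by positivity⟩
    exact Or.inr (Or.inl ⟨2 ^ (n - 1), CfsgLib.Solvable.nonempty_mulEquiv_quaternionGroup a b
      (by rw [h2n, ha]) hba hb2 hb hAi⟩)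
  · exfalso
    obtain ⟨x, g, hxg⟩ := hsq (by omega)
    apply hxg
    have hbi : b⁻¹ = b := inv_eq_of_mul_eq_one_right (by rwa [sq] at hb2)
    have hhalf : (2 : ℤ) * (2 : ℤ) ^ (n - 1) = 2 ^ n := by rw [← pow_succ']; congr 1; omega
    have hb2a : b * a ^ (2 : ℤ) * b⁻¹ = a ^ (2 : ℤ) := by
      rw [← conj_zpow, hba, ← zpow_natCast, ← zpow_mul]
      refine CfsgLib.PGroup.zpow_eq_of_dvd ha ?_
      push_cast
      exact ⟨1, by linear_combination hhalf⟩
    have hcent : a ^ (2 : ℤ) ∈ center G := by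
      rw [mem_center_iff]
      intro y
      have htop : zpowers a ⊔ zpowers b ≤ centralizer {a ^ (2 : ℤ)} := by
        refine sup_le (zpowers_le.2 ?_) (zpowers_le.2 ?_) <;> rw [mem_centralizer_singleton_iff]
        · exact ((Commute.refl a).zpow_right 2).eq
        · exact mul_inv_eq_iff_eq_mul.1 hb2a
      rw [CfsgLib.PGroup.sup_zpowers_eq_top Nat.prime_two hAi hb] at htop
      exact mem_centralizer_singleton_iff.1 (htop (mem_top y))
    have hx2 : x ^ 2 ∈ center G := by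
      by_cases hx : x ∈ zpowers a
      · obtain ⟨i, rfl⟩ := mem_zpowers_iff.1 hx
        rw [← zpow_natCast, ← zpow_mul, mul_comm, zpow_mul]
        exact zpow_mem hcent i
      · obtain ⟨i, rfl⟩ := hout x hx
        have : (a ^ i * b⁻¹) ^ 2 = a ^ i * (b * a * b⁻¹) ^ i := by
          rw [sq, conj_zpow, hbi]; simp only [mul_assoc]
        rw [this, hba, ← zpow_natCast a, ← zpow_mul, ← zpow_add]
        have h2 : i + ((1 + 2 ^ (n - 1) : ℕ) : ℤ) * i = 2 * (i * (1 + (2 : ℤ) ^ (n - 2))) := by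
          have h3 : (2 : ℤ) ^ (n - 1) = 2 * 2 ^ (n - 2) := by rw [← pow_succ']; congr 1; omega
          push_cast
          rw [h3]; ring
        rw [h2, zpow_mul]
        exact zpow_mem hcent _
    rw [mem_center_iff.1 hx2 g, mul_inv_cancel_right]
  · refine Or.inr (Or.inr ⟨n, by omega, hG, a, b, ha, ?_, hba⟩)
    exact orderOf_eq_prime hb2 fun h => hb (by rw [h]; exact one_mem _)

/-- Either `U = ⟨u⟩` is maximal and `G` is dihedral, quaternion or semidihedral, or `U` has index `p`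
in `M = C(u ^ p)` and `Ω₁(M)` is elementary abelian of order `p ^ 2` and characteristic. -/
theorem dichotomy (hG : IsPGroup p G) (hna : ¬ IsMulCommutative G) (hun : (zpowers u).Normal)
    (hu : orderOf u = p ^ n) (hC : centralizer (zpowers u : Set G) = zpowers u) :
    (2 ≤ n) ∧ ((p = 2 ∧ Nat.card G = 2 ^ (n + 1) ∧ ((∃ m : ℕ, Nonempty (G ≃* DihedralGroup m)) ∨
      (∃ m : ℕ, Nonempty (G ≃* QuaternionGroup m)) ∨ Cfsg.IsQuasiDihedral G)) ∨
    ((zpowers u).relIndex (centralizer (zpowers (u ^ p) : Set G)) = p ∧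
      Cfsg.IsElementaryAbelian p (Cfsg.omegaOne p (centralizer (zpowers (u ^ p) : Set G))) ∧
      Nat.card ↥(Cfsg.omegaOne p (centralizer (zpowers (u ^ p) : Set G))) = p ^ 2 ∧
      (Cfsg.omegaOne p (centralizer (zpowers (u ^ p) : Set G))).Characteristic)) := by
  classical
  have hP := hp.out
  set U := zpowers u with hUdef
  set M := centralizer (zpowers (u ^ p) : Set G) with hMdef
  have hmemC : ∀ g : G, g * u * g⁻¹ = u → g ∈ U := fun g hg =>
    hC ▸ mem_centralizer_zpowers.2 hg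
  have hexp : ∀ g : G, ∃ r : ℤ, g * u * g⁻¹ = u ^ r := fun g => by
    obtain ⟨r, hr⟩ := mem_zpowers_iff.1 (hun.conj_mem u (mem_zpowers u) g)
    exact ⟨r, hr.symm⟩
  have hUtop : U ≠ ⊤ := fun h => hna ⟨⟨fun x y => by
    obtain ⟨i, rfl⟩ := mem_zpowers_iff.1 (show x ∈ U by rw [h]; exact mem_top x)
    obtain ⟨j, rfl⟩ := mem_zpowers_iff.1 (show y ∈ U by rw [h]; exact mem_top y)
    exact (Commute.zpow_zpow_self u i j).eq⟩⟩
  -- `n ≥ 2`
  have hn : 2 ≤ n := by
    by_contra hn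
    obtain ⟨g, -, hgU, hgp, hgc⟩ := exists_step hG U ⊤ (lt_of_le_of_ne le_top hUtop)
    refine hgU (hmemC g ?_)
    interval_cases n
    · rw [pow_zero] at hu
      rw [orderOf_eq_one_iff.1 hu, mul_one, mul_inv_cancel]
    · rw [pow_one] at hu
      obtain ⟨z, hzU, hzc, hz⟩ := exists_central_orderOf_eq hG U (by
        intro h
        rw [hUdef, zpowers_eq_bot] at h
        rw [h, orderOf_one] at hu
        exact hP.ne_one hu.symm)
      have hle : zpowers z ≤ U := zpowers_le.2 hzU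
      have : zpowers z = U := eq_of_le_of_card_ge hle (by rw [Nat.card_zpowers, Nat.card_zpowers, hz, hu])
      have hu' : u ∈ center G := zpowers_le.2 hzc (this ▸ mem_zpowers u)
      rw [mem_center_iff.1 hu' g, mul_inv_cancel_right]
  refine ⟨hn, ?_⟩
  have hdvd : ∀ x : ℤ, u ^ x = 1 → (p : ℤ) ^ n ∣ x := fun x h => (dvd_iff hu).1 h
  have hcongr : ∀ {x y : ℤ}, (p : ℤ) ^ n ∣ x - y → u ^ x = u ^ y := fun h => zpow_congr hu h
  have hUM : U ≤ M := zpowers_le.2 (mem_centralizer_zpowers.2 (by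
    rw [((Commute.refl u).pow_right p).eq, mul_inv_cancel_right]))
  have hMn : M.Normal := by
    have : (zpowers (u ^ p)).Normal := ⟨fun x hx g => by
      obtain ⟨i, rfl⟩ := mem_zpowers_iff.1 hx
      obtain ⟨r, hr⟩ := hexp g
      refine ⟨r * i, ?_⟩
      show (u ^ p) ^ (r * i) = g * (u ^ p) ^ i * g⁻¹
      rw [← conj_zpow, ← conj_pow, hr, ← zpow_natCast (u ^ r), ← zpow_natCast u p, ← zpow_mul,
        ← zpow_mul, ← zpow_mul]
      ring_nf⟩
    exact Subgroup.normal_centralizer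
  have hmemM : ∀ (g : G) (r : ℤ), g * u * g⁻¹ = u ^ r → (p : ℤ) ^ n ∣ p * (r - 1) → g ∈ M := by
    intro g r hr h
    rw [hMdef, mem_centralizer_zpowers, ← conj_pow, hr, ← zpow_natCast, ← zpow_mul, ← zpow_natCast]
    exact hcongr (by rw [show r * p - p = p * (r - 1) by ring]; exact h)
  have hrel : U.relIndex M = 1 ∨ U.relIndex M = p := by
    have hle : U.relIndex M ≤ p := by
      have := Fintype.ofFinite U
      have hS := IsCyclic.card_pow_eq_one_le (α := U) hP.pos
      refine le_trans ?_ hS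
      rw [relIndex, index, ← Nat.card_eq_finsetCard]
      refine Nat.card_le_card_of_injective (fun q =>
        ⟨⟨(q.out : G) * u * (q.out : G)⁻¹ * u⁻¹,
          U.mul_mem (hun.conj_mem u (mem_zpowers u) _) (U.inv_mem (mem_zpowers u))⟩, ?_⟩) ?_
      · have h1 := mem_centralizer_zpowers.1 (q.out.2 : (q.out : G) ∈ M)
        have hc : Commute ((q.out : G) * u * (q.out : G)⁻¹) u⁻¹ := by
          obtain ⟨r, hr⟩ := hexp (q.out : G)
          rw [hr]; exact ((Commute.refl u).zpow_left r).inv_right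
        simp only [Finset.mem_filter, Finset.mem_univ, true_and, Subtype.ext_iff, Subgroup.coe_pow,
          OneMemClass.coe_one]
        rw [hc.mul_pow, conj_pow, h1, inv_pow, mul_inv_cancel]
      · intro q q' h
        simp only [Subtype.mk.injEq, mul_left_inj] at h
        rw [← Quotient.out_eq q, ← Quotient.out_eq q']
        apply QuotientGroup.eq.2
        rw [mem_subgroupOf]
        refine hmemC _ ?_
        push_cast
        calc (q.out : G)⁻¹ * (q'.out : G) * u * ((q.out : G)⁻¹ * (q'.out : G))⁻¹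
            = (q.out : G)⁻¹ * ((q'.out : G) * u * (q'.out : G)⁻¹) * (q.out : G) := by group
          _ = u := by rw [← h]; group
    obtain ⟨k, hk⟩ := (hG.to_subgroup M).index (U.subgroupOf M)
    rw [relIndex] at hle ⊢
    rw [hk] at hle ⊢
    rcases k with _ | _ | k
    · exact Or.inl (pow_zero p)
    · exact Or.inr (pow_one p)
    · exfalso
      have h2 : p ^ 2 ≤ p ^ (k + 1 + 1) := Nat.pow_le_pow_right hP.pos (by omega)
      have := hP.two_le
      nlinarith
  have hclass : p = 2 → U.index = 2 → (3 ≤ n → ∃ g, g ∉ M) →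
      (p = 2 ∧ Nat.card G = 2 ^ (n + 1) ∧ ((∃ m : ℕ, Nonempty (G ≃* DihedralGroup m)) ∨
      (∃ m : ℕ, Nonempty (G ≃* QuaternionGroup m)) ∨ Cfsg.IsQuasiDihedral G)) := by
    intro hp2 hi hsq
    subst hp2
    have hcard : Nat.card G = 2 ^ (n + 1) := by
      rw [← U.card_mul_index, hi, Nat.card_zpowers, hu, pow_succ]
    refine ⟨rfl, hcard, maximalClass_cases n hn hcard U inferInstance hi ?_ fun h3 => ?_⟩
    · by_contra hall
      push Not at hall
      exact hna ⟨⟨hall⟩⟩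
    · obtain ⟨g, hg⟩ := hsq h3
      exact ⟨u, g, fun h => hg (mem_centralizer_zpowers.2 h)⟩
  rcases hrel with hMU | hMU
  · -- `M = U`
    left
    rw [relIndex_eq_one] at hMU
    have hkey : ∀ g : G, g ∉ U → g ^ p ∈ U → p = 2 ∧ 3 ≤ n ∧
        ∃ r : ℤ, g * u * g⁻¹ = u ^ r ∧ (p : ℤ) ^ (n - 1) ∣ r + 1 := by
      intro g hgU hgp
      have hgM : g ∉ M := fun h => hgU (hMU h)
      obtain ⟨r, hr⟩ := hexp g
      have hiter : ∀ k : ℕ, g ^ k * u * (g ^ k)⁻¹ = u ^ (r ^ k) := by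
        intro k
        induction k with
        | zero => simp
        | succ k ih =>
          calc g ^ (k + 1) * u * (g ^ (k + 1))⁻¹ = g * (g ^ k * u * (g ^ k)⁻¹) * g⁻¹ := by
                simp only [pow_succ', mul_inv_rev, mul_assoc]
            _ = (g * u * g⁻¹) ^ (r ^ k) := by rw [ih, conj_zpow]
            _ = u ^ (r ^ (k + 1)) := by rw [hr, ← zpow_mul, pow_succ']
      have hrp : (p : ℤ) ^ n ∣ r ^ p - 1 := by
        refine hdvd _ ?_
        obtain ⟨i, hi⟩ := mem_zpowers_iff.1 hgp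
        rw [zpow_sub, zpow_one, ← hiter p, ← hi, (Commute.zpow_self u i).eq, mul_inv_cancel_right,
          mul_inv_cancel]
      by_cases hp2 : p = 2
      · subst hp2
        obtain ⟨x, hx⟩ : ∃ x : ℤ, r = 2 * x + 1 := by
          rcases Int.even_or_odd r with ⟨t, ht⟩ | h
          · exfalso
            have h2 : (2 : ℤ) ∣ r ^ 2 - 1 := (dvd_pow_self (2 : ℤ) (by omega : n ≠ 0)).trans (by
              exact_mod_cast hrp)
            have h3 : (2 : ℤ) ∣ r ^ 2 := ⟨t * r, by rw [ht]; ring⟩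
            have := dvd_sub h3 h2
            norm_num at this
          · exact h
        obtain ⟨m, rfl⟩ : ∃ m, n = m + 2 := ⟨n - 2, by omega⟩
        push_cast at hrp ⊢
        have h4 : (2 : ℤ) ^ 2 * 2 ^ m ∣ 2 ^ 2 * (x * (x + 1)) := by
          have : (2 : ℤ) ^ 2 * (x * (x + 1)) = r ^ 2 - 1 := by rw [hx]; ring
          rw [this, mul_comm, ← pow_add]; exact hrp
        have h5 : (2 : ℤ) ^ m ∣ x * (x + 1) := Int.dvd_of_mul_dvd_mul_left (by norm_num) h4
        have hno : ¬ (2 : ℤ) ^ m ∣ x := by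
          rintro ⟨s, hs⟩
          refine hgM (hmemM g r hr ⟨s, ?_⟩)
          push_cast
          rw [hx, hs, pow_add]; ring
        refine ⟨trivial, ?_, r, hr, ?_⟩
        · by_contra h
          obtain rfl : m = 0 := by omega
          exact hno (by simp)
        · rcases Int.even_or_odd x with ⟨t, ht⟩ | ⟨t, ht⟩
          · exact absurd ((IsCoprime.pow_left (y := x + 1) ⟨-t, 1, by rw [ht]; ring⟩
              : IsCoprime ((2 : ℤ) ^ m) (x + 1)).dvd_of_dvd_mul_right h5) hno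
          · obtain ⟨s, hs⟩ := (IsCoprime.pow_left (y := x) ⟨-t, 1, by rw [ht]; ring⟩
              : IsCoprime ((2 : ℤ) ^ m) x).dvd_of_dvd_mul_left h5
            refine ⟨s, ?_⟩
            rw [pow_succ, hx]
            linear_combination 2 * hs
      · exfalso
        refine hgM (hmemM g r hr ?_)
        have hr1 : (p : ℤ) ∣ r - 1 := by
          have h1 : (p : ℤ) ∣ r ^ p - 1 := (dvd_pow_self _ (by omega : n ≠ 0)).trans hrp
          have h2 : (p : ℤ) ∣ r ^ p - r := by
            rw [← ZMod.intCast_zmod_eq_zero_iff_dvd]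
            push_cast
            rw [ZMod.pow_card, sub_self]
          have := dvd_sub h1 h2
          rwa [sub_sub_sub_cancel_left] at this
        exact dvd_of_dvd_one_add_pow_sub hp2 n (r - 1) hr1 (by rwa [add_sub_cancel])
    obtain ⟨g, -, hgU, hgp, -⟩ := exists_step hG U ⊤ (lt_of_le_of_ne le_top hUtop)
    obtain ⟨hp2, hn3, -⟩ := hkey g hgU hgp
    subst hp2
    have hall : ∀ g : G, g ^ 2 ∈ U := by
      intro g
      by_contra hg2
      have hex : ∃ k : ℕ, g ^ 2 ^ k ∈ U := by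
        obtain ⟨k, hk⟩ := hG g
        exact ⟨k, by rw [hk]; exact one_mem _⟩
      have hk0 := Nat.find_spec hex
      obtain ⟨j, hj⟩ : ∃ j, Nat.find hex = j + 2 := by
        refine ⟨Nat.find hex - 2, ?_⟩
        by_contra h
        have hle : Nat.find hex ≤ 1 := by omega
        refine hg2 ?_
        rcases Nat.le_one_iff_eq_zero_or_eq_one.1 hle with h' | h' <;> rw [h'] at hk0
        · rw [pow_zero, pow_one] at hk0; exact pow_mem hk0 2
        · rwa [pow_one] at hk0
      have hh : (g ^ 2 ^ j) ^ 2 ∉ U := by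
        rw [← pow_mul, ← pow_succ]
        exact Nat.find_min hex (by omega)
      obtain ⟨-, -, r₂, hr₂, hd⟩ := hkey _ hh (by
        rw [← pow_mul, ← pow_mul, show 2 ^ j * (2 * 2) = 2 ^ (j + 2) by ring, ← hj]; exact hk0)
      obtain ⟨r, hr⟩ := hexp (g ^ 2 ^ j)
      have hsq : (g ^ 2 ^ j) ^ 2 * u * ((g ^ 2 ^ j) ^ 2)⁻¹ = u ^ (r * r) := by
        calc (g ^ 2 ^ j) ^ 2 * u * ((g ^ 2 ^ j) ^ 2)⁻¹
            = g ^ 2 ^ j * (g ^ 2 ^ j * u * (g ^ 2 ^ j)⁻¹) * (g ^ 2 ^ j)⁻¹ := by rw [sq]; group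
          _ = u ^ (r * r) := by rw [hr, ← conj_zpow, hr, ← zpow_mul]
      have h1 : (2 : ℤ) ^ n ∣ r * r - r₂ := by
        have := hdvd (r * r - r₂) (by rw [zpow_sub, ← hsq, hr₂, mul_inv_cancel])
        exact_mod_cast this
      push_cast at hd
      obtain ⟨m, rfl⟩ : ∃ m, n = m + 3 := ⟨n - 3, by omega⟩
      rw [show m + 3 - 1 = m + 2 by omega] at hd
      have h4 : (4 : ℤ) ∣ r * r + 1 := by
        have a1 : (4 : ℤ) ∣ r * r - r₂ := dvd_trans ⟨2 ^ (m + 1), by ring⟩ h1
        have a2 : (4 : ℤ) ∣ r₂ + 1 := dvd_trans ⟨2 ^ m, by ring⟩ hd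
        have := dvd_add a1 a2
        rwa [show r * r - r₂ + (r₂ + 1) = r * r + 1 by ring] at this
      rcases Int.even_or_odd r with ⟨t, ht⟩ | ⟨t, ht⟩ <;> rw [ht] at h4 <;> ring_nf at h4 <;> omega
    refine hclass rfl ?_ fun _ => ⟨g, fun h => hgU (hMU h)⟩
    rw [index_eq_two_iff]
    refine ⟨g, fun b => ?_⟩
    by_cases hb : b ∈ U
    · exact Or.inr ⟨hb, fun h => hgU ((U.mul_mem_cancel_left hb).1 h)⟩
    · refine Or.inl ⟨?_, hb⟩
      obtain ⟨-, -, r, hr, hrd⟩ := hkey g hgU (hall g)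
      obtain ⟨-, -, s, hs, hsd⟩ := hkey b hb (hall b)
      refine hMU (hmemM (b * g) (r * s) ?_ ?_)
      · calc b * g * u * (b * g)⁻¹ = b * (g * u * g⁻¹) * b⁻¹ := by group
          _ = u ^ (r * s) := by rw [hr, ← conj_zpow, hs, ← zpow_mul, mul_comm]
      · obtain ⟨m, rfl⟩ : ∃ m, n = m + 1 := ⟨n - 1, by omega⟩
        rw [Nat.add_sub_cancel] at hrd hsd
        rw [pow_succ']
        refine mul_dvd_mul_left _ ?_
        have := dvd_sub (hrd.mul_right s) hsd
        rwa [show (r + 1) * s - (s + 1) = r * s - 1 by ring] at this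
  · -- `|M : U| = p`
    by_cases hsmall : p = 2 ∧ n = 2
    · obtain ⟨rfl, rfl⟩ := hsmall
      left
      have hMtop : M = ⊤ := by
        rw [eq_top_iff]
        intro g _
        obtain ⟨r, hr⟩ := hexp g
        refine hmemM g r hr ?_
        rcases Int.even_or_odd r with ⟨t, ht⟩ | ⟨t, ht⟩
        · exfalso
          have h1 : u ^ (r * 2) = 1 := (dvd_iff hu).2 ⟨t, by rw [ht]; push_cast; ring⟩
          have h2 : g * u ^ 2 * g⁻¹ = 1 := by
            rw [← conj_pow, hr, ← zpow_natCast, ← zpow_mul]; exact h1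
          rw [conj_eq_one_iff, ← orderOf_dvd_iff_pow_eq_one, hu] at h2
          norm_num at h2
        · exact ⟨t, by rw [ht]; push_cast; ring⟩
      rw [hMtop, relIndex_top_right] at hMU
      exact hclass rfl hMU (by omega)
    right
    refine ⟨hMU, ?_⟩
    have hMpow : ∀ g ∈ M, g ^ p ∈ U := fun g hg => by
      haveI : (U.subgroupOf M).Normal := hun.subgroupOf M
      have h := (U.subgroupOf M).pow_index_mem ⟨g, hg⟩
      rw [show (U.subgroupOf M).index = p from hMU] at h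
      exact h
    obtain ⟨b₀, hb₀M, hb₀U⟩ := SetLike.exists_of_lt (lt_of_le_of_ne hUM fun h => by
      rw [h, relIndex_self] at hMU; exact hP.ne_one hMU.symm)
    set z : G := u ^ ((p : ℤ) ^ (n - 1)) with hz
    obtain ⟨m, rfl⟩ : ∃ m, n = m + 2 := ⟨n - 2, by omega⟩
    rw [show m + 2 - 1 = m + 1 by omega] at hz
    have hMexp : ∀ g ∈ M, ∃ t : ℤ, (p : ℤ) ^ (m + 1) ∣ t ∧ g * u * g⁻¹ = u ^ (1 + t) := by
      intro g hg
      obtain ⟨r, hr⟩ := hexp g
      refine ⟨r - 1, ?_, by rw [add_sub_cancel, hr]⟩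
      have h1 := mem_centralizer_zpowers.1 hg
      rw [← conj_pow, hr, ← zpow_natCast, ← zpow_mul, ← zpow_natCast] at h1
      have h2 := hdvd (r * p - p) (by rw [zpow_sub, h1, mul_inv_cancel])
      rw [show r * p - p = p * (r - 1) by ring, pow_succ' _ (m + 1)] at h2
      exact Int.dvd_of_mul_dvd_mul_left (by exact_mod_cast hP.ne_zero) h2
    have ht3 : ∀ t : ℤ, (p : ℤ) ^ (m + 1) ∣ t → ∃ s : ℤ, (p.choose 2 : ℤ) * t = p * s ∧
        (p : ℤ) ∣ s ∧ (p : ℤ) ^ (m + 1) ∣ s * s := by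
      intro t ⟨t', ht'⟩
      by_cases hp2 : p = 2
      · subst hp2
        obtain ⟨k, rfl⟩ : ∃ k, m = k + 1 := ⟨m - 1, by
          by_contra h
          exact hsmall ⟨rfl, by omega⟩⟩
        refine ⟨(2 : ℤ) ^ (k + 1) * t', ?_, ⟨2 ^ k * t', ?_⟩, ⟨2 ^ k * t' * t', ?_⟩⟩
        · rw [ht', Nat.choose_self]; push_cast; ring
        · push_cast; ring
        · push_cast; ring
      · obtain ⟨k, hk⟩ := hP.dvd_choose_self (k := 2) (by norm_num)
          (lt_of_le_of_ne hP.two_le (Ne.symm hp2))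
        refine ⟨k * t, by rw [hk]; push_cast; ring, ?_, ?_⟩
        · exact ((dvd_pow_self _ (Nat.succ_ne_zero m)).trans ⟨t', ht'⟩).mul_left _
        · exact Dvd.dvd.mul_left (Dvd.dvd.mul_left ⟨t', ht'⟩ _) _
    have hpowform : ∀ (g : G) (j : ℤ) (t : ℤ), (p : ℤ) ^ (m + 1) ∣ t → g * u * g⁻¹ = u ^ (1 + t) →
        ∀ k : ℕ, (u ^ j * g) ^ k = u ^ (j * k + (k.choose 2 : ℤ) * t * j) * g ^ k := by
      intro g j t ht hg k
      have hgk : ∀ k : ℕ, g ^ k * u ^ j * (g ^ k)⁻¹ = u ^ (j + k * t * j) := by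
        intro k
        induction k with
        | zero => simp
        | succ k ih =>
          calc g ^ (k + 1) * u ^ j * (g ^ (k + 1))⁻¹ = g * (g ^ k * u ^ j * (g ^ k)⁻¹) * g⁻¹ := by
                simp only [pow_succ', mul_inv_rev, mul_assoc]
            _ = (g * u * g⁻¹) ^ (j + k * t * j) := by rw [ih, conj_zpow]
            _ = u ^ (j + ((k + 1 : ℕ) : ℤ) * t * j) := by
              rw [hg, ← zpow_mul]
              refine hcongr ?_
              obtain ⟨t', ht'⟩ := ht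
              exact ⟨(p : ℤ) ^ m * k * j * t' * t', by rw [ht']; push_cast; ring⟩
      induction k with
      | zero => simp
      | succ k ih =>
        calc (u ^ j * g) ^ (k + 1)
            = u ^ (j * k + (k.choose 2 : ℤ) * t * j) * (g ^ k * u ^ j * (g ^ k)⁻¹) * g ^ (k + 1) := by
              rw [pow_succ, ih, pow_succ]; group
          _ = u ^ (j * ((k + 1 : ℕ) : ℤ) + ((k + 1).choose 2 : ℤ) * t * j) * g ^ (k + 1) := by
            rw [hgk, ← zpow_add, Nat.choose_succ_succ' k 1, Nat.choose_one_right]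
            congr 2
            push_cast; ring
    -- an element of order `p` outside `U`
    obtain ⟨b, hbM, hbU, hbp⟩ : ∃ b ∈ M, b ∉ U ∧ b ^ p = 1 := by
      obtain ⟨t, ht, hbt⟩ := hMexp b₀ hb₀M
      obtain ⟨s, hs, -, hs2⟩ := ht3 t ht
      obtain ⟨k, hk⟩ := mem_zpowers_iff.1 (hMpow b₀ hb₀M)
      have hpk : (p : ℤ) ∣ k := by
        have h1 : u ^ ((1 + t) * k) = u ^ k := by
          rw [zpow_mul, ← hbt, conj_zpow, hk, ((Commute.refl b₀).pow_right p).eq, mul_inv_cancel_right]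
        have h2 := hdvd ((1 + t) * k - k) (by rw [zpow_sub, h1, mul_inv_cancel])
        rw [show (1 + t) * k - k = t * k by ring] at h2
        by_contra hpk
        refine hb₀U (hmemC b₀ ?_)
        have h3 : (p : ℤ) ^ (m + 2) ∣ t := (IsCoprime.pow_left
          ((Nat.prime_iff_prime_int.1 hP).coprime_iff_not_dvd.2 hpk)).dvd_of_dvd_mul_right h2
        rw [hbt]
        conv_rhs => rw [← zpow_one u]
        exact hcongr (by rwa [add_sub_cancel_left])
      obtain ⟨k', rfl⟩ := hpk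
      refine ⟨u ^ (-k' * (1 - s)) * b₀, M.mul_mem (hUM (zpow_mem (mem_zpowers u) _)) hb₀M,
        fun h => hb₀U ((U.mul_mem_cancel_left (zpow_mem (mem_zpowers u) _)).1 h), ?_⟩
      rw [hpowform b₀ _ t ht hbt, ← hk, ← zpow_add, dvd_iff hu]
      obtain ⟨w, hw⟩ := hs2
      refine ⟨k' * w, ?_⟩
      linear_combination (-k' * (1 - s)) * hs + (p : ℤ) * k' * hw
    obtain ⟨tb, htb, hbt⟩ := hMexp b hbM
    have hzp : z ^ p = 1 := by
      rw [hz, ← zpow_natCast, ← zpow_mul, dvd_iff hu]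
      exact ⟨1, by ring⟩
    have hzord : orderOf z = p := orderOf_eq_prime hzp fun h => by
      have := Int.natCast_dvd_natCast.1 (show ((p ^ (m + 2) : ℕ) : ℤ) ∣ ((p ^ (m + 1) : ℕ) : ℤ) by
        push_cast; exact hdvd _ (by rw [← hz]; exact h))
      exact absurd ((Nat.pow_dvd_pow_iff_le_right hP.one_lt).1 this) (by omega)
    have hZn : (zpowers z).Normal := ⟨fun x hx g => by
      obtain ⟨i, rfl⟩ := mem_zpowers_iff.1 hx
      obtain ⟨r, hr⟩ := hexp g
      refine ⟨r * i, ?_⟩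
      show z ^ (r * i) = g * z ^ i * g⁻¹
      rw [← conj_zpow, hz, ← conj_zpow, hr, ← zpow_mul, ← zpow_mul, ← zpow_mul]
      ring_nf⟩
    have hbz : Commute b z := by
      refine mul_inv_eq_iff_eq_mul.1 ?_
      rw [hz, ← conj_zpow, hbt, ← zpow_mul]
      refine hcongr ?_
      obtain ⟨t', ht'⟩ := htb
      exact ⟨t' * (p : ℤ) ^ m, by rw [ht']; ring⟩
    set A := zpowers z ⊔ zpowers b with hA
    have hAcard : Nat.card A = p ^ 2 := by
      rw [hA, card_sup_zpowers (hA := hZn) (fun h => hbU (zpowers_le.2 (zpow_mem (mem_zpowers u) _) h))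
        (by rw [hbp]; exact one_mem _), Nat.card_zpowers, hzord, sq]
    have hAel : ∀ x ∈ A, ∃ i k : ℤ, x = z ^ i * b ^ k := by
      intro x hx
      obtain ⟨y, hy, w, hw, rfl⟩ := mem_sup_of_normal_left (s := zpowers z) (hs := hZn).1 hx
      obtain ⟨i, rfl⟩ := mem_zpowers_iff.1 hy
      obtain ⟨k, rfl⟩ := mem_zpowers_iff.1 hw
      exact ⟨i, k, rfl⟩
    have hApow : ∀ x ∈ A, x ^ p = 1 := by
      intro x hx
      obtain ⟨i, k, rfl⟩ := hAel x hx
      rw [((hbz.symm.zpow_left i).zpow_right k).mul_pow, ← zpow_natCast, ← zpow_mul, mul_comm i,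
        zpow_mul, zpow_natCast, hzp, one_zpow, one_mul, ← zpow_natCast, ← zpow_mul, mul_comm k,
        zpow_mul, zpow_natCast, hbp, one_zpow]
    have hAM : A ≤ M := sup_le (zpowers_le.2 (hUM (zpow_mem (mem_zpowers u) _))) (zpowers_le.2 hbM)
    have hAall : ∀ x ∈ M, x ^ p = 1 → x ∈ A := by
      intro x hx hxp
      have htop : U ⊔ zpowers b = M := by
        refine eq_of_le_of_card_ge (sup_le hUM (zpowers_le.2 hbM)) ?_
        rw [card_sup_zpowers (hA := hun) hbU (by rw [hbp]; exact one_mem _), ← hMU,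
          ← Nat.card_congr (subgroupOfEquivOfLe hUM).toEquiv, mul_comm, relIndex, card_mul_index]
      obtain ⟨y, hy, w, hw, rfl⟩ := mem_sup_of_normal_left (s := U) (hs := hun).1 (htop ▸ hx)
      obtain ⟨j, rfl⟩ := mem_zpowers_iff.1 hy
      obtain ⟨i, rfl⟩ := mem_zpowers_iff.1 hw
      obtain ⟨t, ht, hit⟩ := hMexp (b ^ i) (zpow_mem hbM i)
      obtain ⟨s, hs, hsp, -⟩ := ht3 t ht
      rw [hpowform _ j t ht hit, ← zpow_natCast (b ^ i), ← zpow_mul, mul_comm i, zpow_mul,
        zpow_natCast, hbp, one_zpow, mul_one, dvd_iff hu, pow_succ'] at hxp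
      rw [show j * (p : ℤ) + (p.choose 2 : ℤ) * t * j = (p : ℤ) * (j * (1 + s)) by
        linear_combination j * hs] at hxp
      have h1 := Int.dvd_of_mul_dvd_mul_left (by exact_mod_cast hP.ne_zero) hxp
      obtain ⟨s', rfl⟩ := hsp
      obtain ⟨j', rfl⟩ := (IsCoprime.pow_left (y := 1 + (p : ℤ) * s') ⟨-s', 1, by ring⟩ :
        IsCoprime ((p : ℤ) ^ (m + 1)) (1 + (p : ℤ) * s')).dvd_of_dvd_mul_right h1
      rw [zpow_mul, ← hz]
      exact A.mul_mem (mem_sup_left (zpow_mem (mem_zpowers z) j'))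
        (mem_sup_right (zpow_mem (mem_zpowers b) i))
    have hΩ : Cfsg.omegaOne p M = A := by
      refine le_antisymm ((closure_le _).2 fun x hx => hAall x hx.1 hx.2) fun x hx => ?_
      exact subset_closure ⟨hAM hx, hApow x hx⟩
    rw [hΩ]
    have hAcomm : IsMulCommutative A := IsPGroup.isMulCommutative_of_card_eq_prime_sq (p := p) hAcard
    refine ⟨⟨hAcomm, hApow⟩, hAcard, ?_⟩
    have hAn : A.Normal := ⟨fun x hx g => hAall _ (hMn.conj_mem x (hAM hx) g) (by
      rw [conj_pow, hApow x hx, mul_one, mul_inv_cancel])⟩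
    have huniq : ∀ B : Subgroup G, B.Normal → (∀ x ∈ B, x ^ p = 1) → Nat.card B = p ^ 2 → B = A := by
      intro B hBn hBp hB
      refine eq_of_le_of_card_ge (fun x hx => hAall x ?_ (hBp x hx)) (by rw [hB, hAcard])
      rw [hMdef, mem_centralizer_zpowers, ← conj_pow]
      obtain ⟨r, hr⟩ := hexp x
      have hw : (x * u * x⁻¹ * u⁻¹) ^ p = 1 := hBp _ (by
        rw [mul_assoc, mul_assoc]
        exact B.mul_mem hx (by simpa [mul_assoc] using hBn.conj_mem _ (B.inv_mem hx) u))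
      rw [hr] at hw ⊢
      rw [((Commute.refl u).zpow_left r).inv_right.mul_pow, inv_pow, mul_inv_eq_one] at hw
      exact hw
    rw [characteristic_iff_map_eq]
    intro φ
    refine huniq _ (hAn.map _ φ.surjective) ?_ ?_
    · rintro _ ⟨x, hx, rfl⟩
      rw [← map_pow, hApow x hx, map_one]
    · rw [card_map_of_injective φ.injective, hAcard]

end CfsgLib.PGroup.SelfCent
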