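import Cfsg.Agent.Lib.PGroup.Kulakoff
import Cfsg.Agent.Lib.Invol.NormalFour

/-!
# Kulakoff's theorem: 2-groups and the induction
-/

set_option autoImplicit false
set_option linter.style.haveILetI false

namespace CfsgLib.Kulakoff

open Finset CfsgLib.PGroup
open scoped commutatorElement

universe u

variable {G : Type u} [Group G] [Finite G] {p : ℕ}

theorem isCyclic_of_frattini_index [Fact p.Prime] (hi : (frattini G).index = 1 ∨ (frattini G).index = p) :
    IsCyclic G := by
  have hp : p.Prime := Fact.out
  rcases hi with h | h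
  · have h1 : (⊥ : Subgroup G) = ⊤ := frattini_nongenerating (by rw [bot_sup_eq]; exact Subgroup.index_eq_one.1 h)
    haveI : Subsingleton G := ⟨fun a b => by
      have ha : a ∈ (⊥ : Subgroup G) := h1 ▸ Subgroup.mem_top a
      have hb : b ∈ (⊥ : Subgroup G) := h1 ▸ Subgroup.mem_top b
      rw [Subgroup.mem_bot.1 ha, Subgroup.mem_bot.1 hb]⟩
    infer_instance
  · obtain ⟨x, hx⟩ : ∃ x, x ∉ frattini G := by
      by_contra hcon
      push Not at hcon
      have e : frattini G = ⊤ := eq_top_iff.2 fun x _ => hcon x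
      rw [e, Subgroup.index_top] at h
      exact hp.ne_one h.symm
    have htop : Subgroup.zpowers x ⊔ frattini G = ⊤ := by
      rw [← Subgroup.index_eq_one]
      rcases (Nat.dvd_prime hp).1 (h ▸ Subgroup.index_dvd_of_le (le_sup_right : frattini G ≤ Subgroup.zpowers x ⊔ frattini G)) with h1 | h1
      · exact h1
      · exfalso
        apply hx
        have h2 := Subgroup.relIndex_mul_index (le_sup_right : frattini G ≤ Subgroup.zpowers x ⊔ frattini G)
        rw [h, h1] at h2
        have h3 : (frattini G).relIndex (Subgroup.zpowers x ⊔ frattini G) = 1 := by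
          simpa [Nat.mul_eq_right hp.ne_zero] using h2
        exact (Subgroup.relIndex_eq_one.1 h3)
          (Subgroup.mem_sup_left (Subgroup.mem_zpowers x))
    exact ⟨⟨x, fun y => Subgroup.mem_zpowers_iff.1 (by rw [frattini_nongenerating htop]; exact Subgroup.mem_top y)⟩⟩

theorem sq_dvd_frattini_index [Fact p.Prime] (hGp : IsPGroup p G) (hnc : ¬ IsCyclic G) :
    ∃ e, (frattini G).index = p ^ (e + 2) := by
  obtain ⟨e, he⟩ := hGp.index (frattini G)
  rcases e with _ | _ | e
  · exact absurd (isCyclic_of_frattini_index (p := p) (Or.inl (by simpa using he))) hnc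
  · exact absurd (isCyclic_of_frattini_index (Or.inr (by simpa using he))) hnc
  · exact ⟨e, he⟩

theorem sq_le_index_commutator [Fact p.Prime] (hGp : IsPGroup p G) (hnc : ¬ IsCyclic G) :
    p ^ 2 ≤ (commutator G).index := by
  obtain ⟨e, he⟩ := sq_dvd_frattini_index hGp hnc
  refine Nat.le_of_dvd (Nat.pos_of_ne_zero Subgroup.index_ne_zero_of_finite) (dvd_trans ?_ (Subgroup.index_dvd_of_le (commutator_le_frattini hGp)))
  rw [he]
  exact pow_dvd_pow p (by omega)

/-- The numbers of maximal subgroups and of subgroups of index `p ^ 2` above the Frattini subgroup. -/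
theorem frattini_quotient_counts [Fact p.Prime] (hGp : IsPGroup p G) (hnc : ¬ IsCyclic G) :
    Nat.card {M : Subgroup G // M.index = p} ≡ 1 + p [MOD p ^ 2] ∧
      Nat.card {N : Subgroup G // frattini G ≤ N ∧ N.index = p ^ 2} ≡ 1 [MOD p] := by
  have hp : p.Prime := Fact.out
  obtain ⟨e, he⟩ := sq_dvd_frattini_index hGp hnc
  rw [Subgroup.index_eq_card] at he
  have h2 : Nat.card {N : Subgroup G // frattini G ≤ N ∧ N.index = p ^ 2} ≡ 1 [MOD p] := by
    rw [card_above, card_index_eq hp he (by omega)]
    exact numSub_modEq_one hp he (by omega)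
  refine ⟨?_, h2⟩
  have h1 := frattini_counts (p := p) hGp (⊥ : Subgroup G) (fun h => hnc (by
    haveI : Subsingleton G := ⟨fun a b => by
      have ha : a ∈ (⊥ : Subgroup G) := h.symm ▸ Subgroup.mem_top a
      have hb : b ∈ (⊥ : Subgroup G) := h.symm ▸ Subgroup.mem_top b
      rw [Subgroup.mem_bot.1 ha, Subgroup.mem_bot.1 hb]⟩
    infer_instance))
  simp only [bot_le, true_and] at h1
  have h4 := Int.natCast_modEq_iff.2 (Nat.ModEq.mul_left' p h2)
  push_cast at h4
  rw [← pow_two] at h4
  have h5 := h1.add h4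
  apply Int.natCast_modEq_iff.1
  push_cast
  simpa using h5

/-- Subgroups of a 2-group of maximal class. -/
theorem numSub_maximal_class {n k : ℕ} (hX : Nat.card G = 2 ^ n) (hidx : (commutator G).index = 4)
    (hk1 : 1 ≤ k) (hk : k + 2 ≤ n) : numSub G (2 ^ k) % 4 = 1 := by
  classical
  haveI : Fact (Nat.Prime 2) := ⟨Nat.prime_two⟩
  cases nonempty_fintype G
  cases nonempty_fintype (Subgroup G)
  obtain ⟨a, t, hao, hta, -, htt, htat, -, hZ, haZ⟩ := CfsgLib.PGroup.MaxClass.structure_two n (by omega) hX hidx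
  set C := Subgroup.zpowers a
  have hCc : Nat.card C = 2 ^ (n - 1) := by rw [Nat.card_zpowers, hao]
  have hCi : C.index = 2 := by
    have h := C.card_mul_index
    rw [hCc, hX, show n = n - 1 + 1 by omega, pow_succ, Nat.add_sub_cancel] at h
    exact Nat.eq_of_mul_eq_mul_left (by positivity) h
  haveI hCn : C.Normal := Subgroup.normal_of_index_eq_two hCi
  set ζ := t * a * t⁻¹ * a
  set z := a ^ 2 ^ (n - 2)
  have hzne : z ≠ 1 := by
    intro h
    have h1 := orderOf_dvd_of_pow_eq_one h
    rw [hao, Nat.pow_dvd_pow_iff_le_right (by norm_num : 1 < 2)] at h1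
    omega
  have hz2 : z ^ 2 = 1 := by
    rw [← pow_mul, ← pow_succ, show n - 2 + 1 = n - 1 by omega, ← hao, pow_orderOf_eq_one]
  have hZmem : ∀ x ∈ Subgroup.center G, x ∈ Subgroup.zpowers z := by
    intro x hx
    have he : Subgroup.zpowers z = Subgroup.center G := Subgroup.eq_of_le_of_card_ge (Subgroup.zpowers_le.2 haZ)
      (by rw [hZ, Nat.card_zpowers, orderOf_eq_prime hz2 hzne])
    rwa [he]
  have hζ2 : ζ ^ 2 = 1 := by
    have h1 := pow_card_eq_one' (x := (⟨ζ, htat⟩ : Subgroup.center G))
    rw [hZ] at h1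
    exact congrArg Subtype.val h1
  have hout : ∀ s, s ∉ C → ∃ i : ℤ, s = a ^ i * t := by
    intro s hs
    have h1 : s * t⁻¹ ∈ C := by
      rw [Subgroup.mul_mem_iff_of_index_two hCi]
      simp [hs, hta]
    obtain ⟨i, hi⟩ := Subgroup.mem_zpowers_iff.1 h1
    exact ⟨i, by rw [hi, inv_mul_cancel_right]⟩
  have hconjt : ∀ i : ℤ, t * a ^ i * t⁻¹ = ζ ^ i * a ^ (-i) := by
    intro i
    have hc : Commute ζ a⁻¹ := ((Subgroup.mem_center_iff.1 htat a⁻¹).symm : ζ * a⁻¹ = a⁻¹ * ζ)
    rw [← conj_zpow, show t * a * t⁻¹ = ζ * a⁻¹ from (mul_inv_cancel_right _ a).symm, hc.mul_zpow, inv_zpow, zpow_neg]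
  have hsq : ∀ i : ℤ, (a ^ i * t) * (a ^ i * t) = ζ ^ i * (t * t) := by
    intro i
    have hc : Commute (a ^ i) (ζ ^ i) := (Commute.zpow_zpow ((Subgroup.mem_center_iff.1 htat a) : Commute a ζ) i i)
    calc (a ^ i * t) * (a ^ i * t) = a ^ i * (t * a ^ i * t⁻¹) * (t * t) := by group
      _ = ζ ^ i * (t * t) := by
        rw [hconjt, ← mul_assoc (a ^ i), hc.eq, mul_assoc (ζ ^ i), ← zpow_add, add_neg_cancel, zpow_zero, mul_one]
  have hsqz : ∀ s, s ∉ C → s * s ∈ Subgroup.zpowers z := by
    intro s hs
    obtain ⟨i, rfl⟩ := hout s hs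
    rw [hsq]
    exact hZmem _ (mul_mem (Subgroup.zpow_mem _ htat i) htt)
  set j := 2 ^ (n - k)
  set Ck := Subgroup.zpowers (a ^ j)
  have hCkc : Nat.card Ck = 2 ^ (k - 1) := by
    rw [Nat.card_zpowers, orderOf_pow_of_dvd (by positivity) (by rw [hao]; exact pow_dvd_pow 2 (by omega)), hao,
      Nat.pow_div (by omega) (by norm_num)]
    congr 1
    omega
  have hCkC : Ck ≤ C := Subgroup.zpowers_le.2 (Subgroup.pow_mem _ (Subgroup.mem_zpowers a) _)
  have hCksol : ∀ y ∈ C, y ^ 2 ^ (k - 1) = 1 → y ∈ Ck := by
    intro y hy hy1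
    obtain ⟨i, rfl⟩ := Subgroup.mem_zpowers_iff.1 hy
    rw [← zpow_natCast, ← zpow_mul, ← orderOf_dvd_iff_zpow_eq_one, hao] at hy1
    have e : ((2 ^ (n - 1) : ℕ) : ℤ) = ((j : ℕ) : ℤ) * ((2 ^ (k - 1) : ℕ) : ℤ) := by
      rw [← Nat.cast_mul, ← pow_add]
      congr 2
      omega
    rw [e] at hy1
    obtain ⟨c, rfl⟩ := (mul_dvd_mul_iff_right (by positivity)).1 hy1
    rw [zpow_mul, zpow_natCast]
    exact Subgroup.zpow_mem _ (Subgroup.mem_zpowers _) c
  haveI hCkn : Ck.Normal := by
    refine ⟨fun x hx g => hCksol _ (hCn.conj_mem x (hCkC hx) g) ?_⟩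
    rw [conj_pow, show x ^ 2 ^ (k - 1) = 1 from hCkc ▸ congrArg Subtype.val (pow_card_eq_one' (x := (⟨x, hx⟩ : Ck))),
      mul_one, mul_inv_cancel]
  -- the set of elements outside `C` squaring into `Ck`
  set T := univ.filter (fun s : G => s ∉ C ∧ s * s ∈ Ck) with hT
  have hfib := Finset.card_eq_sum_card_fiberwise (s := T) (f := fun s => Ck ⊔ Subgroup.zpowers s)
    (t := univ.filter fun H : Subgroup G => Nat.card H = 2 ^ k ∧ ¬ H ≤ C) (fun s hs => by
      simp only [hT, Finset.mem_coe, Finset.mem_filter, Finset.mem_univ, true_and] at hs ⊢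
      refine ⟨?_, fun h => hs.1 (h (Subgroup.mem_sup_right (Subgroup.mem_zpowers s)))⟩
      rw [card_sup_zpowers (p := 2) (fun h => hs.1 (hCkC h)) (by rw [sq]; exact hs.2), hCkc, ← pow_succ']
      congr 1
      omega)
  have hfibc : ∀ H : Subgroup G, Nat.card H = 2 ^ k → ¬ H ≤ C →
      (T.filter fun s => Ck ⊔ Subgroup.zpowers s = H).card = 2 ^ (k - 1) := by
    intro H hH hHC
    have hrel : C.relIndex H = 2 := by
      have h1 : C.relIndex H ∣ C.index := Subgroup.relIndex_dvd_index_of_normal C H
      rw [hCi] at h1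
      rcases (Nat.dvd_prime Nat.prime_two).1 h1 with h | h
      · exact absurd (Subgroup.relIndex_eq_one.1 h) hHC
      · exact h
    have h2 := Subgroup.relIndex_mul_relIndex ⊥ (C ⊓ H) H bot_le inf_le_right
    rw [Subgroup.relIndex_bot_left, Subgroup.relIndex_bot_left, Subgroup.inf_relIndex_right, hrel, hH,
      show k = k - 1 + 1 by omega, pow_succ] at h2
    have h3 : Nat.card ↥(C ⊓ H) = 2 ^ (k - 1) := Nat.eq_of_mul_eq_mul_right (by norm_num) h2
    have hCH : C ⊓ H = Ck := Subgroup.eq_of_le_of_card_ge (fun y hy => hCksol y hy.1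
      (h3 ▸ congrArg Subtype.val (pow_card_eq_one' (x := (⟨y, hy⟩ : ↥(C ⊓ H)))))) (by rw [h3, hCkc])
    have e : T.filter (fun s => Ck ⊔ Subgroup.zpowers s = H) =
        (univ.filter fun s : G => s ∈ H) \ (univ.filter fun s : G => s ∈ Ck) := by
      ext s
      simp only [hT, Finset.mem_filter, Finset.mem_univ, true_and, Finset.mem_sdiff]
      constructor
      · rintro ⟨⟨h1, -⟩, rfl⟩
        exact ⟨Subgroup.mem_sup_right (Subgroup.mem_zpowers s), fun h => h1 (hCkC h)⟩
      · rintro ⟨h1, h4⟩
        have hsC : s ∉ C := fun h => h4 (hCH ▸ Subgroup.mem_inf.2 ⟨h, h1⟩)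
        have hs2 : s * s ∈ Ck := hCH ▸ Subgroup.mem_inf.2 ⟨by rw [← sq, ← hCi]; exact C.pow_index_mem s, mul_mem h1 h1⟩
        refine ⟨⟨hsC, hs2⟩, Subgroup.eq_of_le_of_card_ge (sup_le (hCH ▸ inf_le_right) (Subgroup.zpowers_le.2 h1)) ?_⟩
        rw [card_sup_zpowers (p := 2) h4 (by rw [sq]; exact hs2), hH, hCkc, ← pow_succ']
        exact le_of_eq (by congr 1; omega)
    rw [e, Finset.card_sdiff_of_subset (fun s hs => by
      simp only [Finset.mem_filter, Finset.mem_univ, true_and] at hs ⊢
      exact (hCH ▸ inf_le_right : Ck ≤ H) hs)]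
    rw [← Fintype.card_subtype, ← Fintype.card_subtype, ← Nat.card_eq_fintype_card, ← Nat.card_eq_fintype_card]
    show Nat.card H - Nat.card Ck = _
    rw [hH, hCkc, show k = k - 1 + 1 by omega, pow_succ, Nat.add_sub_cancel]
    omega
  rw [Finset.sum_congr rfl (g := fun _ => 2 ^ (k - 1)) (fun H hH =>
    hfibc H (Finset.mem_filter.1 hH).2.1 (Finset.mem_filter.1 hH).2.2), Finset.sum_const, smul_eq_mul] at hfib
  have hfour : 2 ^ (k - 1) * 4 ∣ T.card := by
    rcases Nat.lt_or_ge k 2 with h | h
    · have hk0 : k = 1 := by omega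
      subst hk0
      rw [show 2 ^ (1 - 1) * 4 = 4 by norm_num]
      have hTmem : ∀ s, s ∈ T ↔ s ∉ C ∧ s * s = 1 := by
        intro s
        have hbot : Ck = ⊥ := Subgroup.card_eq_one.1 (by rw [hCkc]; rfl)
        simp [hT, hbot]
      -- a subgroup `U` of `C` of order divisible by four, fixing squares
      obtain ⟨U, hUC, hU4, hUsq⟩ : ∃ U : Subgroup G, U ≤ C ∧ 4 ∣ Nat.card U ∧
          ∀ u ∈ U, ∀ s, s ∉ C → (u * s) * (u * s) = s * s := by
        rcases Nat.lt_or_ge n 4 with hn | hn
        · have hn3 : n = 3 := by omega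
          have hζ1 : ζ = 1 := by
            have hne : t * a * t⁻¹ ≠ a := by
              intro h
              have hac : a ∈ Subgroup.center G := by
                rw [Subgroup.mem_center_iff]
                intro g
                by_cases hg : g ∈ C
                · obtain ⟨i, rfl⟩ := Subgroup.mem_zpowers_iff.1 hg
                  exact ((Commute.refl a).zpow_left i).eq
                · obtain ⟨i, rfl⟩ := hout g hg
                  exact (((Commute.refl a).zpow_left i).mul_left (mul_inv_eq_iff_eq_mul.1 h : Commute t a)).eq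
              have h1 := Subgroup.orderOf_dvd_natCard _ hac
              rw [hao, hZ, hn3] at h1
              norm_num at h1
            obtain ⟨i, hi⟩ := Subgroup.mem_zpowers_iff.1 (hZmem ζ htat)
            rw [← zpow_mod_orderOf, orderOf_eq_prime hz2 hzne] at hi
            rcases Int.emod_two_eq_zero_or_one i with h | h
            · rw [show ((2 : ℕ) : ℤ) = 2 by rfl, h, zpow_zero] at hi; exact hi.symm
            · rw [show ((2 : ℕ) : ℤ) = 2 by rfl, h, zpow_one] at hi
              exfalso
              apply hne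
              rw [show t * a * t⁻¹ = ζ * a⁻¹ from (mul_inv_cancel_right _ a).symm, ← hi, show z = a ^ 2 by simp [z, hn3]]
              group
          refine ⟨C, le_rfl, by rw [hCc, hn3]; norm_num, fun u hu s hs => ?_⟩
          obtain ⟨l, rfl⟩ := Subgroup.mem_zpowers_iff.1 hu
          obtain ⟨i, rfl⟩ := hout s hs
          rw [← mul_assoc _ (a ^ i) t, ← zpow_add, hsq, hsq, hζ1, one_zpow, one_zpow]
        · refine ⟨Subgroup.zpowers (a ^ 2), Subgroup.zpowers_le.2 (Subgroup.pow_mem _ (Subgroup.mem_zpowers a) _), ?_, fun u hu s hs => ?_⟩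
          · rw [Nat.card_zpowers, orderOf_pow_of_dvd (by norm_num) (by rw [hao]; exact dvd_pow_self 2 (by omega)), hao,
              show n - 1 = n - 4 + 2 + 1 by omega, pow_succ, Nat.mul_div_cancel _ (by norm_num), pow_add]
            exact dvd_mul_left _ _
          · obtain ⟨l, rfl⟩ := Subgroup.mem_zpowers_iff.1 hu
            obtain ⟨i, rfl⟩ := hout s hs
            rw [← zpow_natCast, ← zpow_mul, ← mul_assoc _ (a ^ i) t, ← zpow_add, hsq, hsq, zpow_add, zpow_mul ζ,
              zpow_natCast, hζ2, one_zpow, one_mul]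
      have hmem : ∀ u ∈ U, ∀ s, s ∈ T → u * s ∈ T := by
        intro u hu s hs
        rw [hTmem] at hs ⊢
        refine ⟨fun h => hs.1 ?_, by rw [hUsq u hu s hs.1, hs.2]⟩
        have := mul_mem (inv_mem (hUC hu)) h
        rwa [inv_mul_cancel_left] at this
      letI act : MulAction U T :=
        { smul := fun u s => ⟨(u : G) * s, hmem u u.2 s s.2⟩
          one_smul := fun s => Subtype.ext (one_mul (s : G))
          mul_smul := fun u v s => Subtype.ext (mul_assoc (u : G) v s) }
      have hfree : ∀ s : T, MulAction.stabilizer U s = ⊥ := fun s => by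
        rw [eq_bot_iff]
        intro u hu
        have h1 : (u : G) * s = s := congrArg Subtype.val hu
        exact Subtype.ext (mul_eq_right.mp h1)
      have h2 := Nat.card_congr (MulAction.selfEquivSigmaOrbitsQuotientStabilizer U T)
      rw [Nat.card_sigma, Nat.card_eq_fintype_card, Fintype.card_coe] at h2
      rw [h2]
      refine hU4.trans (Finset.dvd_sum fun o _ => dvd_of_eq ?_)
      rw [hfree]
      exact (Subgroup.index_bot (G := U)).symm
    · have e : T = univ.filter fun s : G => s ∉ C := by
        rw [hT]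
        refine Finset.filter_congr fun s _ => and_iff_left_of_imp fun hs => ?_
        have hzCk : z ∈ Ck := hCksol z (Subgroup.pow_mem _ (Subgroup.mem_zpowers a) _) (by
          rw [show k - 1 = k - 2 + 1 by omega, pow_succ', pow_mul, hz2, one_pow])
        exact Subgroup.zpowers_le.2 hzCk (hsqz s hs)
      rw [e, Finset.filter_not, Finset.card_sdiff_of_subset (Finset.subset_univ _), Finset.card_univ,
        ← Nat.card_eq_fintype_card, hX, ← Fintype.card_subtype, ← Nat.card_eq_fintype_card]
      show _ ∣ 2 ^ n - Nat.card C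
      rw [hCc, show n = n - 1 + 1 by omega, pow_succ, Nat.add_sub_cancel,
        show 2 ^ (n - 1) * 2 - 2 ^ (n - 1) = 2 ^ (n - 1) by omega, show (4 : ℕ) = 2 ^ 2 by norm_num, ← pow_add]
      exact pow_dvd_pow 2 (by omega)
  rw [hfib, mul_comm _ (2 ^ (k - 1))] at hfour
  have h4 := Nat.dvd_of_mul_dvd_mul_left (by positivity) hfour
  have hin : (univ.filter fun H : Subgroup G => Nat.card H = 2 ^ k ∧ H ≤ C).card = 1 := by
    rw [Finset.card_eq_one]
    refine ⟨Subgroup.zpowers (a ^ 2 ^ (n - 1 - k)), ?_⟩
    have hc : Nat.card ↥(Subgroup.zpowers (a ^ 2 ^ (n - 1 - k))) = 2 ^ k := by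
      rw [Nat.card_zpowers, orderOf_pow_of_dvd (by positivity) (by rw [hao]; exact pow_dvd_pow 2 (by omega)), hao,
        Nat.pow_div (by omega) (by norm_num)]
      congr 1
      omega
    ext H
    simp only [Finset.mem_filter, Finset.mem_univ, true_and, Finset.mem_singleton]
    constructor
    · rintro ⟨hH, hHC⟩
      refine Subgroup.eq_of_le_of_card_ge (fun y hy => ?_) (by rw [hc, hH])
      obtain ⟨i, rfl⟩ := Subgroup.mem_zpowers_iff.1 (hHC hy)
      have h1 : (a ^ i) ^ 2 ^ k = 1 := hH ▸ congrArg Subtype.val (pow_card_eq_one' (x := (⟨_, hy⟩ : H)))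
      rw [← zpow_natCast, ← zpow_mul, ← orderOf_dvd_iff_zpow_eq_one, hao] at h1
      have e : ((2 ^ (n - 1) : ℕ) : ℤ) = ((2 ^ (n - 1 - k) : ℕ) : ℤ) * ((2 ^ k : ℕ) : ℤ) := by
        rw [← Nat.cast_mul, ← pow_add]
        congr 2
        omega
      rw [e] at h1
      obtain ⟨c, rfl⟩ := (mul_dvd_mul_iff_right (by positivity)).1 h1
      rw [zpow_mul, zpow_natCast]
      exact Subgroup.zpow_mem _ (Subgroup.mem_zpowers _) c
    · rintro rfl
      exact ⟨hc, Subgroup.zpowers_le.2 (Subgroup.pow_mem _ (Subgroup.mem_zpowers a) _)⟩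
  rw [numSub, Nat.card_eq_fintype_card, Fintype.card_subtype,
    ← Finset.card_filter_add_card_filter_not (s := univ.filter fun H : Subgroup G => Nat.card H = 2 ^ k) (fun H => H ≤ C),
    Finset.filter_filter, Finset.filter_filter, hin]
  omega

/-- An abelian 2-group with at most two solutions of `x ^ 2 = 1` is cyclic. -/
theorem isCyclic_of_comm_two {A : Type u} [CommGroup A] [Finite A] (hA : IsPGroup 2 A)
    (h : Nat.card {x : A // x ^ 2 = 1} ≤ 2) : IsCyclic A := by
  classical
  haveI : Fact (Nat.Prime 2) := ⟨Nat.prime_two⟩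
  cases nonempty_fintype A
  have hj : ∀ j, (univ.filter fun x : A => x ^ 2 ^ j = 1).card ≤ 2 ^ j := by
    intro j
    induction j with
    | zero =>
      rw [pow_zero]
      refine Finset.card_le_one.2 fun x hx y hy => ?_
      simp only [Finset.mem_filter, Finset.mem_univ, true_and, pow_one] at hx hy
      rw [hx, hy]
    | succ j ih =>
      refine (Finset.card_le_mul_card_image (f := fun x : A => x ^ 2) (univ.filter fun x : A => x ^ 2 ^ (j + 1) = 1) 2
        fun y hy => ?_).trans ?_
      · obtain ⟨x0, hx0, rfl⟩ := Finset.mem_image.1 hy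
        refine le_trans ?_ h
        rw [Nat.card_eq_fintype_card, Fintype.card_subtype]
        refine Finset.card_le_card_of_injOn (fun x => x * x0⁻¹) (fun x hx => ?_) (fun x _ y _ e => mul_right_cancel e)
        simp only [Finset.mem_coe, Finset.mem_filter, Finset.mem_univ, true_and] at hx ⊢
        rw [mul_pow, hx.2, inv_pow, mul_inv_cancel]
      · rw [pow_succ']
        refine Nat.mul_le_mul_left _ (le_trans (Finset.card_le_card fun y hy => ?_) ih)
        obtain ⟨x, hx, rfl⟩ := Finset.mem_image.1 hy
        simp only [Finset.mem_filter, Finset.mem_univ, true_and] at hx ⊢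
        rw [← pow_mul, hx]
  refine isCyclic_of_card_pow_eq_one_le fun n hn => ?_
  obtain ⟨e, he⟩ := IsPGroup.iff_card.1 hA
  obtain ⟨j, -, hj'⟩ := (Nat.dvd_prime_pow Nat.prime_two).1 (Nat.gcd_dvd_right n (2 ^ e))
  refine le_trans ?_ ((hj j).trans (hj' ▸ Nat.le_of_dvd hn (Nat.gcd_dvd_left n (2 ^ e))))
  refine Finset.card_le_card fun x hx => ?_
  simp only [Finset.mem_filter, Finset.mem_univ, true_and] at hx ⊢
  rw [← hj']
  exact pow_gcd_eq_one.2 ⟨hx, he ▸ pow_card_eq_one'⟩

/-- A noncyclic 2-group with no cyclic subgroup of index two has a normal four-group. -/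
theorem exists_normal_four (hG : IsPGroup 2 G) (hnc : ¬ IsCyclic G)
    (hno : ∀ C : Subgroup G, C.index = 2 → ¬ IsCyclic C) :
    ∃ e z : G, e ≠ 1 ∧ z ≠ 1 ∧ e ≠ z ∧ e * e = 1 ∧ z * z = 1 ∧ z ∈ Subgroup.center G ∧
      ∀ g : G, g * e * g⁻¹ = e ∨ g * e * g⁻¹ = e * z := by
  haveI : Fact (Nat.Prime 2) := ⟨Nat.prime_two⟩
  -- a normal subgroup of exponent two and order at least four
  obtain ⟨K, hKn, hK4, hKsq⟩ : ∃ K : Subgroup G, K.Normal ∧ 4 ≤ Nat.card K ∧ ∀ x ∈ K, x ^ 2 = 1 := by
    obtain ⟨A, hAn, hAc, hAC⟩ := CfsgLib.Invol.exists_selfCentralizing_normal_abelian hG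
    haveI := hAn
    by_cases hA : IsCyclic A
    · obtain ⟨⟨a, haA⟩, ha⟩ := hA.exists_generator
      have hAa : A = Subgroup.zpowers a := le_antisymm (fun x hx => by
        obtain ⟨i, hi⟩ := Subgroup.mem_zpowers_iff.1 (ha ⟨x, hx⟩)
        exact ⟨i, congrArg Subtype.val hi⟩) (Subgroup.zpowers_le.2 haA)
      obtain ⟨s, hs⟩ := IsPGroup.iff_orderOf.1 hG a
      have hs2 : 2 ≤ s := by
        by_contra hlt
        apply hnc
        have hle : ∀ g : G, g ∈ A := fun g => hAC (by
          rw [Subgroup.mem_centralizer_iff]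
          intro x hx
          rw [hAa] at hx
          obtain ⟨i, rfl⟩ := Subgroup.mem_zpowers_iff.1 hx
          have hconj : g * a * g⁻¹ = a := by
            obtain ⟨l, hl⟩ := Subgroup.mem_zpowers_iff.1 (hAa ▸ hAn.conj_mem a haA g)
            have ha2 : a ^ (2 : ℕ) = 1 := orderOf_dvd_iff_pow_eq_one.1 (by rw [hs]; exact (pow_dvd_pow 2 (by omega : s ≤ 1)).trans (pow_one 2).dvd)
            have e : a ^ l = 1 ∨ a ^ l = a := by
              rw [← zpow_mod_orderOf]
              rcases Nat.le_one_iff_eq_zero_or_eq_one.1 (by omega : s ≤ 1) with h | h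
              · left; rw [hs, h]; simp
              · rw [hs, h]
                rcases Int.emod_two_eq_zero_or_one l with h' | h'
                · left; simp [h']
                · right; simp [h']
            rcases e with e | e
            · rw [← hl, e]
              have h3 : g * a * g⁻¹ = 1 := hl.symm.trans e
              exact (conj_eq_one_iff.1 h3).symm
            · rw [← hl, e]
          exact (Commute.zpow_right (mul_inv_eq_iff_eq_mul.1 hconj : Commute g a) i).symm.eq)
        refine ⟨⟨a, fun g => Subgroup.mem_zpowers_iff.1 (hAa ▸ hle g)⟩⟩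
      set u := a ^ (2 ^ (s - 2) : ℕ) with hu
      have huo : orderOf u = 4 := by
        rw [orderOf_pow_of_dvd (by positivity) (by rw [hs]; exact pow_dvd_pow 2 (by omega)), hs, Nat.pow_div (by omega) (by norm_num),
          show s - (s - 2) = 2 by omega]
      set G1 := Subgroup.centralizer ({u} : Set G)
      have hG1i : G1.index ∣ 2 := by
        have hsub : {y : G | IsConj u y} ⊆ {u, u⁻¹} := by
          intro y hy
          obtain ⟨g, hg⟩ := isConj_iff.1 hy
          have h1 : g * u * g⁻¹ ∈ Subgroup.zpowers u := by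
            obtain ⟨l, hl⟩ := Subgroup.mem_zpowers_iff.1 (hAa ▸ hAn.conj_mem a haA g)
            refine ⟨l, ?_⟩
            show u ^ l = _
            rw [hu, ← conj_pow, ← hl, ← zpow_natCast, ← zpow_natCast, ← zpow_mul, ← zpow_mul, mul_comm]
          obtain ⟨l, hl⟩ := Subgroup.mem_zpowers_iff.1 h1
          have hyo : orderOf y = 4 := by
            rw [← hg, ← huo]; exact orderOf_injective (MulAut.conj g).toMonoidHom (MulAut.conj g).injective u
          rw [← hg, ← hl] at *
          have hu4 : u ^ (4 : ℤ) = 1 := by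
            rw [show (4 : ℤ) = ((4 : ℕ) : ℤ) by rfl, zpow_natCast, ← huo, pow_orderOf_eq_one]
          have e1 : u ^ l = u ^ (l % 4) := by rw [← zpow_mod_orderOf u, huo]; rfl
          have h4 : l % 4 = 1 ∨ l % 4 = 3 := by
            by_contra h
            have h5 : l % 4 = 0 ∨ l % 4 = 2 := by omega
            have h6 : orderOf (u ^ l) ∣ 2 := by
              apply orderOf_dvd_of_pow_eq_one
              rw [e1, ← zpow_natCast, ← zpow_mul]
              rcases h5 with h5 | h5 <;> rw [h5]
              · simp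
              · exact hu4
            rw [hyo] at h6
            norm_num at h6
          rw [e1]
          rcases h4 with h4 | h4 <;> rw [h4]
          · simp
          · right
            refine eq_inv_of_mul_eq_one_left ?_
            nth_rewrite 2 [← zpow_one u]
            rw [← zpow_add]
            exact hu4
        have h1 := Set.ncard_le_ncard hsub (Set.toFinite _)
        rw [CfsgLib.ClassSize.ncard_setOf_isConj] at h1
        have h2 : ({u, u⁻¹} : Set G).ncard ≤ 2 := (Set.ncard_insert_le _ _).trans (by rw [Set.ncard_singleton])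
        have hpos : G1.index ≠ 0 := Subgroup.index_ne_zero_of_finite
        have h12 : G1.index ≤ 2 := h1.trans h2
        rcases (by omega : G1.index = 1 ∨ G1.index = 2) with h | h <;> simp [h]
      haveI hG1n : G1.Normal := by
        rcases (Nat.dvd_prime Nat.prime_two).1 hG1i with h | h
        · rw [Subgroup.index_eq_one.1 h]; infer_instance
        · exact Subgroup.normal_of_index_eq_two h
      have hAG1 : A ≤ G1 := fun x hx => Subgroup.mem_centralizer_singleton_iff.2 (by
        rw [hAa] at hx
        obtain ⟨i, rfl⟩ := Subgroup.mem_zpowers_iff.1 hx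
        exact (((Commute.refl a).zpow_left i).pow_right _).eq)
      have hlt : A < G1 := by
        refine lt_of_le_of_ne hAG1 fun e => ?_
        rcases (Nat.dvd_prime Nat.prime_two).1 hG1i with h | h
        · rw [← e, Subgroup.index_eq_one] at h
          haveI := hA
          apply hnc
          subst h
          exact Subgroup.topEquiv.isCyclic.1 hA
        · rw [← e] at h
          exact hno A h hA
      obtain ⟨b, hbG1, hbA, hb2, hbc⟩ := exists_step hG A G1 hlt
      obtain ⟨r, hr⟩ := Subgroup.mem_zpowers_iff.1 (hAa ▸ hAn.conj_mem a haA b)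
      have hr4 : (4 : ℤ) ∣ r - 1 := by
        have h1 : b * u * b⁻¹ = u := by
          rw [Subgroup.mem_centralizer_singleton_iff.1 hbG1, mul_inv_cancel_right]
        rw [hu, ← conj_pow, ← hr, ← zpow_natCast, ← zpow_mul, ← zpow_natCast a, zpow_eq_zpow_iff_modEq, hs,
          Int.modEq_iff_dvd] at h1
        have e : ((2 ^ s : ℕ) : ℤ) = 4 * ((2 ^ (s - 2) : ℕ) : ℤ) := by
          push_cast
          rw [show (4 : ℤ) = 2 ^ 2 by norm_num, ← pow_add]
          congr 1; omega
        rw [e, show ((2 ^ (s - 2) : ℕ) : ℤ) - r * ((2 ^ (s - 2) : ℕ) : ℤ) = (1 - r) * ((2 ^ (s - 2) : ℕ) : ℤ) by ring] at h1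
        exact dvd_sub_comm.1 ((mul_dvd_mul_iff_right (by positivity)).1 h1)
      set B := A ⊔ Subgroup.zpowers b
      haveI hBn : B.Normal := sup_zpowers_normal hbc
      have haB : a ∈ B := Subgroup.mem_sup_left haA
      have hbB : b ∈ B := Subgroup.mem_sup_right (Subgroup.mem_zpowers b)
      have hBi : (A.subgroupOf B).index = 2 := by
        have h1 := (A.subgroupOf B).card_mul_index
        rw [Nat.card_congr (Subgroup.subgroupOfEquivOfLe (le_sup_left : A ≤ B)).toEquiv,
          card_sup_zpowers hbA hb2, mul_comm 2] at h1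
        exact Nat.eq_of_mul_eq_mul_left Nat.card_pos h1
      have hBnc : ¬ IsCyclic B := by
        intro hcy
        refine hbA (hAC (Subgroup.mem_centralizer_iff.2 fun x hx => ?_))
        haveI := hcy
        letI := hcy.commGroup
        exact congrArg Subtype.val (mul_comm (⟨x, Subgroup.mem_sup_left hx⟩ : B) ⟨b, hbB⟩)
      obtain ⟨K, hKc, hKm, -⟩ := omega_two (G := B) (A.subgroupOf B) ⟨a, haB⟩ (by
          ext x
          rw [Subgroup.mem_subgroupOf, hAa, Subgroup.mem_zpowers_iff, Subgroup.mem_zpowers_iff]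
          constructor
          · rintro ⟨i, hi⟩; exact ⟨i, Subtype.ext hi⟩
          · rintro ⟨i, hi⟩; exact ⟨i, congrArg Subtype.val hi⟩) hBi hBnc
        (s := s) (by rw [← hs]; exact (Subgroup.orderOf_coe (⟨a, haB⟩ : B)).symm) ⟨b, hbB⟩
        (fun h => hbA h) r (Subtype.ext hr.symm) hr4
      refine ⟨K.map B.subtype, ⟨?_⟩, by rw [Subgroup.card_map_of_injective B.subtype_injective, hKc]; norm_num, ?_⟩
      · rintro _ ⟨x, hx, rfl⟩ g
        refine ⟨⟨g * (x : G) * g⁻¹, hBn.conj_mem _ x.2 g⟩, (hKm _).2 (Subtype.ext ?_), rfl⟩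
        show (g * (x : G) * g⁻¹) ^ 2 = 1
        rw [conj_pow, ← Subgroup.coe_pow, (hKm x).1 hx, Subgroup.coe_one, mul_one, mul_inv_cancel]
      · rintro _ ⟨x, hx, rfl⟩
        exact congrArg Subtype.val ((hKm x).1 hx)
    · letI : CommGroup A := { (inferInstance : Group A) with mul_comm := hAc.is_comm.comm }
      set K0 : Subgroup G :=
        { carrier := {x | x ∈ A ∧ x ^ 2 = 1}
          one_mem' := ⟨A.one_mem, one_pow 2⟩
          inv_mem' := fun {x} hx => ⟨A.inv_mem hx.1, by rw [inv_pow, hx.2, inv_one]⟩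
          mul_mem' := fun {x y} hx hy => ⟨A.mul_mem hx.1 hy.1, by
            have hc : Commute x y := congrArg Subtype.val (mul_comm (⟨x, hx.1⟩ : A) ⟨y, hy.1⟩)
            rw [hc.mul_pow, hx.2, hy.2, one_mul]⟩ } with hK0
      have hK0p : IsPGroup 2 K0 := hG.to_subgroup _
      obtain ⟨e, he⟩ := IsPGroup.iff_card.1 hK0p
      refine ⟨K0, ⟨fun x hx g => ⟨hAn.conj_mem x hx.1 g, by rw [conj_pow, hx.2, mul_one, mul_inv_cancel]⟩⟩, ?_, fun x hx => hx.2⟩
      by_contra hlt
      apply hA
      refine isCyclic_of_comm_two (hG.to_subgroup A) ?_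
      have e2 : {x : A // x ^ 2 = 1} ≃ K0 :=
        { toFun := fun x => ⟨x.1, x.1.2, congrArg Subtype.val x.2⟩
          invFun := fun x => ⟨⟨x, x.2.1⟩, Subtype.ext x.2.2⟩
          left_inv := fun x => rfl
          right_inv := fun x => rfl }
      rw [Nat.card_congr e2, he]
      rw [he] at hlt
      rcases e with _ | _ | e
      · norm_num
      · norm_num
      · exfalso
        apply hlt
        rw [pow_succ, pow_succ]
        have := Nat.two_pow_pos e
        omega
  haveI := hKn
  have hbot : (⊥ : Subgroup G) < K := bot_lt_iff_ne_bot.2 fun h => by rw [h, Subgroup.card_bot] at hK4; omega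
  obtain ⟨z, hzK, hz1, -, hzc⟩ := exists_step hG ⊥ K hbot
  rw [Subgroup.mem_bot] at hz1
  have hzZ : z ∈ Subgroup.center G := Subgroup.mem_center_iff.2 fun g => by
    have := hzc g
    rw [Subgroup.mem_bot, commutatorElement_eq_one_iff_mul_comm] at this
    exact this.symm
  haveI : (Subgroup.zpowers z).Normal := ⟨fun x hx g => by
    rw [Subgroup.mem_center_iff.1 (Subgroup.zpowers_le.2 hzZ hx) g, mul_inv_cancel_right]; exact hx⟩
  have hlt : Subgroup.zpowers z < K := by
    refine lt_of_le_of_ne (Subgroup.zpowers_le.2 hzK) fun h => ?_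
    rw [← h, Nat.card_zpowers, orderOf_eq_prime (hKsq z hzK) hz1] at hK4
    omega
  obtain ⟨e, heK, hez, -, hec⟩ := exists_step hG (Subgroup.zpowers z) K hlt
  refine ⟨e, z, fun h => hez (h ▸ one_mem _), hz1, fun h => hez (h ▸ Subgroup.mem_zpowers z),
    by rw [← sq]; exact hKsq e heK, by rw [← sq]; exact hKsq z hzK, hzZ, fun g => ?_⟩
  obtain ⟨i, hi⟩ := Subgroup.mem_zpowers_iff.1 (hec g)
  rw [← zpow_mod_orderOf, orderOf_eq_prime (hKsq z hzK) hz1] at hi
  have e1 : g * e * g⁻¹ = ⁅e, g⁆⁻¹ * e := by rw [commutatorElement_def]; group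
  rcases Int.emod_two_eq_zero_or_one i with h | h <;> rw [show ((2 : ℕ) : ℤ) = 2 by rfl, h] at hi
  · left
    rw [zpow_zero] at hi
    rw [e1, ← hi, inv_one, one_mul]
  · right
    rw [zpow_one] at hi
    rw [e1, ← hi, inv_eq_of_mul_eq_one_right (show z * z = 1 by rw [← sq]; exact hKsq z hzK),
      Subgroup.mem_center_iff.1 hzZ e]

/-- The number of solutions of `x ^ 2 = 1` is divisible by four. -/
theorem four_dvd_solutions (hG : IsPGroup 2 G) (hnc : ¬ IsCyclic G)
    (hno : ∀ C : Subgroup G, C.index = 2 → ¬ IsCyclic C) (hcm : ¬ (commutator G).index = 4) :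
    4 ∣ Nat.card {x : G // x ^ 2 = 1} := by
  classical
  haveI : Fact (Nat.Prime 2) := ⟨Nat.prime_two⟩
  cases nonempty_fintype G
  obtain ⟨e, z, he1, hz1, hez, hee, hzz, hzZ, hconj⟩ := exists_normal_four hG hnc hno
  have hzc : ∀ g : G, Commute g z := Subgroup.mem_center_iff.1 hzZ
  set C := Subgroup.centralizer ({e} : Set G) with hC
  have hCi : C.index ≤ 2 := by
    rw [hC, ← CfsgLib.ClassSize.ncard_setOf_isConj]
    refine le_trans (Set.ncard_le_ncard (t := {e, e * z}) ?_ (Set.toFinite _))
      ((Set.ncard_insert_le _ _).trans (by rw [Set.ncard_singleton]))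
    intro y hy
    obtain ⟨g, rfl⟩ := isConj_iff.1 hy
    rcases hconj g with h | h <;> rw [h] <;> simp
  rw [Nat.card_eq_fintype_card, Fintype.card_subtype,
    ← Finset.card_filter_add_card_filter_not (s := univ.filter fun x : G => x ^ 2 = 1) (fun x => x ∈ C),
    Finset.filter_filter, Finset.filter_filter]
  refine dvd_add ?_ ?_
  · set E : Subgroup G := Subgroup.closure {e, z}
    set T := univ.filter fun x : G => x ^ 2 = 1 ∧ x ∈ C
    have hEmem : ∀ u ∈ E, u ^ 2 = 1 ∧ u ∈ C ∧ ∀ x ∈ C, Commute u x := by
      intro u hu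
      induction hu using Subgroup.closure_induction with
      | mem u hu =>
        rcases hu with rfl | rfl
        · exact ⟨by rw [sq, hee], Subgroup.mem_centralizer_singleton_iff.2 rfl,
            fun x hx => (Subgroup.mem_centralizer_singleton_iff.1 hx).symm⟩
        · exact ⟨by rw [sq, hzz], Subgroup.mem_centralizer_singleton_iff.2 (hzc e).symm.eq, fun x _ => (hzc x).symm⟩
      | one => exact ⟨one_pow 2, one_mem _, fun x _ => Commute.one_left x⟩
      | mul u v _ _ hu hv =>
        exact ⟨by rw [(hu.2.2 v hv.2.1).mul_pow, hu.1, hv.1, one_mul], mul_mem hu.2.1 hv.2.1,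
          fun x hx => (hu.2.2 x hx).mul_left (hv.2.2 x hx)⟩
      | inv u _ hu => exact ⟨by rw [inv_pow, hu.1, inv_one], inv_mem hu.2.1, fun x hx => (hu.2.2 x hx).inv_left⟩
    have hE4 : 4 ∣ Nat.card E := by
      obtain ⟨j, hj⟩ := IsPGroup.iff_card.1 (hG.to_subgroup E)
      have h3 : 3 ≤ Nat.card E := by
        rw [Nat.card_eq_fintype_card, Fintype.card_subtype]
        have hsub : ({1, e, z} : Finset G) ⊆ univ.filter fun x => x ∈ E := by
          intro x hx
          simp only [Finset.mem_insert, Finset.mem_singleton] at hx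
          simp only [Finset.mem_filter, Finset.mem_univ, true_and]
          rcases hx with rfl | rfl | rfl
          · exact one_mem _
          · exact Subgroup.subset_closure (by simp)
          · exact Subgroup.subset_closure (by simp)
        have := Finset.card_le_card hsub
        rwa [Finset.card_eq_three.2 ⟨1, e, z, Ne.symm he1, Ne.symm hz1, hez, rfl⟩] at this
      rw [hj] at h3 ⊢
      rcases j with _ | _ | j
      · omega
      · omega
      · exact pow_dvd_pow 2 (show 2 ≤ j + 1 + 1 by omega)
    have hmem : ∀ u ∈ E, ∀ x ∈ T, u * x ∈ T := by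
      intro u hu x hx
      simp only [T, Finset.mem_filter, Finset.mem_univ, true_and] at hx ⊢
      exact ⟨by rw [((hEmem u hu).2.2 x hx.2).mul_pow, (hEmem u hu).1, hx.1, one_mul], mul_mem (hEmem u hu).2.1 hx.2⟩
    letI act : MulAction E T :=
      { smul := fun u s => ⟨(u : G) * s, hmem u u.2 s s.2⟩
        one_smul := fun s => Subtype.ext (one_mul (s : G))
        mul_smul := fun u v s => Subtype.ext (mul_assoc (u : G) v s) }
    have hfree : ∀ s : T, MulAction.stabilizer E s = ⊥ := fun s => by
      rw [eq_bot_iff]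
      intro u hu
      have h1 : (u : G) * s = s := congrArg Subtype.val hu
      exact Subtype.ext (mul_eq_right.mp h1)
    have h2 := Nat.card_congr (MulAction.selfEquivSigmaOrbitsQuotientStabilizer E T)
    rw [Nat.card_sigma, Nat.card_eq_fintype_card, Fintype.card_coe] at h2
    rw [h2]
    refine hE4.trans (Finset.dvd_sum fun o _ => dvd_of_eq ?_)
    rw [hfree]
    exact (Subgroup.index_bot (G := E)).symm
  · -- outside the centraliser of the four-group
    by_cases hCtop : C = ⊤
    · simp [hCtop]
    have hCi2 : C.index = 2 := by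
      have h0 : C.index ≠ 0 := Subgroup.index_ne_zero_of_finite
      have h1 : C.index ≠ 1 := fun h => hCtop (Subgroup.index_eq_one.1 h)
      omega
    haveI hCn : C.Normal := Subgroup.normal_of_index_eq_two hCi2
    set T := univ.filter fun x : G => x ^ 2 = 1 ∧ ¬ x ∈ C with hTdef
    set X2 := T.filter fun x => (Subgroup.centralizer ({x} : Set G)).index = 2 with hX2
    have hidxconj : ∀ x y : G, IsConj x y →
        (Subgroup.centralizer ({x} : Set G)).index = (Subgroup.centralizer ({y} : Set G)).index := by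
      intro x y hxy
      rw [← CfsgLib.ClassSize.ncard_setOf_isConj, ← CfsgLib.ClassSize.ncard_setOf_isConj]
      congr 1
      ext w
      exact ⟨fun h => hxy.symm.trans h, fun h => hxy.trans h⟩
    have hrest : 4 ∣ (T.filter fun x => ¬ (Subgroup.centralizer ({x} : Set G)).index = 2).card := by
      cases nonempty_fintype (ConjClasses G)
      rw [Finset.card_eq_sum_card_fiberwise (f := fun x : G => ConjClasses.mk x) (t := univ)
        (fun x _ => Finset.mem_univ _)]
      refine Finset.dvd_sum fun c _ => ?_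
      obtain ⟨x0, rfl⟩ := ConjClasses.exists_rep c
      rcases Finset.eq_empty_or_nonempty (((T.filter fun x => ¬ (Subgroup.centralizer ({x} : Set G)).index = 2)).filter
        (fun x => ConjClasses.mk x = ConjClasses.mk x0)) with h | ⟨x1, hx1⟩
      · rw [h]; simp
      simp only [hTdef, Finset.mem_filter, Finset.mem_univ, true_and] at hx1
      obtain ⟨⟨⟨h1, h2⟩, h3⟩, h4⟩ := hx1
      have eset : ((T.filter fun x => ¬ (Subgroup.centralizer ({x} : Set G)).index = 2)).filter
          (fun x => ConjClasses.mk x = ConjClasses.mk x0) = univ.filter fun x => IsConj x1 x := by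
        ext x
        simp only [hTdef, Finset.mem_filter, Finset.mem_univ, true_and]
        constructor
        · rintro ⟨-, h⟩
          exact ConjClasses.mk_eq_mk_iff_isConj.1 (h4.trans h.symm)
        · intro hx
          refine ⟨⟨⟨?_, ?_⟩, by rwa [← hidxconj x1 x hx]⟩, (ConjClasses.mk_eq_mk_iff_isConj.2 hx).symm.trans h4⟩
          · obtain ⟨g, rfl⟩ := isConj_iff.1 hx
            rw [conj_pow, h1, mul_one, mul_inv_cancel]
          · intro hxC
            obtain ⟨g, rfl⟩ := isConj_iff.1 hx.symm
            exact h2 (hCn.conj_mem x hxC g)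
      rw [eset, ← Set.ncard_coe_finset, show ((univ.filter fun x => IsConj x1 x : Finset G) : Set G) = {y | IsConj x1 y} by
        ext; simp, CfsgLib.ClassSize.ncard_setOf_isConj]
      obtain ⟨j, hj⟩ := hG.index (Subgroup.centralizer ({x1} : Set G))
      rw [hj] at h3 ⊢
      rcases j with _ | _ | j
      · exfalso
        apply h2
        rw [pow_zero, Subgroup.index_eq_one] at hj
        rw [hC, Subgroup.mem_centralizer_singleton_iff]
        have := Subgroup.mem_centralizer_singleton_iff.1 (hj ▸ Subgroup.mem_top e)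
        exact this.symm
      · exact absurd (by norm_num) h3
      · exact pow_dvd_pow 2 (show 2 ≤ j + 1 + 1 by omega)
    have hX : 4 ∣ X2.card := by
      rcases Finset.eq_empty_or_nonempty X2 with h | ⟨x0, hx0⟩
      · simp [h]
      simp only [hX2, hTdef, Finset.mem_filter, Finset.mem_univ, true_and] at hx0
      obtain ⟨⟨hx0sq, hx0C⟩, hx0i⟩ := hx0
      rw [sq] at hx0sq
      have hxe : x0 * e * x0⁻¹ = e * z := by
        rcases hconj x0 with h | h
        · exact absurd (Subgroup.mem_centralizer_singleton_iff.2 (mul_inv_eq_iff_eq_mul.1 h)) hx0C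
        · exact h
      have hxe' : x0 * e = e * z * x0 := mul_inv_eq_iff_eq_mul.1 hxe
      set Cx := Subgroup.centralizer ({x0} : Set G)
      have hex : e ∉ Cx := fun h => hx0C (Subgroup.mem_centralizer_singleton_iff.2
        (Subgroup.mem_centralizer_singleton_iff.1 h).symm)
      have heC : e ∈ C := Subgroup.mem_centralizer_singleton_iff.2 rfl
      set W := Cx ⊓ C
      have hWx : ∀ w ∈ W, Commute w x0 := fun w hw => Subgroup.mem_centralizer_singleton_iff.1 hw.1
      have hWe : ∀ w ∈ W, Commute w e := fun w hw => Subgroup.mem_centralizer_singleton_iff.1 hw.2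
      have hzW : z ∈ W := ⟨Subgroup.mem_centralizer_singleton_iff.2 (hzc x0).symm.eq,
        Subgroup.mem_centralizer_singleton_iff.2 (hzc e).symm.eq⟩
      have hCsplit : ∀ c ∈ C, c ∈ W ∨ e * c ∈ W := by
        intro c hc
        by_cases h : c ∈ Cx
        · exact Or.inl ⟨h, hc⟩
        · exact Or.inr ⟨(Subgroup.mul_mem_iff_of_index_two hx0i).2 (iff_of_false hex h), mul_mem heC hc⟩
      -- the elements `w` which give involutions with two conjugates
      let V : Subgroup G :=
        { carrier := {w | w ∈ W ∧ (w * w = 1 ∨ w * w = z) ∧ ∀ u ∈ W, u * w * u⁻¹ = w ∨ u * w * u⁻¹ = w * z}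
          one_mem' := ⟨one_mem _, Or.inl (mul_one 1), fun u _ => Or.inl (by group)⟩
          mul_mem' := by
            rintro v w ⟨hv, hv2, hvu⟩ ⟨hw, hw2, hwu⟩
            refine ⟨mul_mem hv hw, ?_, fun u hu => ?_⟩
            · have hmid : w * v = v * w ∨ w * v = v * w * z := by
                rcases hvu w hw with h | h
                · exact Or.inl (mul_inv_eq_iff_eq_mul.1 h)
                · exact Or.inr (by rw [mul_inv_eq_iff_eq_mul.1 h, mul_assoc, (hzc w).symm.eq, mul_assoc])
              rcases hmid with h | h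
              · have e1 : v * w * (v * w) = (v * v) * (w * w) := by
                  rw [mul_assoc v w, ← mul_assoc w v, h]; simp [mul_assoc]
                rw [e1]
                rcases hv2 with a1 | a1 <;> rcases hw2 with a2 | a2 <;> rw [a1, a2] <;> simp [hzz]
              · have e1 : v * w * (v * w) = (v * v) * (w * w) * z := by
                  rw [mul_assoc v w, ← mul_assoc w v, h, mul_assoc (v * w) z, (hzc w).symm.eq]; simp [mul_assoc]
                rw [e1]
                rcases hv2 with a1 | a1 <;> rcases hw2 with a2 | a2 <;> rw [a1, a2] <;> simp [hzz]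
            · have e1 : u * (v * w) * u⁻¹ = (u * v * u⁻¹) * (u * w * u⁻¹) := by group
              rw [e1]
              rcases hvu u hu with a1 | a1 <;> rcases hwu u hu with a2 | a2 <;> rw [a1, a2]
              · exact Or.inl rfl
              · exact Or.inr (mul_assoc v w z).symm
              · exact Or.inr (by rw [mul_assoc v, (hzc w).symm.eq, mul_assoc])
              · exact Or.inl (by rw [mul_assoc v, ← mul_assoc z, (hzc w).symm.eq, mul_assoc w, hzz, mul_one])
          inv_mem' := by
            rintro w ⟨hw, hw2, hwu⟩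
            have hzi : z⁻¹ = z := inv_eq_of_mul_eq_one_right hzz
            refine ⟨inv_mem hw, ?_, fun u hu => ?_⟩
            · rcases hw2 with h | h
              · left; rw [← mul_inv_rev, h, inv_one]
              · right; rw [← mul_inv_rev, h, hzi]
            · rcases hwu u hu with h | h
              · left; rw [show u * w⁻¹ * u⁻¹ = (u * w * u⁻¹)⁻¹ by group, h]
              · right; rw [show u * w⁻¹ * u⁻¹ = (u * w * u⁻¹)⁻¹ by group, h, mul_inv_rev, hzi, (hzc w⁻¹).symm.eq] }
      have hV : ∀ w, w ∈ V ↔ w ∈ W ∧ (w * w = 1 ∨ w * w = z) ∧ ∀ u ∈ W, u * w * u⁻¹ = w ∨ u * w * u⁻¹ = w * z :=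
        fun w => Iff.rfl
      have hW2 : ¬ W = Subgroup.zpowers z := by
        intro hW
        -- then the group is dihedral of order eight
        have hWc : Nat.card W = 2 := by rw [hW, Nat.card_zpowers, orderOf_eq_prime (by rw [sq, hzz]) hz1]
        have hCx : C.relIndex Cx ∣ 2 := hCi2 ▸ Subgroup.relIndex_dvd_index_of_normal C Cx
        have h2 := Subgroup.relIndex_mul_relIndex ⊥ W Cx bot_le inf_le_left
        rw [Subgroup.relIndex_bot_left, Subgroup.relIndex_bot_left, hWc, Subgroup.inf_relIndex_left] at h2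
        have hCxc : Nat.card Cx ∣ 4 := by
          rw [← h2]; exact Nat.mul_dvd_mul_left 2 hCx
        have hG8 : Nat.card G ∣ 8 := by
          rw [← Cx.card_mul_index, hx0i]; exact Nat.mul_dvd_mul_right hCxc 2
        apply hcm
        have hnab : commutator G ≠ ⊥ := by
          intro h
          apply hex
          rw [Subgroup.mem_centralizer_singleton_iff, ← commutatorElement_eq_one_iff_mul_comm, ← Subgroup.mem_bot, ← h,
            commutator_def]
          exact Subgroup.commutator_mem_commutator (Subgroup.mem_top _) (Subgroup.mem_top _)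
        have h4 := sq_le_index_commutator hG hnc
        have h5 := (commutator G).card_mul_index
        have h6 := (Subgroup.one_lt_card_iff_ne_bot _).2 hnab
        have h7 := Nat.le_of_dvd (by norm_num) hG8
        rw [← h5] at h7
        have h8 : 2 * (commutator G).index ≤ Nat.card (commutator G) * (commutator G).index :=
          Nat.mul_le_mul_right _ h6
        omega
      have hV4 : 4 ∣ Nat.card V := by
        obtain ⟨j, hj⟩ := IsPGroup.iff_card.1 (hG.to_subgroup V)
        haveI : ((Subgroup.zpowers z).subgroupOf W).Normal := ⟨fun x hx g => by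
          rw [Subgroup.mem_subgroupOf] at hx ⊢
          obtain ⟨i, hi⟩ := Subgroup.mem_zpowers_iff.1 hx
          rw [Subgroup.coe_mul, Subgroup.coe_mul, Subgroup.coe_inv, ← hi,
            ((hzc (g : G)).zpow_right i).eq, mul_inv_cancel_right]
          exact Subgroup.zpow_mem _ (Subgroup.mem_zpowers z) i⟩
        obtain ⟨w, -, hwz, hw2, hwc⟩ := exists_step (hG.to_subgroup W) ((Subgroup.zpowers z).subgroupOf W) ⊤
          (lt_top_iff_ne_top.2 fun h => hW2 (le_antisymm (Subgroup.subgroupOf_eq_top.1 h) (Subgroup.zpowers_le.2 hzW)))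
        rw [Subgroup.mem_subgroupOf] at hwz
        have hzp : ∀ y, y ∈ Subgroup.zpowers z → y = 1 ∨ y = z := by
          intro y hy
          obtain ⟨i, rfl⟩ := Subgroup.mem_zpowers_iff.1 hy
          rw [← zpow_mod_orderOf, orderOf_eq_prime (by rw [sq, hzz]) hz1]
          rcases Int.emod_two_eq_zero_or_one i with h | h <;> rw [show ((2 : ℕ) : ℤ) = 2 by rfl, h]
          · exact Or.inl (zpow_zero z)
          · exact Or.inr (zpow_one z)
        have hwV : (w : G) ∈ V := by
          rw [hV]
          refine ⟨w.2, ?_, fun u hu => ?_⟩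
          · rw [← sq]; exact hzp _ hw2
          · have h3 := hzp _ (hwc ⟨u, hu⟩)
            have e1 : u * (w : G) * u⁻¹ = ⁅(w : G), u⁆⁻¹ * w := by rw [commutatorElement_def]; group
            rcases h3 with h3 | h3
            · left; rw [e1, show ⁅(w : G), u⁆ = 1 from h3, inv_one, one_mul]
            · right
              rw [e1, show ⁅(w : G), u⁆ = z from h3, inv_eq_of_mul_eq_one_right hzz, (hzc (w : G)).symm.eq]
        have hzV : z ∈ V := (hV z).2 ⟨hzW, Or.inl hzz, fun u _ => Or.inl (by rw [(hzc u).eq, mul_inv_cancel_right])⟩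
        have h3 : 3 ≤ Nat.card V := by
          rw [Nat.card_eq_fintype_card, Fintype.card_subtype]
          have hsub : ({1, z, (w : G)} : Finset G) ⊆ univ.filter fun x => x ∈ V := by
            intro x hx
            simp only [Finset.mem_insert, Finset.mem_singleton] at hx
            simp only [Finset.mem_filter, Finset.mem_univ, true_and]
            rcases hx with rfl | rfl | rfl <;> first | exact one_mem _ | exact hzV | exact hwV
          have := Finset.card_le_card hsub
          rwa [Finset.card_eq_three.2 ⟨1, z, (w : G), Ne.symm hz1,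
            (fun h => hwz (h ▸ one_mem _)), (fun h => hwz (h ▸ Subgroup.mem_zpowers z)), rfl⟩] at this
        rw [hj] at h3 ⊢
        rcases j with _ | _ | j
        · omega
        · omega
        · exact pow_dvd_pow 2 (show 2 ≤ j + 1 + 1 by omega)
      have hf : (univ.filter fun w : G => w ∈ V).card = X2.card := by
        refine Finset.card_bij (fun w _ => if w * w = 1 then x0 * w else x0 * e * w) ?_ ?_ ?_
        · intro w hw
          simp only [Finset.mem_filter, Finset.mem_univ, true_and, hV] at hw
          obtain ⟨hwW, hw2, hwu⟩ := hw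
          have hxw := hWx w hwW
          have hew := hWe w hwW
          have gen : ∀ x', (∀ u ∈ W, u * x' * u⁻¹ = x' ∨ u * x' * u⁻¹ = x' * z) →
              (e * x' * e⁻¹ = x' * z) → (x0 * x' * x0⁻¹ = x' ∨ x0 * x' * x0⁻¹ = x' * z) →
              (Subgroup.centralizer ({x'} : Set G)).index = 2 := by
            intro x' h1 h2 h3
            have hall : ∀ g : G, g * x' * g⁻¹ = x' ∨ g * x' * g⁻¹ = x' * z := by
              have hS : ∀ g₁ g₂ : G, (g₁ * x' * g₁⁻¹ = x' ∨ g₁ * x' * g₁⁻¹ = x' * z) →
                  (g₂ * x' * g₂⁻¹ = x' ∨ g₂ * x' * g₂⁻¹ = x' * z) →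
                  (g₁ * g₂ * x' * (g₁ * g₂)⁻¹ = x' ∨ g₁ * g₂ * x' * (g₁ * g₂)⁻¹ = x' * z) := by
                intro g₁ g₂ a1 a2
                have e1 : g₁ * g₂ * x' * (g₁ * g₂)⁻¹ = g₁ * (g₂ * x' * g₂⁻¹) * g₁⁻¹ := by group
                rw [e1]
                rcases a2 with a2 | a2 <;> rw [a2]
                · exact a1
                · have e2 : g₁ * (x' * z) * g₁⁻¹ = g₁ * x' * g₁⁻¹ * z := by
                    rw [mul_assoc g₁ (x' * z), mul_assoc x' z, (hzc g₁⁻¹).symm.eq]; simp [mul_assoc]
                  rw [e2]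
                  rcases a1 with a1 | a1 <;> rw [a1]
                  · exact Or.inr rfl
                  · left; rw [mul_assoc, hzz, mul_one]
              have hC' : ∀ c ∈ C, c * x' * c⁻¹ = x' ∨ c * x' * c⁻¹ = x' * z := by
                intro c hc
                rcases hCsplit c hc with h | h
                · exact h1 c h
                · have := hS e (e * c) (Or.inr h2) (h1 _ h)
                  rwa [← mul_assoc, hee, one_mul] at this
              intro g
              by_cases hg : g ∈ C
              · exact hC' g hg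
              · have hgx : g * x0 ∈ C := by
                  rw [Subgroup.mul_mem_iff_of_index_two hCi2]; simp [hg, hx0C]
                have := hS (g * x0) x0 (hC' _ hgx) h3
                rwa [mul_assoc g x0 x0, hx0sq, mul_one] at this
            have hset : {y : G | IsConj x' y} = {x', x' * z} := by
              ext y
              simp only [Set.mem_ofPred_eq, Set.mem_insert_iff, Set.mem_singleton_iff, isConj_iff]
              constructor
              · rintro ⟨g, rfl⟩; exact hall g
              · rintro (rfl | rfl)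
                · exact ⟨1, by group⟩
                · exact ⟨e, h2⟩
            rw [← CfsgLib.ClassSize.ncard_setOf_isConj, hset, Set.ncard_pair (fun h => hz1 (left_eq_mul.1 h))]
          have hwx : x0 * w * x0⁻¹ = w := by rw [hxw.symm.eq, mul_inv_cancel_right]
          have hwe : e * w * e⁻¹ = w := by rw [hew.symm.eq, mul_inv_cancel_right]
          have hei : e⁻¹ = e := inv_eq_of_mul_eq_one_right hee
          have hx0i' : x0⁻¹ = x0 := inv_eq_of_mul_eq_one_right hx0sq
          have hexe : e * x0 * e⁻¹ = x0 * z := by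
            rw [hei]
            calc e * x0 * e = e * (x0 * e) := mul_assoc _ _ _
              _ = (e * e) * z * x0 := by rw [hxe']; simp [mul_assoc]
              _ = x0 * z := by rw [hee, one_mul, (hzc x0).eq]
          have hux : ∀ u ∈ W, u * x0 * u⁻¹ = x0 := fun u hu => by rw [(hWx u hu).eq, mul_inv_cancel_right]
          have hue : ∀ u ∈ W, u * e * u⁻¹ = e := fun u hu => by rw [(hWe u hu).eq, mul_inv_cancel_right]
          have cm : ∀ g a b : G, g * (a * b) * g⁻¹ = (g * a * g⁻¹) * (g * b * g⁻¹) := fun g a b => by group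
          have pz : ∀ a b : G, a * (b * z) = a * b * z := fun a b => (mul_assoc a b z).symm
          by_cases h : w * w = 1
          · simp only [h, if_true, hX2, hTdef, Finset.mem_filter, Finset.mem_univ, true_and]
            refine ⟨⟨?_, fun hmem => hx0C ?_⟩, gen _ (fun u hu => ?_) ?_ (Or.inl ?_)⟩
            · rw [sq, mul_assoc, ← mul_assoc w, hxw.eq, mul_assoc x0, ← mul_assoc, hx0sq, one_mul, h]
            · have := mul_mem hmem (inv_mem hwW.2); rwa [mul_inv_cancel_right] at this
            · rw [cm, hux u hu]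
              rcases hwu u hu with a1 | a1 <;> rw [a1]
              · exact Or.inl rfl
              · exact Or.inr (pz _ _)
            · rw [cm, hexe, hwe, mul_assoc, (hzc w).symm.eq, mul_assoc]
            · rw [cm, hwx, show x0 * x0 * x0⁻¹ = x0 by group]
          · have hwz : w * w = z := hw2.resolve_left h
            simp only [h, if_false, hX2, hTdef, Finset.mem_filter, Finset.mem_univ, true_and]
            refine ⟨⟨?_, fun hmem => hx0C ?_⟩, gen _ (fun u hu => ?_) ?_ (Or.inr ?_)⟩
            · have h5 : x0 * e * (x0 * e) = z := by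
                calc x0 * e * (x0 * e) = e * z * (x0 * x0) * e := by rw [hxe']; simp [mul_assoc]; rw [hxe']; simp [mul_assoc]
                  _ = z := by rw [hx0sq, mul_one, (hzc e).eq, mul_assoc, hee, mul_one]
              have h6 : Commute w (x0 * e) := hxw.mul_right hew
              rw [sq, mul_assoc, ← mul_assoc w, h6.eq, mul_assoc (x0 * e) w, ← mul_assoc, h5, hwz, hzz]
            · have := mul_mem hmem (inv_mem (mul_mem heC hwW.2))
              rwa [show x0 * e * w * (e * w)⁻¹ = x0 by group] at this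
            · rw [cm, cm, hux u hu, hue u hu]
              rcases hwu u hu with a1 | a1 <;> rw [a1]
              · exact Or.inl rfl
              · exact Or.inr (pz _ _)
            · rw [cm, cm, hexe, show e * e * e⁻¹ = e by group, hwe, mul_assoc x0 z, (hzc e).symm.eq, ← mul_assoc x0,
                mul_assoc (x0 * e) z, (hzc w).symm.eq, mul_assoc]
              simp [mul_assoc]
            · rw [cm, cm, hwx, show x0 * x0 * x0⁻¹ = x0 by group, hxe, ← mul_assoc x0, mul_assoc (x0 * e) z,
                (hzc w).symm.eq, mul_assoc]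
              simp [mul_assoc]
        · intro w1 h1 w2 h2 he'
          simp only [Finset.mem_filter, Finset.mem_univ, true_and, hV] at h1 h2
          have hxed : ∀ u v : G, u ∈ W → v ∈ W → x0 * u ≠ x0 * e * v := by
            intro u v hu hv h
            rw [mul_assoc] at h
            refine hex ?_
            have h7 : e = u * v⁻¹ := by rw [mul_left_cancel h, mul_inv_cancel_right]
            rw [h7]
            exact mul_mem hu.1 (inv_mem hv.1)
          split_ifs at he' with a b
          · exact mul_left_cancel he'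
          · exact absurd he' (hxed _ _ h1.1 h2.1)
          · exact absurd he'.symm (hxed _ _ h2.1 h1.1)
          · exact mul_left_cancel he'
        · intro y hy
          simp only [hX2, hTdef, Finset.mem_filter, Finset.mem_univ, true_and] at hy
          obtain ⟨⟨hysq, hyC⟩, hyi⟩ := hy
          rw [sq] at hysq
          have hxy : x0 * y ∈ C := by
            rw [Subgroup.mul_mem_iff_of_index_two hCi2]; simp [hx0C, hyC]
          -- the class of `y`
          have heyz : e * y * e⁻¹ = y * z := by
            rcases hconj y with h | h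
            · exact absurd (Subgroup.mem_centralizer_singleton_iff.2 (mul_inv_eq_iff_eq_mul.1 h)) hyC
            · have h' : y * e = e * z * y := mul_inv_eq_iff_eq_mul.1 h
              rw [inv_eq_of_mul_eq_one_right hee]
              calc e * y * e = e * (y * e) := mul_assoc _ _ _
                _ = (e * e) * z * y := by rw [h']; simp [mul_assoc]
                _ = y * z := by rw [hee, one_mul, (hzc y).eq]
          have hyall : ∀ g : G, g * y * g⁻¹ = y ∨ g * y * g⁻¹ = y * z := by
            intro g
            have hset : {v : G | IsConj y v} = {y, y * z} := by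
              refine (Set.eq_of_subset_of_ncard_le ?_ ?_ (Set.toFinite _)).symm
              · rintro v (rfl | rfl)
                · exact IsConj.refl _
                · exact isConj_iff.2 ⟨e, heyz⟩
              · rw [CfsgLib.ClassSize.ncard_setOf_isConj, hyi, Set.ncard_pair (fun h => hz1 (left_eq_mul.1 h))]
            have h8 : g * y * g⁻¹ ∈ {v : G | IsConj y v} := isConj_iff.2 ⟨g, rfl⟩
            rw [hset] at h8
            simpa using h8
          have hback : ∀ w ∈ W, ∀ d : G, (∀ u ∈ W, u * d * u⁻¹ = d) → y = d * w →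
              ∀ u ∈ W, u * w * u⁻¹ = w ∨ u * w * u⁻¹ = w * z := by
            intro w hw d hd hyd u hu
            have h9 := hyall u
            have e1 : u * (d * w) * u⁻¹ = d * (u * w * u⁻¹) := by
              rw [show u * (d * w) * u⁻¹ = (u * d * u⁻¹) * (u * w * u⁻¹) by group, hd u hu]
            rw [hyd, e1] at h9
            rcases h9 with h9 | h9
            · exact Or.inl (mul_left_cancel h9)
            · rw [mul_assoc d] at h9; exact Or.inr (mul_left_cancel h9)
          rcases hCsplit _ hxy with hw | hw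
          · set w := x0 * y with hwdef
            have hyw : y = x0 * w := by rw [hwdef, ← mul_assoc, hx0sq, one_mul]
            have hw2 : w * w = 1 := by
              have h := hysq
              rwa [hyw, mul_assoc, ← mul_assoc w, (hWx w hw).eq, mul_assoc x0, ← mul_assoc, hx0sq, one_mul] at h
            refine ⟨w, ?_, by simp only [hw2, if_true]; exact hyw.symm⟩
            simp only [Finset.mem_filter, Finset.mem_univ, true_and, hV]
            exact ⟨hw, Or.inl hw2, hback w hw x0 (fun u hu => by rw [(hWx u hu).eq, mul_inv_cancel_right]) hyw⟩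
          · set w := e * (x0 * y) with hwdef
            have hyw : y = x0 * e * w := by
              rw [hwdef, mul_assoc x0, ← mul_assoc e, hee, one_mul, ← mul_assoc, hx0sq, one_mul]
            have h5 : x0 * e * (x0 * e) = z := by
              calc x0 * e * (x0 * e) = e * z * (x0 * x0) * e := by rw [hxe']; simp [mul_assoc]; rw [hxe']; simp [mul_assoc]
                _ = z := by rw [hx0sq, mul_one, (hzc e).eq, mul_assoc, hee, mul_one]
            have hwz : w * w = z := by
              have h := hysq
              rw [hyw, mul_assoc, ← mul_assoc w, ((hWx w hw).mul_right (hWe w hw)).eq, mul_assoc (x0 * e) w,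
                ← mul_assoc, h5] at h
              rw [← inv_eq_of_mul_eq_one_right h, inv_eq_of_mul_eq_one_right hzz]
            have hne : ¬ w * w = 1 := fun h => hz1 (hwz.symm.trans h)
            refine ⟨w, ?_, by simp only [hne, if_false]; exact hyw.symm⟩
            simp only [Finset.mem_filter, Finset.mem_univ, true_and, hV]
            exact ⟨hw, Or.inr hwz, hback w hw (x0 * e) (fun u hu => by
              rw [((hWx u hu).mul_right (hWe u hu)).eq, mul_inv_cancel_right]) hyw⟩
      rw [← hf, ← Fintype.card_subtype, ← Nat.card_eq_fintype_card]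
      exact hV4
    rw [← Finset.card_filter_add_card_filter_not (s := T) (fun x => (Subgroup.centralizer ({x} : Set G)).index = 2)]
    exact dvd_add hX hrest

/-- In a 2-group with cyclic subgroup of index two which is not of maximal class, `r ≡ 1 mod 4`. -/
theorem cyclic_maximal_two {m : ℕ} (hG : Nat.card G = 2 ^ m) (hm : 3 ≤ m) (hnc : ¬ IsCyclic G)
    (hcm : ¬ (commutator G).index = 4) (C : Subgroup G) (hC : IsCyclic C) (hCi : C.index = 2) :
    ∃ K : Subgroup G, Nat.card K = 2 ^ 2 ∧ (∀ x : G, x ∈ K ↔ x ^ 2 = 1) ∧ C ⊔ K = ⊤ := by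
  haveI : Fact (Nat.Prime 2) := ⟨Nat.prime_two⟩
  have hGp : IsPGroup 2 G := IsPGroup.of_card hG
  obtain ⟨⟨a, haC⟩, ha⟩ := hC.exists_generator
  have hCa : C = Subgroup.zpowers a := le_antisymm (fun x hx => by
    obtain ⟨i, hi⟩ := Subgroup.mem_zpowers_iff.1 (ha ⟨x, hx⟩)
    exact ⟨i, congrArg Subtype.val hi⟩) (Subgroup.zpowers_le.2 haC)
  have hao : orderOf a = 2 ^ (m - 1) := by
    have h := C.card_mul_index
    rw [hCi, hCa, Nat.card_zpowers, hG, show m = m - 1 + 1 by omega, pow_succ] at h
    omega
  haveI := Subgroup.normal_of_index_eq_two hCi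
  obtain ⟨b, hb⟩ : ∃ b, b ∉ C := by
    by_contra h
    push Not at h
    have e : C = ⊤ := eq_top_iff.2 fun x _ => h x
    rw [e, Subgroup.index_top] at hCi
    exact absurd hCi (by norm_num)
  obtain ⟨r, hr⟩ := Subgroup.mem_zpowers_iff.1 (hCa ▸ (inferInstance : C.Normal).conj_mem a haC b)
  refine omega_two C a hCa hCi hnc hao b hb r hr.symm ?_
  by_contra h4
  -- otherwise the derived subgroup has index four
  apply hcm
  have hcom : a ^ (r - 1) ∈ commutator G := by
    rw [zpow_sub, zpow_one, hr, show b * a * b⁻¹ * a⁻¹ = ⁅b, a⁆ from (commutatorElement_def b a).symm, commutator_def]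
    exact Subgroup.commutator_mem_commutator (Subgroup.mem_top _) (Subgroup.mem_top _)
  have hodd : ¬ (2 : ℤ) ∣ r := by
    intro h2
    have h1 : orderOf (b * a * b⁻¹) = orderOf a := orderOf_injective (MulAut.conj b).toMonoidHom (MulAut.conj b).injective a
    rw [← hr] at h1
    obtain ⟨c, rfl⟩ := h2
    have h2 : orderOf (a ^ (2 * c)) ∣ 2 ^ (m - 2) := by
      apply orderOf_dvd_of_pow_eq_one
      rw [← zpow_natCast, ← zpow_mul, ← orderOf_dvd_iff_zpow_eq_one, hao, show m - 1 = m - 2 + 1 by omega]
      push_cast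
      exact ⟨c, by ring⟩
    rw [h1, hao, Nat.pow_dvd_pow_iff_le_right (by norm_num : 1 < 2)] at h2
    omega
  obtain ⟨c, hc⟩ : ∃ c, r - 1 = 2 * c := ⟨(r - 1) / 2, by omega⟩
  have hcodd : IsCoprime c ((2 ^ (m - 1) : ℕ) : ℤ) := by
    push_cast
    refine ((Int.prime_two.coprime_iff_not_dvd).2 fun h2 => h4 ?_).symm.pow_right
    obtain ⟨d, rfl⟩ := h2
    exact ⟨d, by omega⟩
  obtain ⟨u, v, huv⟩ := hcodd
  have ha2 : a ^ (2 : ℕ) ∈ commutator G := by
    have h := Subgroup.zpow_mem _ hcom u
    rwa [← zpow_mul, hc, show 2 * c * u = ((2 : ℕ) : ℤ) + ((2 ^ (m - 1) : ℕ) : ℤ) * (-2 * v) by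
      push_cast at huv ⊢; linear_combination 2 * huv, zpow_add, zpow_natCast, zpow_mul, zpow_natCast, ← hao,
      pow_orderOf_eq_one, one_zpow, mul_one] at h
  have hle := Subgroup.card_le_of_le (Subgroup.zpowers_le.2 ha2)
  rw [Nat.card_zpowers, orderOf_pow_of_dvd (by norm_num) (by rw [hao]; exact dvd_pow_self 2 (by omega)), hao,
    show m - 1 = m - 2 + 1 by omega, pow_succ, Nat.mul_div_cancel _ (by norm_num)] at hle
  have h5 := sq_le_index_commutator hGp hnc
  have h6 := (commutator G).card_mul_index
  rw [hG, show m = m - 2 + 2 by omega, pow_add] at h6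
  have h7 := Nat.mul_le_mul_right (commutator G).index hle
  have h8 : (commutator G).index ≤ 4 := Nat.le_of_mul_le_mul_left (by rw [h6] at h7; exact h7) (by positivity)
  omega

/-- Kulakoff's theorem. -/
theorem kulakoff : ∀ (m : ℕ) {G : Type u} [Group G] [Finite G] {p : ℕ} [Fact p.Prime], Nat.card G = p ^ m →
    ¬ IsCyclic G → (p = 2 → 3 ≤ m → ¬ (commutator G).index = 4) →
    ∀ k, 1 ≤ k → k < m → numSub G (p ^ k) ≡ 1 + p [MOD p ^ 2] := by
  intro m
  induction m with
  | zero => intro G _ _ p _ hG hnc h2 k hk1 hk; omega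
  | succ n ih =>
    intro G _ _ p _ hG hnc h2 k hk1 hk
    classical
    cases nonempty_fintype (Subgroup G)
    have hp : p.Prime := Fact.out
    have hGp : IsPGroup p G := IsPGroup.of_card hG
    obtain ⟨hMc, hNc⟩ := frattini_quotient_counts hGp hnc
    rcases Nat.lt_or_ge k n with hkn | hkn
    swap
    · have hk' : k = n := by omega
      subst hk'
      have h1 := card_index_eq (G := G) hp hG (show 1 ≤ k + 1 by omega)
      rw [pow_one, Nat.add_sub_cancel] at h1
      rwa [← h1]
    by_cases hC : ∃ C : Subgroup G, C.index = p ∧ IsCyclic C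
    · obtain ⟨C, hCi, hC⟩ := hC
      obtain ⟨K, hKc, hKm, hsup⟩ : ∃ K : Subgroup G, Nat.card K = p ^ 2 ∧ (∀ x : G, x ∈ K ↔ x ^ p = 1) ∧ C ⊔ K = ⊤ := by
        by_cases hp2 : p = 2
        · subst hp2
          exact cyclic_maximal_two hG (by omega) hnc (h2 rfl (by omega)) C hC hCi
        · obtain ⟨K, hKc, hKm⟩ := omega_of_cyclic_index_prime hp2 hGp hnc C hC hCi
          refine ⟨K, hKc, hKm, ?_⟩
          rw [← Subgroup.index_eq_one]
          refine ((Nat.dvd_prime hp).1 (hCi ▸ Subgroup.index_dvd_of_le le_sup_left)).resolve_right fun h => ?_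
          have h3 := Subgroup.relIndex_mul_index (le_sup_left : C ≤ C ⊔ K)
          rw [h, hCi] at h3
          have h3' : C.relIndex (C ⊔ K) = 1 := by simpa [Nat.mul_eq_right hp.ne_zero] using h3
          have hKC : K ≤ C := le_sup_right.trans (Subgroup.relIndex_eq_one.1 h3')
          haveI : IsCyclic C := hC
          have hKcy : IsCyclic K := isCyclic_of_injective (Subgroup.inclusion hKC) (Subgroup.inclusion_injective hKC)
          obtain ⟨g, hg⟩ := hKcy.exists_generator
          have h4 : orderOf g ∣ p := orderOf_dvd_of_pow_eq_one (Subtype.ext ((hKm _).1 g.2))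
          rw [orderOf_eq_card_of_forall_mem_zpowers hg, hKc] at h4
          have h5 := Nat.le_of_dvd hp.pos h4
          have := hp.two_le
          nlinarith
      haveI hKn : K.Normal := ⟨fun x hx g => by rw [hKm, conj_pow, (hKm x).1 hx, mul_one, mul_inv_cancel]⟩
      have hQ : IsCyclic (G ⧸ K) := by
        haveI : IsCyclic C := hC
        refine isCyclic_of_surjective ((QuotientGroup.mk' K).comp C.subtype) fun q => ?_
        obtain ⟨g, rfl⟩ := QuotientGroup.mk'_surjective K q
        obtain ⟨c, hc, x, hx, rfl⟩ := Subgroup.mem_sup_of_normal_right.1 (hsup ▸ Subgroup.mem_top g : g ∈ C ⊔ K)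
        exact ⟨⟨c, hc⟩, by
          rw [map_mul, MonoidHom.comp_apply, Subgroup.coe_subtype]
          simp [(QuotientGroup.eq_one_iff x).2 hx]⟩
      rw [numSub_of_omega hG K hKc hKm hQ hk1 hk, add_comm]
    -- all maximal subgroups are noncyclic
    push Not at hC
    set 𝓜 := Finset.univ.filter fun M : Subgroup G => M.index = p
    set 𝓝 := Finset.univ.filter fun N : Subgroup G => frattini G ≤ N ∧ N.index = p ^ 2
    have hMcard : ∀ M ∈ 𝓜, Nat.card M = p ^ n := by
      intro M hM
      have h := M.card_mul_index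
      rw [(Finset.mem_filter.1 hM).2, hG, pow_succ] at h
      exact Nat.eq_of_mul_eq_mul_right hp.pos h
    have hNterm : ∀ q, 1 ≤ q → q < n → ((p : ℤ) * ∑ N ∈ 𝓝, (numSub N (p ^ q) : ℤ)) ≡ p [ZMOD (p : ℤ) ^ 2] := by
      intro q hq1 hq
      have h1 : (∑ N ∈ 𝓝, numSub N (p ^ q)) ≡ 1 [MOD p] := by
        refine (Nat.ModEq.sum (g := fun _ => 1) fun N hN => ?_).trans ?_
        · have h := N.card_mul_index
          rw [(Finset.mem_filter.1 hN).2.2, hG, show n + 1 = n - 1 + 2 by omega, pow_add] at h
          exact numSub_modEq_one hp (Nat.eq_of_mul_eq_mul_right (pow_pos hp.pos 2) h) (by omega)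
        · rw [Finset.sum_const, smul_eq_mul, mul_one]
          rwa [← Fintype.card_subtype, ← Nat.card_eq_fintype_card]
      have h3 := Int.natCast_modEq_iff.2 (Nat.ModEq.mul_left' p h1)
      push_cast at h3
      rw [← pow_two, mul_one] at h3
      exact h3
    have hhall : ∀ q, 1 ≤ q → q < n → (numSub G (p ^ q) : ℤ) ≡
        ∑ M ∈ 𝓜, (numSub M (p ^ q) : ℤ) - p [ZMOD (p : ℤ) ^ 2] := by
      intro q hq1 hq
      have h1 := hall_enumeration (p := p) hGp (p ^ q) (by rw [hG]; exact Nat.pow_lt_pow_right hp.one_lt (by omega))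
      refine h1.trans ?_
      convert (Int.ModEq.refl (∑ M ∈ 𝓜, (numSub M (p ^ q) : ℤ))).sub (hNterm q hq1 hq) using 2
    have hMint : (𝓜.card : ℤ) ≡ 1 + p [ZMOD (p : ℤ) ^ 2] := by
      have h3 := Int.natCast_modEq_iff.2 hMc
      push_cast at h3
      rwa [Nat.card_eq_fintype_card, Fintype.card_subtype] at h3
    apply Int.natCast_modEq_iff.1
    push_cast
    have hgood : ∀ q, 1 ≤ q → q < n → ∀ M ∈ 𝓜, (p = 2 → q + 2 ≤ n → ¬ (commutator M).index = 4) →
        (numSub M (p ^ q) : ℤ) ≡ 1 + p [ZMOD (p : ℤ) ^ 2] := by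
      intro q hq1 hq M hM hM2
      have hMnc : ¬ IsCyclic M := hC M (Finset.mem_filter.1 hM).2
      by_cases hmax : q + 2 ≤ n
      · have := Int.natCast_modEq_iff.2 (ih (hMcard M hM) hMnc (fun e _ => hM2 e hmax) q hq1 hq)
        push_cast at this
        exact this
      · obtain ⟨h1, -⟩ := frattini_quotient_counts (hGp.to_subgroup M) hMnc
        have h3 := card_index_eq (G := M) hp (hMcard M hM) (show 1 ≤ n by omega)
        rw [pow_one, show n - 1 = q by omega] at h3
        rw [h3] at h1
        have := Int.natCast_modEq_iff.2 h1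
        push_cast at this
        exact this
    refine (hhall k hk1 hkn).trans ?_
    by_cases hp2 : p = 2
    swap
    · refine (Int.ModEq.sub (Int.ModEq.sum (g := fun _ => (1 + p : ℤ)) fun M hM =>
        hgood k hk1 hkn M hM fun e => absurd e hp2) (Int.ModEq.refl _)).trans ?_
      rw [Finset.sum_const, nsmul_eq_mul]
      refine ((hMint.mul_right _).sub (Int.ModEq.refl _)).trans ?_
      rw [Int.modEq_iff_dvd]
      exact ⟨-1, by ring⟩
    subst hp2
    have hnoC : ∀ C : Subgroup G, C.index = 2 → ¬ IsCyclic C := hC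
    set bad := 𝓜.filter fun M : Subgroup G => (commutator M).index = 4
    have hsum : ∀ q, 1 ≤ q → q + 2 ≤ n →
        ∑ M ∈ 𝓜, (numSub M (2 ^ q) : ℤ) ≡ 3 * (𝓜.card : ℤ) - 2 * (bad.card : ℤ) [ZMOD 4] := by
      intro q hq1 hq
      have e : (3 * (𝓜.card : ℤ) - 2 * (bad.card : ℤ)) = ∑ M ∈ 𝓜, (3 - if (commutator M).index = 4 then (2 : ℤ) else 0) := by
        rw [Finset.sum_sub_distrib, Finset.sum_const, ← Finset.sum_filter, Finset.sum_const, nsmul_eq_mul, nsmul_eq_mul]
        ring
      rw [e]
      refine Int.ModEq.sum fun M hM => ?_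
      split_ifs with hbad
      · have h1 := numSub_maximal_class (G := M) (hMcard M hM) hbad hq1 hq
        rw [Int.ModEq]
        omega
      · have h1 := hgood q hq1 (by omega) M hM fun _ _ => hbad
        simpa using h1
    have hM3 : (𝓜.card : ℤ) % 4 = 3 := by
      rw [Int.ModEq] at hMint; simpa using hMint
    by_cases hkmax : k + 2 ≤ n
    swap
    · refine (Int.ModEq.sub (Int.ModEq.sum (g := fun _ => (1 + 2 : ℤ)) fun M hM => by
        have := hgood k hk1 hkn M hM fun _ h => absurd h hkmax
        simpa using this) (Int.ModEq.refl _)).trans ?_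
      rw [Finset.sum_const, nsmul_eq_mul, Int.ModEq]
      push_cast
      omega
    -- parity of the number of maximal subgroups of maximal class
    have hbad : (bad.card : ℤ) % 2 = 0 := by
      have h4 := four_dvd_solutions hGp hnc hnoC (h2 rfl (by omega))
      have hsol := card_pow_eq_one (G := G) (p := 2)
      have h1 := (hhall 1 le_rfl (by omega)).trans
        (Int.ModEq.sub ((by norm_num : (((2 : ℕ) : ℤ)) ^ 2 = 4) ▸ hsum 1 le_rfl (by omega)) (Int.ModEq.refl _))
      rw [Int.ModEq] at h1
      push_cast at h1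
      norm_num at h1
      omega
    refine (Int.ModEq.sub ((by norm_num : (((2 : ℕ) : ℤ)) ^ 2 = 4) ▸ hsum k hk1 hkmax) (Int.ModEq.refl _)).trans ?_
    rw [Int.ModEq]
    push_cast
    omega

end CfsgLib.Kulakoff
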