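import Mathlib.GroupTheory.PGroup
import Mathlib.GroupTheory.Nilpotent
import Mathlib.GroupTheory.QuotientGroup.Basic

/-!
# `p`-groups with a small centraliser have maximal class
-/

set_option autoImplicit false

open scoped commutatorElement

namespace CfsgLib.PGroup

universe u

variable {p : ℕ} [hp : Fact p.Prime]

/-- The elements commuting with all of `S` modulo the centre form at most a `|Z|^|S|`-fold extension
of the centraliser of `S`. -/
theorem card_centralizer_mk_le {G : Type u} [Group G] [Finite G] (S : Finset G) :
    Nat.card (Subgroup.centralizer ((QuotientGroup.mk' (Subgroup.center G)) '' (S : Set G))) *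
        Nat.card (Subgroup.center G) ≤
      Nat.card (Subgroup.centralizer (S : Set G)) * Nat.card (Subgroup.center G) ^ S.card := by
  set π := QuotientGroup.mk' (Subgroup.center G) with hπ
  set D := (Subgroup.centralizer (π '' (S : Set G))).comap π with hD
  have hmem : ∀ d : D, ∀ s : S, ⁅(d : G), (s : G)⁆ ∈ Subgroup.center G := by
    intro d s
    have h := Subgroup.mem_centralizer_iff.1 d.2 (π s) ⟨s, s.2, rfl⟩
    rw [← QuotientGroup.eq_one_iff]
    show π ⁅(d : G), (s : G)⁆ = 1
    rw [map_commutatorElement, commutatorElement_eq_one_iff_mul_comm]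
    exact h.symm
  let f : D → S → Subgroup.center G := fun d s => ⟨⁅(d : G), (s : G)⁆, hmem d s⟩
  have hf : ∀ a b : D, f a = f b → (a : G)⁻¹ * b ∈ Subgroup.centralizer (S : Set G) := by
    intro a b h
    rw [Subgroup.mem_centralizer_iff]
    intro s hs
    have h2 : ⁅(a : G), s⁆ = ⁅(b : G), s⁆ := congrArg Subtype.val (congrFun h ⟨s, hs⟩)
    rw [commutatorElement_def, commutatorElement_def, mul_left_inj] at h2
    calc s * ((a : G)⁻¹ * b) = (a : G)⁻¹ * (a * s * (a : G)⁻¹) * b := by group
      _ = (a : G)⁻¹ * (b * s * (b : G)⁻¹) * b := by rw [h2]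
      _ = (a : G)⁻¹ * b * s := by group
  have hle : Subgroup.centralizer (S : Set G) ≤ D := by
    intro c hc
    rw [hD, Subgroup.mem_comap, Subgroup.mem_centralizer_iff]
    rintro _ ⟨s, hs, rfl⟩
    rw [← map_mul, ← map_mul, Subgroup.mem_centralizer_iff.1 hc s hs]
  have hcard : Nat.card D =
      Nat.card (Subgroup.centralizer (π '' (S : Set G))) * Nat.card (Subgroup.center G) := by
    rw [← Nat.card_prod]
    refine (Nat.card_congr (Equiv.subtypeEquivRight fun x => ?_)).trans
      ((Nat.card_congr (QuotientGroup.preimageMkEquivSubgroupProdSet (Subgroup.center G)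
        (Subgroup.centralizer (π '' (S : Set G)) : Set _))).trans
      (Nat.card_congr (Equiv.prodComm _ _)))
    exact Iff.rfl
  rw [← hcard]
  have hsub : Nat.card D ≤ Nat.card ((Subgroup.centralizer (S : Set G)).subgroupOf D) *
      Nat.card (S → Subgroup.center G) := by
    rw [((Subgroup.centralizer (S : Set G)).subgroupOf D).card_eq_card_quotient_mul_card_subgroup,
      mul_comm]
    refine Nat.mul_le_mul_left _ (Nat.card_le_card_of_injective (fun q => f q.out) fun q₁ q₂ e => ?_)
    rw [← q₁.out_eq', ← q₂.out_eq', QuotientGroup.eq]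
    exact hf _ _ e
  rw [Nat.card_fun, Nat.card_congr (Subgroup.subgroupOfEquivOfLe hle).toEquiv] at hsub
  simpa using hsub

theorem card_centralizer_mk_singleton_le {G : Type u} [Group G] [Finite G] (x : G) :
    Nat.card (Subgroup.centralizer ({(x : G ⧸ Subgroup.center G)} : Set (G ⧸ Subgroup.center G))) ≤
      Nat.card (Subgroup.centralizer ({x} : Set G)) := by
  have h := card_centralizer_mk_le ({x} : Finset G)
  rw [Finset.coe_singleton, Set.image_singleton, Finset.card_singleton, pow_one] at h
  exact Nat.le_of_mul_le_mul_right h Nat.card_pos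

/-- Suzuki's criterion: an element with centraliser of order at most `p²` gives maximal class. -/
theorem nilpotencyClass_of_small_centralizer {G : Type u} [Group G] [Finite G] (n : ℕ) (hn : 2 ≤ n)
    (hG : Nat.card G = p ^ n) (x : G)
    (hx : Nat.card (Subgroup.centralizer ({x} : Set G)) ≤ p ^ 2) :
    Group.nilpotencyClass G = n - 1 := by
  induction n using Nat.strong_induction_on generalizing G with
  | _ n ih =>
    have hp1 : p.Prime := hp.out
    haveI : Nontrivial G := Finite.one_lt_card_iff_nontrivial.1
      (by rw [hG]; exact Nat.one_lt_pow (by omega) hp1.one_lt)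
    have hpg : IsPGroup p G := IsPGroup.of_card hG
    haveI : Group.IsNilpotent G := hpg.isNilpotent
    rw [Group.nilpotencyClass_eq_quotient_center_plus_one]
    obtain rfl | hn3 := hn.eq_or_lt
    · haveI := IsPGroup.isMulCommutative_of_card_eq_prime_sq hG
      have : Subgroup.center G = ⊤ := Subgroup.center_eq_top_iff.2 inferInstance
      haveI : Subsingleton (G ⧸ Subgroup.center G) := by
        rw [this]; exact QuotientGroup.subsingleton_quotient_top
      rw [nilpotencyClass_zero_iff_subsingleton.2 inferInstance]
    · set Z := Subgroup.center G with hZ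
      set C := Subgroup.centralizer ({x} : Set G) with hC
      have hZC : Z ≤ C := fun z hz => Subgroup.mem_centralizer_singleton_iff.2
        (Subgroup.mem_center_iff.1 hz x).symm
      have hxZ : x ∉ Z := by
        intro h
        have htop : C = ⊤ := eq_top_iff.2 fun g _ => Subgroup.mem_centralizer_singleton_iff.2
          (Subgroup.mem_center_iff.1 h g)
        rw [htop, Subgroup.card_top, hG, Nat.pow_le_pow_iff_right hp1.one_lt] at hx
        omega
      obtain ⟨i, hi⟩ := IsPGroup.iff_card.1 (hpg.to_subgroup Z)
      obtain ⟨j, hj⟩ := IsPGroup.iff_card.1 (hpg.to_subgroup C)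
      have hi0 : i ≠ 0 := by
        intro h
        haveI := hpg.center_nontrivial
        have := Finite.one_lt_card (α := Z)
        rw [hi, h, pow_zero] at this
        exact lt_irrefl _ this
      have hij : Nat.card Z < Nat.card C := by
        refine lt_of_le_of_ne (Subgroup.card_le_of_le hZC) fun h => hxZ ?_
        rw [Subgroup.eq_of_le_of_card_ge hZC h.ge]
        exact Subgroup.mem_centralizer_singleton_iff.2 rfl
      have hj2 : j ≤ 2 := (Nat.pow_le_pow_iff_right hp1.one_lt).1 (hj ▸ hx)
      rw [hi, hj, Nat.pow_lt_pow_iff_right hp1.one_lt] at hij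
      have hQ : Nat.card (G ⧸ Z) = p ^ (n - 1) := by
        have h1 := Z.card_eq_card_quotient_mul_card_subgroup
        rw [hG, hi, show i = 1 by omega, pow_one, show n = (n - 1) + 1 by omega, pow_succ] at h1
        exact (Nat.eq_of_mul_eq_mul_right hp1.pos h1).symm
      rw [ih (n - 1) (by omega) (by omega) hQ (x : G ⧸ Z) ((card_centralizer_mk_singleton_le x).trans hx)]
      omega

end CfsgLib.PGroup
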