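import Cfsg.Agent.Lib.PGroup.CyclicSelfCentralizing
import Cfsg.Agent.Lib.Transfer.Critical
import Cfsg.Agent.S0110

/-!
Hall's theorem on p-groups of symplectic type.
-/

set_option autoImplicit false

open Subgroup

open scoped commutatorElement

namespace CfsgLib.PGroup.SympType

variable {G : Type*} [Group G] [Finite G] {p : ℕ} [hp : Fact p.Prime]

omit [Finite G] hp in
theorem mul_pow_commutator {h k : G} (hh : Commute h ⁅k, h⁆) (hk : Commute k ⁅k, h⁆) (m : ℕ) :
    (h * k) ^ m = ⁅k, h⁆ ^ m.choose 2 * (h ^ m * k ^ m) := by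
  have hd : ∀ j : ℕ, k ^ j * h = ⁅k, h⁆ ^ j * (h * k ^ j) := fun j => by
    rw [← CfsgLib.PGroup.commutator_pow_left k h hk, commutatorElement_def]; group
  induction m with
  | zero => simp
  | succ m ih =>
    calc (h * k) ^ (m + 1) = ⁅k, h⁆ ^ m.choose 2 * (h ^ m * (k ^ m * h) * k) := by
          rw [pow_succ, ih]; simp only [mul_assoc]
      _ = ⁅k, h⁆ ^ m.choose 2 * ((h ^ m * ⁅k, h⁆ ^ m) * (h * k ^ m) * k) := by
          rw [hd]; simp only [mul_assoc]
      _ = ⁅k, h⁆ ^ (m + 1).choose 2 * (h ^ (m + 1) * k ^ (m + 1)) := by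
          rw [((hh.pow_pow m m)).eq, Nat.choose_succ_succ' m 1, Nat.choose_one_right, add_comm m,
            pow_add, pow_succ h, pow_succ k]
          simp only [mul_assoc]

omit hp in
theorem mem_zpowers_of_cyclic [hp : Fact p.Prime] {A : Subgroup G} (hA : IsCyclic A) {x y : G}
    (hx : x ∈ A) (hy : y ∈ A) (hxp : x ^ p = 1) (hx1 : x ≠ 1) (hyp : y ^ p = 1) : y ∈ zpowers x := by
  classical
  by_contra hne
  have := Fintype.ofFinite A
  have hle := IsCyclic.card_pow_eq_one_le (α := A) hp.out.pos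
  have hsub : insert (⟨y, hy⟩ : A) (zpowers (⟨x, hx⟩ : A) : Set A).toFinset ⊆
      Finset.univ.filter fun w : A => w ^ p = 1 := by
    intro w hw
    rw [Finset.mem_insert, Set.mem_toFinset] at hw
    rw [Finset.mem_filter]
    rcases hw with rfl | hw
    · exact ⟨Finset.mem_univ _, Subtype.ext hyp⟩
    · obtain ⟨j, rfl⟩ := mem_zpowers_iff.1 hw
      refine ⟨Finset.mem_univ _, ?_⟩
      rw [← zpow_natCast, ← zpow_mul, mul_comm, zpow_mul, zpow_natCast,
        (Subtype.ext hxp : (⟨x, hx⟩ : A) ^ p = 1), one_zpow]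
  have h1 := (Finset.card_le_card hsub).trans hle
  rw [Finset.card_insert_of_notMem (fun h => hne (by
      obtain ⟨j, hj⟩ := mem_zpowers_iff.1 (Set.mem_toFinset.1 h)
      exact ⟨j, congrArg Subtype.val hj⟩)), Set.toFinset_card, ← Nat.card_eq_fintype_card] at h1
  have h2 : Nat.card (zpowers (⟨x, hx⟩ : A)) = p := by
    rw [Nat.card_zpowers, ← orderOf_coe, orderOf_eq_prime hxp hx1]
  simp only [SetLike.coe_sort_coe] at h1
  omega

theorem mem_center_of_normal_zpowers (hG : IsPGroup p G) {x : G} (hN : (zpowers x).Normal)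
    (hxp : x ^ p = 1) : x ∈ center G := by
  by_cases hx1 : x = 1
  · rw [hx1]; exact one_mem _
  obtain ⟨z, hzx, hzc, hz⟩ := exists_central_orderOf_eq hG (zpowers x) (by
    rwa [ne_eq, zpowers_eq_bot])
  have h : zpowers z = zpowers x := eq_of_le_of_card_ge (zpowers_le.2 hzx) (by
    rw [Nat.card_zpowers, Nat.card_zpowers, hz, orderOf_eq_prime hxp hx1])
  exact zpowers_le.2 hzc (h ▸ mem_zpowers x)

omit hp in
theorem relIndex_ne_zero' (A B : Subgroup G) : A.relIndex B ≠ 0 := index_ne_zero_of_finite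

/-- The conditions on the characteristic subgroup used in the proof. -/
def Crit (p : ℕ) (H : Subgroup G) : Prop :=
  H.Characteristic ∧ (∀ h ∈ H, ∀ g : G, ⁅h, g⁆ ∈ H ⊓ centralizer (H : Set G)) ∧
    (∀ h ∈ H, h ^ p ∈ centralizer (H : Set G)) ∧ centralizer (H : Set G) ≤ H

theorem exists_maximal_crit (hG : IsPGroup p G) :
    ∃ H : Subgroup G, Crit p H ∧ ∀ N, Crit p N → H ≤ N → N ≤ H := by
  obtain ⟨H, hc, hf, hco, hC⟩ := CfsgLib.Transfer.exists_critical hG
  have hH : Crit p H := ⟨hc, fun h hh g => hco (commutator_mem_commutator hh (mem_top g)),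
    fun h hh => hf ⟨⟨h, hh⟩ ^ p, pow_mem_frattini (hG.to_subgroup H) _, rfl⟩, hC⟩
  obtain ⟨K, hK, hKmax⟩ := (Set.toFinite {N : Subgroup G | Crit p N}).exists_maximal ⟨H, hH⟩
  exact ⟨K, hK, fun N hN h => hKmax hN h⟩

/-- A maximal such subgroup is `E ⊔ C(H)` with `E` trivial or extraspecial. -/
theorem exists_decomp (hG : IsPGroup p G)
    (hsymp : ∀ A : Subgroup G, A.Characteristic → IsMulCommutative A → IsCyclic A)
    {H : Subgroup G} (hH : Crit p H) :
    ∃ E : Subgroup G, E ≤ H ∧ E ⊔ centralizer (H : Set G) = H ∧ E.Normal ∧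
      (∀ e ∈ E, (∀ g : G, ⁅e, g⁆ ∈ center G ∧ ⁅e, g⁆ ∈ centralizer (H : Set G) ∧ ⁅e, g⁆ ^ p = 1) ∧
        e ^ p ∈ centralizer (H : Set G) ∧ (e ^ p) ^ p = 1) ∧
      (E = ⊥ ∨ Cfsg.IsExtraspecial p ↥E) ∧ E ⊔ centralizer (E : Set G) = ⊤ := by
  classical
  obtain ⟨hHc, hHco, hHp, hCH⟩ := hH
  set U := centralizer (H : Set G) with hUdef
  have hUH : U ≤ H := hCH
  have hUc : U.Characteristic := inferInstance
  have hUn : U.Normal := normal_of_characteristic U
  have hUab : IsMulCommutative U := by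
    rw [← le_centralizer_iff_isMulCommutative]
    exact le_centralizer_iff.1 (centralizer_le (hUH : (U : Set G) ⊆ H))|> fun h => h
  have hUcyc := hsymp U hUc hUab
  have hcommU : ∀ h ∈ H, ∀ x ∈ U, Commute h x := fun h hh x hx => mem_centralizer_iff.1 hx h hh
  have hcp : ∀ h ∈ H, ∀ k ∈ H, ⁅h, k⁆ ∈ U ∧ ⁅h, k⁆ ^ p = 1 := by
    intro h hh k hk
    have h1 := (hHco h hh k).2
    refine ⟨h1, ?_⟩
    rw [← CfsgLib.PGroup.commutator_pow_left h k (hcommU h hh _ h1),
      commutatorElement_eq_one_iff_mul_comm]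
    exact (hcommU k hk _ (hHp h hh)).eq.symm
  by_cases hHU : H ≤ U
  · refine ⟨⊥, bot_le, by rw [bot_sup_eq]; exact le_antisymm hUH hHU, inferInstance, ?_, Or.inl rfl, ?_⟩
    · intro e he
      rw [mem_bot] at he
      subst he
      simp
    · rw [bot_sup_eq, eq_top_iff]
      intro g _
      rw [mem_centralizer_iff]
      intro x hx
      rw [SetLike.mem_coe, mem_bot] at hx
      simp [hx]
  have hUne : U ≠ ⊥ := by
    intro hU
    have hne : H ≠ ⊥ := fun h => hHU (h ▸ bot_le)
    have : Nontrivial H := (nontrivial_iff_ne_bot H).2 hne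
    obtain ⟨⟨x, hx⟩, hxc, hx1⟩ : ∃ x ∈ center H, x ≠ 1 := by
      have := (hG.to_subgroup H).center_nontrivial
      obtain ⟨x, hx⟩ := exists_ne (1 : center H)
      exact ⟨x, x.2, fun h => hx (Subtype.ext h)⟩
    refine hx1 (Subtype.ext ((mem_bot (G := G)).1 (hU ▸ ?_)))
    rw [hUdef, mem_centralizer_iff]
    exact fun y hy => congrArg Subtype.val (mem_center_iff.1 hxc ⟨y, hy⟩)
  obtain ⟨z, hzU, hzc, hz⟩ := exists_central_orderOf_eq hG U hUne
  have hzp : z ^ p = 1 := hz ▸ pow_orderOf_eq_one z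
  have hz1 : z ≠ 1 := fun h => hp.out.ne_one (by rw [← hz, h, orderOf_one])
  have hZU : zpowers z ≤ U := zpowers_le.2 hzU
  have hZall : ∀ x ∈ U, x ^ p = 1 → x ∈ zpowers z := fun x hx hxp =>
    mem_zpowers_of_cyclic hUcyc hzU hx hzp hz1 hxp
  have hZp : ∀ x ∈ zpowers z, x ^ p = 1 := by
    intro x hx
    obtain ⟨i, rfl⟩ := mem_zpowers_iff.1 hx
    rw [← zpow_natCast, ← zpow_mul, mul_comm, zpow_mul, zpow_natCast, hzp, one_zpow]
  obtain ⟨u, hu⟩ := (Subgroup.isCyclic_iff_exists_zpowers_eq_top U).1 hUcyc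
  set U1 := zpowers (u ^ p) with hU1
  have hmemU1 : ∀ x ∈ U, ∃ i : ℤ, x = u ^ i := fun x hx => by
    obtain ⟨i, hi⟩ := mem_zpowers_iff.1 (hu ▸ hx)
    exact ⟨i, hi.symm⟩
  have huU : u ∈ U := hu ▸ mem_zpowers u
  -- every element can be corrected by `U` to have `p`-th power in `⟨z⟩`
  have hB : ∀ h ∈ H, ∃ v ∈ U, (h * v) ^ p ∈ zpowers z := by
    by_cases hup : u ^ p = 1
    · intro h hh
      refine ⟨1, one_mem _, ?_⟩
      rw [mul_one]
      refine hZall _ (hHp h hh) ?_
      obtain ⟨i, hi⟩ := hmemU1 _ (hHp h hh)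
      rw [hi, ← zpow_natCast, ← zpow_mul, mul_comm, zpow_mul, zpow_natCast, hup, one_zpow]
    · have hZU1 : zpowers z ≤ U1 := by
        rw [zpowers_le]
        obtain ⟨m, hm⟩ := IsPGroup.iff_orderOf.1 hG u
        have hm2 : 2 ≤ m := by
          by_contra h
          refine hup (orderOf_dvd_iff_pow_eq_one.1 ?_)
          rw [hm]
          exact pow_dvd_pow p (show m ≤ 1 by omega) |>.trans (by rw [pow_one])
        obtain ⟨i, rfl⟩ := hmemU1 z hzU
        rw [← zpow_natCast, ← zpow_mul, CfsgLib.PGroup.SelfCent.dvd_iff hm,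
          show m = (m - 1) + 1 by omega, pow_succ] at hzp
        obtain ⟨j, hj⟩ := (dvd_pow_self (p : ℤ) (by omega : m - 1 ≠ 0)).trans
          (Int.dvd_of_mul_dvd_mul_right (by exact_mod_cast hp.out.ne_zero) hzp)
        exact ⟨j, by show (u ^ p) ^ j = u ^ i; rw [hj, zpow_mul, zpow_natCast]⟩
      have hprod : ∀ h ∈ H, ∀ k ∈ H, ∃ c ∈ U1, (h * k) ^ p = c * (h ^ p * k ^ p) := by
        intro h hh k hk
        obtain ⟨h1, h2⟩ := hcp k hk h hh
        exact ⟨_, pow_mem (hZU1 (hZall _ h1 h2)) _,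
          mul_pow_commutator (hcommU h hh _ h1) (hcommU k hk _ h1) p⟩
      let K : Subgroup G :=
        { carrier := {h | h ∈ H ∧ h ^ p ∈ U1}
          one_mem' := ⟨one_mem _, by simp⟩
          mul_mem' := by
            rintro a b ⟨ha, ha'⟩ ⟨hb, hb'⟩
            obtain ⟨c, hc, he⟩ := hprod a ha b hb
            exact ⟨H.mul_mem ha hb, he ▸ U1.mul_mem hc (U1.mul_mem ha' hb')⟩
          inv_mem' := by
            rintro a ⟨ha, ha'⟩
            exact ⟨H.inv_mem ha, by rw [inv_pow]; exact U1.inv_mem ha'⟩ }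
      have hKH : K ≤ H := fun x hx => hx.1
      have hUK : U ≤ K := fun x hx => by
        obtain ⟨i, rfl⟩ := hmemU1 x hx
        refine ⟨hUH hx, i, ?_⟩
        show (u ^ p) ^ i = (u ^ i) ^ p
        rw [← zpow_natCast u, ← zpow_natCast (u ^ i), ← zpow_mul, ← zpow_mul, mul_comm]
      intro h hh
      by_contra hbad
      have hhK : h ∉ K := by
        rintro ⟨-, i, hi⟩
        refine hbad ⟨u ^ (-i), zpow_mem huU _, ?_⟩
        rw [(hcommU h hh _ (zpow_mem huU _)).mul_pow, ← hi]
        show (u ^ p) ^ i * (u ^ (-i)) ^ p ∈ zpowers z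
        rw [← zpow_natCast u, ← zpow_natCast (u ^ (-i)), ← zpow_mul, ← zpow_mul, ← zpow_add,
          show (p : ℤ) * i + -i * p = 0 by ring, zpow_zero]
        exact one_mem _
      have hKc : K.Characteristic := by
        rw [characteristic_iff_map_le]
        intro φ
        rintro _ ⟨x, ⟨hx, hx'⟩, rfl⟩
        refine ⟨(characteristic_iff_map_le.1 hHc φ) ⟨x, hx, rfl⟩, ?_⟩
        rw [← map_pow]
        obtain ⟨i, hi⟩ := mem_zpowers_iff.1 hx'
        rw [← hi, map_zpow]
        refine zpow_mem ?_ i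
        rw [map_pow]
        obtain ⟨j, hj⟩ := hmemU1 _ ((characteristic_iff_map_le.1 hUc φ) ⟨u, huU, rfl⟩)
        refine ⟨j, ?_⟩
        show (u ^ p) ^ j = (φ u) ^ p
        rw [show φ u = u ^ j from hj, ← zpow_natCast u, ← zpow_natCast (u ^ j), ← zpow_mul,
          ← zpow_mul, mul_comm]
      have key : ∀ (k : ℕ) (L : Subgroup G), Nat.card L ≤ k → U ≤ L → L ≤ H →
          (centralizer (L : Set G)).relIndex H ≤ U.relIndex L := by
        intro k
        induction k with
        | zero =>
          intro L hL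
          exact absurd hL (Nat.not_le.2 Nat.card_pos)
        | succ k ih =>
          intro L hL hUL hLH
          have hnorm : ∀ J : Subgroup G, U ≤ J → J ≤ H → J.Normal := fun J h1 h2 => ⟨fun a ha g => by
            have : g * a * g⁻¹ = ⁅a, g⁆⁻¹ * a := by rw [commutatorElement_def]; group
            rw [this]
            exact J.mul_mem (J.inv_mem (h1 (hHco a (h2 ha) g).2)) ha⟩
          rcases eq_or_lt_of_le hUL with heq | hlt
          · subst heq
            rw [relIndex_self]
            exact le_of_eq (relIndex_eq_one.2 (le_centralizer_iff.1 le_rfl))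
          obtain ⟨J, ⟨hUJ, hJL⟩, hJmax⟩ :=
            (Set.toFinite {J : Subgroup G | U ≤ J ∧ J < L}).exists_maximal ⟨U, le_rfl, hlt⟩
          haveI := hnorm J hUJ (hJL.le.trans hLH)
          haveI := hnorm L hUL hLH
          obtain ⟨x, hxL, hxJ, hxp, -⟩ := exists_step hG J L hJL
          have hsup : J ⊔ zpowers x = L := by
            by_contra hne
            exact hxJ (hJmax ⟨hUJ.trans le_sup_left, lt_of_le_of_ne
              (sup_le hJL.le (zpowers_le.2 hxL)) hne⟩ le_sup_left (mem_sup_right (mem_zpowers x)))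
          have hxH := hLH hxL
          have hcard : Nat.card L = p * Nat.card J := by rw [← hsup]; exact card_sup_zpowers hxJ hxp
          have hJk : Nat.card J ≤ k := by
            have h2 := hp.out.two_le
            have hpos : 0 < Nat.card J := Nat.card_pos
            nlinarith
          have hx1 : (centralizer ({x} : Set G)).relIndex H ≤ p := by
            rw [relIndex, index, ← hz, ← Nat.card_zpowers]
            refine Nat.card_le_card_of_injective (fun q => (⟨⁅(q.out : G), x⁆,
              hZall _ (hcp _ q.out.2 x hxH).1 (hcp _ q.out.2 x hxH).2⟩ : zpowers z)) ?_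
            intro q q' hqq
            simp only [Subtype.mk.injEq] at hqq
            rw [← Quotient.out_eq q, ← Quotient.out_eq q']
            apply QuotientGroup.eq.2
            rw [mem_subgroupOf, mem_centralizer_singleton_iff]
            have h' : (q.out : G) * x * (q.out : G)⁻¹ = (q'.out : G) * x * (q'.out : G)⁻¹ := by
              have := congrArg (· * x) hqq
              simpa [commutatorElement_def] using this
            push_cast
            calc (q.out : G)⁻¹ * (q'.out : G) * x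
                = (q.out : G)⁻¹ * ((q'.out : G) * x * (q'.out : G)⁻¹) * (q'.out : G) := by group
              _ = x * ((q.out : G)⁻¹ * (q'.out : G)) := by rw [← h']; group
          have hinf : centralizer (J : Set G) ⊓ centralizer ({x} : Set G) ≤ centralizer (L : Set G) := by
            rw [← hsup, le_centralizer_iff]
            refine sup_le ?_ (zpowers_le.2 ?_)
            · rw [le_centralizer_iff]; exact inf_le_left
            · rw [mem_centralizer_iff]
              intro y hy
              exact mem_centralizer_singleton_iff.1 hy.2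
          have h3 : U.relIndex L = U.relIndex J * p := by
            rw [← relIndex_mul_relIndex U J L hUJ hJL.le]
            congr 1
            have h := (J.subgroupOf L).card_mul_index
            rw [Nat.card_congr (subgroupOfEquivOfLe hJL.le).toEquiv, hcard, mul_comm p] at h
            exact Nat.eq_of_mul_eq_mul_left Nat.card_pos h
          rw [h3]
          refine le_trans ?_ (Nat.mul_le_mul (ih J hJk hUJ (hJL.le.trans hLH)) hx1)
          exact le_trans (relIndex_le_of_le_left hinf (relIndex_ne_zero' _ _)) relIndex_inf_le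
      have hlt : U.relIndex K < U.relIndex H := by
        rw [← relIndex_mul_relIndex U K H hUK hKH]
        refine lt_mul_of_one_lt_right (Nat.pos_of_ne_zero (relIndex_ne_zero' _ _)) ?_
        refine lt_of_le_of_ne (Nat.one_le_iff_ne_zero.2 (relIndex_ne_zero' _ _)) ?_
        intro h1
        exact hhK (relIndex_eq_one.1 h1.symm hh)
      obtain ⟨w, hwH, hwC, hwU⟩ : ∃ w, w ∈ H ∧ w ∈ centralizer (K : Set G) ∧ w ∉ U := by
        by_contra hall
        push Not at hall
        have h1 : U.relIndex H ≤ (centralizer (K : Set G)).relIndex H := by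
          rw [← inf_relIndex_right (centralizer (K : Set G)) H]
          exact relIndex_le_of_le_left (fun x hx => hall x hx.2 hx.1) (relIndex_ne_zero' _ _)
        have := h1.trans (key _ K le_rfl hUK hKH)
        omega
      have hwK : w ∈ K := by
        by_contra hwK
        refine hwU ?_
        rw [hUdef, mem_centralizer_iff]
        intro k hk
        obtain ⟨a, ha⟩ := hmemU1 _ (hHp k hk)
        obtain ⟨b, hb⟩ := hmemU1 _ (hHp w hwH)
        have hpb : ¬ (p : ℤ) ∣ b := fun ⟨j, hj⟩ => hwK ⟨hwH, j, by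
          show (u ^ p) ^ j = w ^ p
          rw [hb, hj, zpow_mul, zpow_natCast]⟩
        obtain ⟨α, β, hαβ⟩ :=
          ((Nat.prime_iff_prime_int.1 hp.out).coprime_iff_not_dvd.2 hpb)
        have hk1 : k * w ^ (-(a * β)) ∈ K := by
          refine ⟨H.mul_mem hk (zpow_mem hwH _), ?_⟩
          obtain ⟨c, hc, he⟩ := hprod k hk (w ^ (-(a * β))) (zpow_mem hwH _)
          rw [he]
          refine U1.mul_mem hc ⟨a * α, ?_⟩
          show (u ^ p) ^ (a * α) = _
          have h4 : (w ^ (-(a * β))) ^ p = u ^ (b * -(a * β)) := by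
            rw [zpow_mul, ← hb, ← zpow_natCast w p, ← zpow_natCast (w ^ (-(a * β))), ← zpow_mul,
              ← zpow_mul, mul_comm]
          rw [ha, h4, ← zpow_natCast u, ← zpow_mul, ← zpow_add]
          congr 1
          linear_combination a * hαβ
        have := mem_centralizer_iff.1 hwC _ hk1
        have h2 : Commute (k * w ^ (-(a * β))) w := this
        have h3 := h2.mul_left (Commute.zpow_self w (a * β))
        rw [mul_assoc, ← zpow_add, neg_add_cancel, zpow_zero, mul_one] at h3
        exact h3.eq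
      obtain ⟨-, i, hi⟩ := hwK
      have hwK' : w ∈ K := ⟨hwH, i, hi⟩
      set w' := w * u ^ (-i) with hw'
      have hw'p : w' ^ p = 1 := by
        rw [hw', (hcommU w hwH _ (zpow_mem huU _)).mul_pow, ← hi]
        show (u ^ p) ^ i * (u ^ (-i)) ^ p = 1
        rw [← zpow_natCast u, ← zpow_natCast (u ^ (-i)), ← zpow_mul, ← zpow_mul, ← zpow_add,
          show (p : ℤ) * i + -i * p = 0 by ring, zpow_zero]
      have hUCK : U ≤ centralizer (K : Set G) := centralizer_le hKH
      have hZK : IsCyclic (K ⊓ centralizer (K : Set G) : Subgroup G) := by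
        haveI := hKc
        refine hsymp _ ?_ ?_
        · rw [characteristic_iff_map_le]
          intro φ
          refine le_trans (map_inf_le _ _ _) (inf_le_inf (characteristic_iff_map_le.1 hKc φ) ?_)
          exact characteristic_iff_map_le.1 inferInstance φ
        · rw [← le_centralizer_iff_isMulCommutative]
          exact inf_le_right.trans (centralizer_le inf_le_left)
      have hw'Z : w' ∈ zpowers z := mem_zpowers_of_cyclic hZK ⟨hUK hzU, hUCK hzU⟩
        ⟨K.mul_mem hwK' (hUK (zpow_mem huU _)),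
          (centralizer (K : Set G)).mul_mem hwC (hUCK (zpow_mem huU _))⟩ hzp hz1 hw'p
      exact hwU ((U.mul_mem_cancel_right (zpow_mem huU _)).1 (hZU hw'Z))
  -- construction of `E`
  let W : Set G := {h | h ∈ H ∧ h ^ p ∈ zpowers z}
  have hWc : ∀ e ∈ W, ∀ g : G, ⁅e, g⁆ ∈ zpowers z := by
    rintro e ⟨he, hep⟩ g
    have h1 := (hHco e he g).2
    refine hZall _ h1 ?_
    rw [← CfsgLib.PGroup.commutator_pow_left e g (hcommU e he _ h1),
      commutatorElement_eq_one_iff_mul_comm]
    exact (mem_center_iff.1 (zpowers_le.2 hzc hep) g).symm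
  have hWmul : ∀ a ∈ W, ∀ b ∈ W, a * b ∈ W := by
    intro a ha b hb
    obtain ⟨h1, -⟩ := hcp b hb.1 a ha.1
    refine ⟨H.mul_mem ha.1 hb.1, ?_⟩
    rw [mul_pow_commutator (hcommU a ha.1 _ h1) (hcommU b hb.1 _ h1) p]
    exact mul_mem (pow_mem (hWc b hb a) _) (mul_mem ha.2 hb.2)
  have hZW : ∀ x ∈ zpowers z, x ∈ W := fun x hx =>
    ⟨hUH (hZU hx), by rw [hZp x hx]; exact one_mem _⟩
  obtain ⟨E, ⟨hZE, hEW, hEU⟩, hEmax⟩ :=
    (Set.toFinite {E : Subgroup G | zpowers z ≤ E ∧ (E : Set G) ⊆ W ∧ E ⊓ U ≤ zpowers z}).exists_maximal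
      ⟨zpowers z, le_rfl, fun x hx => hZW x hx, inf_le_left⟩
  have hEH : E ≤ H := fun x hx => (hEW hx).1
  have hEn : E.Normal := ⟨fun a ha g => by
    have : g * a * g⁻¹ = ⁅a, g⁆⁻¹ * a := by rw [commutatorElement_def]; group
    rw [this]
    exact E.mul_mem (E.inv_mem (hZE (hWc a (hEW ha) g))) ha⟩
  have hsup : E ⊔ U = H := by
    refine le_antisymm (sup_le hEH hUH) fun h hh => ?_
    obtain ⟨v, hv, hvp⟩ := hB h hh
    set h1 := h * v with hh1
    suffices h1 ∈ E ⊔ U by
      have := (E ⊔ U).mul_mem this (mem_sup_right (U.inv_mem hv))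
      rwa [hh1, mul_inv_cancel_right] at this
    by_contra hnot
    have h1W : h1 ∈ W := ⟨H.mul_mem hh (hUH hv), hvp⟩
    have hpowW : ∀ i : ℤ, h1 ^ i ∈ W := by
      intro i
      refine ⟨zpow_mem h1W.1 i, ?_⟩
      rw [← zpow_natCast, ← zpow_mul, mul_comm, zpow_mul, zpow_natCast]
      exact zpow_mem h1W.2 i
    refine hnot (mem_sup_left (hEmax ⟨hZE.trans le_sup_left, ?_, ?_⟩ le_sup_left
      (mem_sup_right (mem_zpowers h1))))
    · intro x hx
      obtain ⟨e, he, y, hy, rfl⟩ := mem_sup_of_normal_left (s := E).1 hx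
      obtain ⟨i, rfl⟩ := mem_zpowers_iff.1 hy
      exact hWmul e (hEW he) _ (hpowW i)
    · rintro x ⟨hx, hxU⟩
      obtain ⟨e, he, y, hy, rfl⟩ := mem_sup_of_normal_left (s := E).1 hx
      obtain ⟨i, rfl⟩ := mem_zpowers_iff.1 hy
      by_cases hpi : (p : ℤ) ∣ i
      · obtain ⟨j, rfl⟩ := hpi
        refine hEU ⟨E.mul_mem he (hZE ?_), hxU⟩
        rw [zpow_mul, zpow_natCast]
        exact zpow_mem h1W.2 j
      · exfalso
        refine hnot ?_
        obtain ⟨α, β, hαβ⟩ := ((Nat.prime_iff_prime_int.1 hp.out).coprime_iff_not_dvd.2 hpi)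
        have h2 : h1 ^ i ∈ E ⊔ U := by
          have := (E ⊔ U).mul_mem (mem_sup_left (E.inv_mem he)) (mem_sup_right hxU)
          rwa [inv_mul_cancel_left] at this
        rw [← zpow_one h1, ← hαβ, zpow_add, mul_comm α, zpow_mul, mul_comm β, zpow_mul, zpow_natCast]
        exact mul_mem (zpow_mem (mem_sup_right (hZU hvp)) _) (zpow_mem h2 _)
  have hES : Cfsg.IsExtraspecial p ↥E := by
    have hcen : center E = (zpowers z).subgroupOf E := by
      ext ⟨x, hx⟩
      rw [mem_subgroupOf]
      constructor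
      · intro hxc
        refine hEU ⟨hx, ?_⟩
        show x ∈ centralizer (H : Set G)
        have hle : E ⊔ U ≤ centralizer ({x} : Set G) := by
          refine sup_le (fun y hy => ?_) fun y hy => ?_ <;> rw [mem_centralizer_singleton_iff]
          · exact congrArg Subtype.val (mem_center_iff.1 hxc ⟨y, hy⟩)
          · exact (hcommU x (hEH hx) y hy).eq.symm
        rw [mem_centralizer_iff]
        intro y hy
        exact mem_centralizer_singleton_iff.1 (hle (hsup.symm ▸ hy))
      · intro hxz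
        rw [mem_center_iff]
        intro y
        exact Subtype.ext (mem_center_iff.1 (zpowers_le.2 hzc hxz) y)
    have hZn : ((zpowers z).subgroupOf E).Normal := hcen ▸ inferInstance
    have hcardc : Nat.card (center E) = p := by
      rw [hcen, Nat.card_congr (subgroupOfEquivOfLe hZE).toEquiv, Nat.card_zpowers, hz]
    have hcomm : commutator E ≤ center E := by
      rw [_root_.commutator_def, commutator_le, hcen]
      intro a _ b _
      exact hWc a (hEW a.2) b
    have hcne : commutator E ≠ ⊥ := by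
      intro h
      refine hHU ?_
      rw [← hsup]
      refine sup_le (fun x hx => hZU (hEU ⟨hx, ?_⟩)) le_rfl
      show x ∈ centralizer (H : Set G)
      rw [mem_centralizer_iff]
      intro y hy
      have hle : E ⊔ U ≤ centralizer ({x} : Set G) := by
        refine sup_le (fun y hy => ?_) fun y hy => ?_ <;> rw [mem_centralizer_singleton_iff]
        · have h1 : ⁅(⟨y, hy⟩ : E), (⟨x, hx⟩ : E)⁆ ∈ commutator E :=
            commutatorElement_mem_commutator' _ _
          rw [h, mem_bot, commutatorElement_eq_one_iff_mul_comm] at h1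
          exact congrArg Subtype.val h1
        · exact (hcommU x (hEH hx) y hy).eq.symm
      exact mem_centralizer_singleton_iff.1 (hle (hsup.symm ▸ hy))
    have hceq : commutator E = center E := by
      refine eq_of_le_of_card_ge hcomm ?_
      rw [hcardc]
      obtain ⟨k, hk⟩ := (hG.to_subgroup E).to_subgroup (commutator E) |>.exists_card_eq
      rcases k with _ | k
      · exact absurd (card_eq_one.1 (by simpa using hk)) hcne
      · rw [hk, pow_succ']; exact Nat.le_mul_of_pos_right _ (pow_pos hp.out.pos k)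
    refine ⟨⟨hG.to_subgroup E, ?_, hceq⟩, hcardc⟩
    refine le_antisymm ?_ (hceq ▸ commutator_le_frattini (hG.to_subgroup E))
    exact frattini_le_of_elementary (p := p)
      (fun x y => hcomm (commutatorElement_mem_commutator' x y))
      fun x => by rw [hcen, mem_subgroupOf]; exact (hEW x.2).2
  refine ⟨E, hEH, hsup, hEn, fun e he => ⟨fun g => ?_, hHp e (hEH he), ?_⟩, Or.inr hES, ?_⟩
  · have h1 := hWc e (hEW he) g
    exact ⟨zpowers_le.2 hzc h1, hZU h1, hZp _ h1⟩
  · exact hZp _ (hEW he).2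
  · refine Cfsg.Agent.S0110.result hG E hES ?_
    rw [commutator_le]
    intro g _ e he
    rw [← commutatorElement_inv]
    have h1 := hWc e (hEW he) g
    refine inv_mem ⟨hZE h1, ?_⟩
    show ⁅e, g⁆ ∈ centralizer (E : Set G)
    rw [mem_centralizer_iff]
    intro y _
    exact mem_center_iff.1 (zpowers_le.2 hzc h1) y

/-- Hall's structure theorem. -/
theorem structure_theorem (hG : IsPGroup p G)
    (hsymp : ∀ A : Subgroup G, A.Characteristic → IsMulCommutative A → IsCyclic A) :
    ∃ E R : Subgroup G, (∀ e ∈ E, ∀ r ∈ R, e * r = r * e) ∧ E ⊔ R = ⊤ ∧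
      (E = ⊥ ∨ Cfsg.IsExtraspecial p ↥E) ∧ (IsCyclic R ∨ (p = 2 ∧ 16 ≤ Nat.card R ∧
        ((∃ m : ℕ, Nonempty (↥R ≃* DihedralGroup m)) ∨ (∃ m : ℕ, Nonempty (↥R ≃* QuaternionGroup m))
          ∨ Cfsg.IsQuasiDihedral ↥R))) := by
  classical
  obtain ⟨H, hH, hmax⟩ := exists_maximal_crit hG
  obtain ⟨E, hEH, hsup, hEn, hE, hES, hER⟩ := exists_decomp hG hsymp hH
  obtain ⟨hHc, hHco, hHp, hCH⟩ := hH
  set U := centralizer (H : Set G) with hUdef
  set R := centralizer (E : Set G) with hRdef
  refine ⟨E, R, fun e he r hr => mem_centralizer_iff.1 hr e he, hER, hES, ?_⟩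
  have hUc : U.Characteristic := inferInstance
  have hUn : U.Normal := normal_of_characteristic U
  have hUR : U ≤ R := centralizer_le hEH
  have hUab : IsMulCommutative U := by
    rw [← le_centralizer_iff_isMulCommutative]
    exact le_centralizer_iff.1 (centralizer_le (hCH : (U : Set G) ⊆ H))
  have hUcyc := hsymp U hUc hUab
  have hself : ∀ r ∈ R, r ∈ centralizer (U : Set G) → r ∈ U := by
    intro r hr hrU
    show r ∈ centralizer (H : Set G)
    rw [← hsup, ← zpowers_le, le_centralizer_iff]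
    exact sup_le (le_centralizer_iff.1 (zpowers_le.2 hr)) (le_centralizer_iff.1 (zpowers_le.2 hrU))
  by_cases hab : IsMulCommutative R
  · have : R = U := le_antisymm (fun r hr => hself r hr (centralizer_le hUR
      (le_centralizer_iff_isMulCommutative.2 hab hr))) hUR
    exact Or.inl (this ▸ hUcyc)
  obtain ⟨u, hu⟩ := (Subgroup.isCyclic_iff_exists_zpowers_eq_top U).1 hUcyc
  have huU : u ∈ U := hu ▸ mem_zpowers u
  set u' : R := ⟨u, hUR huU⟩
  have hzu : zpowers u' = U.subgroupOf R := by
    ext ⟨x, hx⟩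
    rw [mem_subgroupOf, mem_zpowers_iff, ← hu, mem_zpowers_iff]
    exact exists_congr fun k => Subtype.ext_iff
  obtain ⟨n, hn⟩ := IsPGroup.iff_orderOf.1 hG u
  have hn' : orderOf u' = p ^ n := by rw [← orderOf_coe]; exact hn
  obtain ⟨hn2, hd⟩ := CfsgLib.PGroup.SelfCent.dichotomy (hG.to_subgroup R) hab
    (hzu ▸ hUn.subgroupOf R) hn' (by
      refine le_antisymm (fun x hx => ?_) (fun x hx => ?_)
      · rw [hzu, mem_subgroupOf]
        refine hself x x.2 ?_
        rw [← hu, CfsgLib.PGroup.SelfCent.mem_centralizer_zpowers]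
        exact congrArg Subtype.val (CfsgLib.PGroup.SelfCent.mem_centralizer_zpowers.1 hx)
      · rw [CfsgLib.PGroup.SelfCent.mem_centralizer_zpowers]
        obtain ⟨i, rfl⟩ := mem_zpowers_iff.1 hx
        rw [(Commute.zpow_self u' i).eq, mul_inv_cancel_right])
  set U1 := zpowers (u ^ p) with hU1
  have hU1U : U1 ≤ U := zpowers_le.2 (pow_mem huU p)
  have hU1c : U1.Characteristic := by
    rw [characteristic_iff_map_le]
    intro φ
    rw [hU1, MonoidHom.map_zpowers, zpowers_le, map_pow]
    have h1 : φ u ∈ U := (characteristic_iff_map_le.1 hUc φ) ⟨u, huU, rfl⟩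
    obtain ⟨j, hj⟩ := mem_zpowers_iff.1 (hu ▸ h1)
    refine ⟨j, ?_⟩
    show (u ^ p) ^ j = (φ.toMonoidHom u) ^ p
    rw [show φ.toMonoidHom u = φ u from rfl, ← hj, ← zpow_natCast u, ← zpow_natCast (u ^ j),
      ← zpow_mul, ← zpow_mul, mul_comm]
  have hU1n : U1.Normal := normal_of_characteristic U1
  have hsmallU : ∀ x ∈ U, x ^ p = 1 → x ∈ U1 := by
    intro x hx hxp
    obtain ⟨i, rfl⟩ := mem_zpowers_iff.1 (hu ▸ hx)
    rw [← zpow_natCast, ← zpow_mul, CfsgLib.PGroup.SelfCent.dvd_iff hn,
      show n = (n - 1) + 1 by omega, pow_succ] at hxp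
    obtain ⟨j, hj⟩ := (dvd_pow_self (p : ℤ) (by omega : n - 1 ≠ 0)).trans
      (Int.dvd_of_mul_dvd_mul_right (by exact_mod_cast hp.out.ne_zero) hxp)
    exact ⟨j, by show (u ^ p) ^ j = u ^ i; rw [hj, zpow_mul, zpow_natCast]⟩
  -- the elements central of exponent `p` modulo `U1`
  let π := QuotientGroup.mk' U1
  let S : Subgroup G :=
    { carrier := {x | π x ∈ center (G ⧸ U1) ∧ π x ^ p = 1}
      one_mem' := by simp
      mul_mem' := by
        rintro x y ⟨hx, hx'⟩ ⟨hy, hy'⟩
        refine ⟨by rw [map_mul]; exact mul_mem hx hy, ?_⟩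
        rw [map_mul, (show Commute (π x) (π y) from (mem_center_iff.1 hx _).symm).mul_pow, hx', hy',
          one_mul]
      inv_mem' := by
        rintro x ⟨hx, hx'⟩
        refine ⟨by rw [map_inv]; exact inv_mem hx, ?_⟩
        rw [map_inv, inv_pow, hx', inv_one] }
  have hmemS : ∀ x : G, x ∈ S ↔ (∀ g : G, ⁅x, g⁆ ∈ U1) ∧ x ^ p ∈ U1 := by
    intro x
    refine and_congr ?_ ?_
    · rw [mem_center_iff, (QuotientGroup.mk'_surjective U1).forall]
      refine forall_congr' fun g => ?_
      rw [eq_comm, ← commutatorElement_eq_one_iff_mul_comm, ← map_commutatorElement,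
        QuotientGroup.mk'_apply, QuotientGroup.eq_one_iff]
    · rw [← map_pow, QuotientGroup.mk'_apply, QuotientGroup.eq_one_iff]
  have huS : u ∈ S := by
    have hup : (π u) ^ p = 1 := by
      rw [← map_pow, QuotientGroup.mk'_apply, QuotientGroup.eq_one_iff]; exact mem_zpowers _
    have hc : π u ∈ center (G ⧸ U1) := by
      refine mem_center_of_normal_zpowers (hG.to_quotient U1) ?_ hup
      rw [← MonoidHom.map_zpowers, hu]
      exact hUn.map _ (QuotientGroup.mk'_surjective U1)
    exact ⟨hc, hup⟩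
  have hES' : E ≤ S := fun e he => by
    obtain ⟨h1, h2, h3⟩ := hE e he
    exact (hmemS e).2 ⟨fun g => hsmallU _ (h1 g).2.1 (h1 g).2.2, hsmallU _ h2 h3⟩
  have hEN : E ≤ centralizer (U1 : Set G) := by
    refine fun e he => mem_centralizer_iff.2 fun y hy => ?_
    exact (mem_centralizer_iff.1 (hU1U hy) e (hEH he)).symm
  -- an element extending `H` contradicts maximality
  have hcontra : ∀ a : R, (a : G) ∉ U → (a : G) ∈ centralizer (U1 : Set G) → (a : G) ^ p ∈ U1 →
      (∀ g : R, ⁅(a : G), (g : G)⁆ ∈ U1) →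
      (∀ r ∈ R, r ∈ centralizer (U1 : Set G) → r ∈ U ⊔ zpowers (a : G)) → False := by
    intro a haU haN hap hac hgen
    set N := centralizer (U1 : Set G) with hN
    have haS : (a : G) ∈ S := by
      refine (hmemS a).2 ⟨fun g => ?_, hap⟩
      have hle : E ⊔ R ≤ (centralizer ({π (a : G)} : Set (G ⧸ U1))).comap π := by
        refine sup_le (fun x hx => ?_) fun x hx => ?_ <;>
          rw [mem_comap, mem_centralizer_singleton_iff]
        · rw [← map_mul, ← map_mul, mem_centralizer_iff.1 a.2 x hx]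
        · rw [eq_comm, ← commutatorElement_eq_one_iff_mul_comm, ← map_commutatorElement,
            QuotientGroup.mk'_apply, QuotientGroup.eq_one_iff]
          exact hac ⟨x, hx⟩
      have hg := hle (hER.symm ▸ mem_top g)
      rw [mem_comap, mem_centralizer_singleton_iff, eq_comm, ← commutatorElement_eq_one_iff_mul_comm,
        ← map_commutatorElement, QuotientGroup.mk'_apply, QuotientGroup.eq_one_iff] at hg
      exact hg
    have hNS : N ≤ S := by
      intro x hx
      obtain ⟨e, he, r, hr, rfl⟩ := mem_sup_of_normal_left (s := E).1 (hER.symm ▸ mem_top x)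
      have hrN : r ∈ N := (N.mul_mem_cancel_left (hEN he)).1 hx
      refine S.mul_mem (hES' he) ?_
      have : U ⊔ zpowers (a : G) ≤ S := sup_le (hu ▸ zpowers_le.2 huS) (zpowers_le.2 haS)
      exact this (hgen r hr hrN)
    have hHN : H ≤ N := le_centralizer_iff.1 hU1U
    have hU1N : U1 ≤ N := hU1U.trans (hCH.trans hHN)
    have hU1CN : U1 ≤ centralizer (N : Set G) := le_centralizer_iff.1 le_rfl
    have hNcrit : Crit p N := by
      refine ⟨inferInstance, fun h hh g => ?_, fun h hh => hU1CN ((hmemS h).1 (hNS hh)).2,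
        (centralizer_le hHN).trans (hCH.trans hHN)⟩
      have := ((hmemS h).1 (hNS hh)).1 g
      exact ⟨hU1N this, hU1CN this⟩
    have haH : (a : G) ∈ H := hmax N hNcrit hHN haN
    refine haU (hself a a.2 ?_)
    rw [mem_centralizer_iff]
    intro y hy
    exact (mem_centralizer_iff.1 hy a haH).symm
  have hUp : ∀ r : R, (r : G) ∉ U → (r : G) ^ p ∈ U → (r : G) ^ p ∈ U1 := by
    intro r hrU hrp
    obtain ⟨i, hi⟩ := mem_zpowers_iff.1 (hu ▸ hrp)
    by_cases hpi : (p : ℤ) ∣ i
    · obtain ⟨j, rfl⟩ := hpi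
      exact ⟨j, by show (u ^ p) ^ j = (r : G) ^ p; rw [← hi, zpow_mul, zpow_natCast]⟩
    exfalso
    refine hrU (hself r r.2 ?_)
    obtain ⟨α, β, hαβ⟩ : IsCoprime ((p : ℤ) ^ n) i :=
      IsCoprime.pow_left ((Nat.prime_iff_prime_int.1 hp.out).coprime_iff_not_dvd.2 hpi)
    have h1 : u ^ (1 : ℤ) = u ^ (i * β) :=
      CfsgLib.PGroup.SelfCent.zpow_congr hn ⟨α, by linear_combination -hαβ⟩
    rw [zpow_one, zpow_mul, hi] at h1
    rw [← hu, CfsgLib.PGroup.SelfCent.mem_centralizer_zpowers, h1,
      (((Commute.refl (r : G)).pow_right p).zpow_right β).eq, mul_inv_cancel_right]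
  rcases hd with ⟨hp2, hcard, htype⟩ | ⟨hrel, hAel, hAcard, hAchar⟩
  · by_cases hn3 : 3 ≤ n
    · refine Or.inr ⟨hp2, ?_, htype⟩
      rw [hcard]
      exact (show (16 : ℕ) = 2 ^ 4 by rfl) ▸ Nat.pow_le_pow_right two_pos (by omega)
    exfalso
    obtain rfl : n = 2 := by omega
    subst hp2
    have hidx : (U.subgroupOf R).index = 2 := by
      have h := (zpowers u').card_mul_index
      rw [Nat.card_zpowers, hn', hcard, hzu] at h
      omega
    obtain ⟨a, ha⟩ : ∃ a : R, a ∉ U.subgroupOf R := by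
      by_contra h
      push Not at h
      rw [(eq_top_iff.2 fun x _ => h x : U.subgroupOf R = ⊤), index_top] at hidx
      omega
    rw [mem_subgroupOf] at ha
    have hgenR : ∀ r : R, (r : G) ∈ U ⊔ zpowers (a : G) := by
      intro r
      by_cases hr : (r : G) ∈ U
      · exact mem_sup_left hr
      · have h := (mul_mem_iff_of_index_two hidx (a := r) (b := a⁻¹)).2 (by
          simp only [mem_subgroupOf, Subgroup.coe_inv, inv_mem_iff]; tauto)
        rw [mem_subgroupOf] at h
        push_cast at h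
        have := (U ⊔ zpowers (a : G)).mul_mem (mem_sup_left h) (mem_sup_right (mem_zpowers _))
        rwa [inv_mul_cancel_right] at this
    have hU1cent : U1 ≤ center G := by
      rw [hU1, zpowers_le]
      refine mem_center_of_normal_zpowers hG hU1n ?_
      rw [← pow_mul, show 2 * 2 = 2 ^ 2 from rfl, ← hn, pow_orderOf_eq_one]
    refine hcontra a ha (le_centralizer_iff.1 (hU1cent.trans (center_le_centralizer _)) (mem_top _) |>
      fun h => h) (hUp a ha ?_) (fun g => ?_) fun r hr _ => hgenR ⟨r, hr⟩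
    · have h := sq_mem_of_index_two hidx a
      rwa [mem_subgroupOf] at h
    · have hle : U ⊔ zpowers (a : G) ≤ (centralizer ({π (a : G)} : Set (G ⧸ U1))).comap π := by
        refine sup_le (hu ▸ zpowers_le.2 ?_) (zpowers_le.2 ?_) <;>
          rw [mem_comap, mem_centralizer_singleton_iff]
        exact (mem_center_iff.1 huS.1 _).symm
      have hg := hle (hgenR g)
      rw [mem_comap, mem_centralizer_singleton_iff, eq_comm, ← commutatorElement_eq_one_iff_mul_comm,
        ← map_commutatorElement, QuotientGroup.mk'_apply, QuotientGroup.eq_one_iff] at hg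
      exact hg
  · exfalso
    set M := centralizer (zpowers (u' ^ p) : Set R) with hM
    set A := Cfsg.omegaOne p M with hA
    have hAM : A ≤ M := (closure_le _).2 fun x hx => hx.1
    have hAn : A.Normal := normal_of_characteristic A
    set z' : R := u' ^ (p ^ (n - 1))
    have hz'p : z' ^ p = 1 := by
      rw [← pow_mul, ← pow_succ, show n - 1 + 1 = n by omega, ← hn', pow_orderOf_eq_one]
    have hz'n : (zpowers z').Normal := by
      refine ⟨fun x hx g => ?_⟩
      obtain ⟨i, rfl⟩ := mem_zpowers_iff.1 hx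
      have hu'n : (zpowers u').Normal := hzu ▸ hUn.subgroupOf R
      obtain ⟨r, hr⟩ := mem_zpowers_iff.1 (hu'n.conj_mem u' (mem_zpowers u') g)
      refine ⟨r * i, ?_⟩
      show (u' ^ (p ^ (n - 1))) ^ (r * i) = g * (u' ^ (p ^ (n - 1))) ^ i * g⁻¹
      rw [← conj_zpow, ← conj_pow, ← hr, ← zpow_natCast (u' ^ r), ← zpow_natCast u', ← zpow_mul,
        ← zpow_mul, ← zpow_mul]
      ring_nf
    have hlt : zpowers z' < A := by
      refine lt_of_le_of_ne (zpowers_le.2 (subset_closure ⟨?_, hz'p⟩)) fun h => ?_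
      · rw [hM, CfsgLib.PGroup.SelfCent.mem_centralizer_zpowers,
          ((Commute.refl u').pow_pow (p ^ (n - 1)) p).eq, mul_inv_cancel_right]
      · have h1 : Nat.card A ≤ p := by
          rw [← h, Nat.card_zpowers]
          exact Nat.le_of_dvd hp.out.pos (orderOf_dvd_of_pow_eq_one hz'p)
        rw [hAcard] at h1
        have := hp.out.two_le
        nlinarith
    obtain ⟨a, haA, haz, -, hac⟩ := exists_step (hG.to_subgroup R) (zpowers z') A hlt
    have hz'U1 : ∀ w ∈ zpowers z', (w : G) ∈ U1 := by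
      intro w hw
      obtain ⟨i, rfl⟩ := mem_zpowers_iff.1 hw
      refine hsmallU _ ?_ ?_
      · rw [Subgroup.coe_zpow, Subgroup.coe_pow]
        exact zpow_mem (pow_mem huU _) i
      · rw [← Subgroup.coe_pow, ← zpow_natCast, ← zpow_mul, mul_comm, zpow_mul, zpow_natCast, hz'p,
          one_zpow, OneMemClass.coe_one]
    have haU : (a : G) ∉ U := by
      intro h
      obtain ⟨i, hi⟩ := mem_zpowers_iff.1 (hzu ▸ (mem_subgroupOf.2 h) : a ∈ zpowers u')
      have := hAel.2 a haA
      rw [← hi, ← zpow_natCast, ← zpow_mul, CfsgLib.PGroup.SelfCent.dvd_iff hn',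
        show n = (n - 1) + 1 by omega, pow_succ] at this
      obtain ⟨j, hj⟩ := Int.dvd_of_mul_dvd_mul_right (by exact_mod_cast hp.out.ne_zero) this
      refine haz ⟨j, ?_⟩
      show (u' ^ (p ^ (n - 1))) ^ j = a
      rw [← hi, hj, ← zpow_natCast u', ← zpow_mul]
      push_cast; rfl
    have hMiff : ∀ r : R, r ∈ M ↔ (r : G) ∈ centralizer (U1 : Set G) := by
      intro r
      rw [hM, CfsgLib.PGroup.SelfCent.mem_centralizer_zpowers, hU1,
        CfsgLib.PGroup.SelfCent.mem_centralizer_zpowers, Subtype.ext_iff]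
      rfl
    refine hcontra a haU ((hMiff a).1 (hAM haA)) ?_ (fun g => ?_) fun r hr hrN => ?_
    · rw [← Subgroup.coe_pow, hAel.2 a haA, OneMemClass.coe_one]; exact one_mem _
    · exact hz'U1 _ (hac g)
    · haveI hu'n : (zpowers u').Normal := hzu ▸ hUn.subgroupOf R
      have hle : zpowers u' ≤ M := zpowers_le.2 (by
        rw [hM, CfsgLib.PGroup.SelfCent.mem_centralizer_zpowers,
          ((Commute.refl u').pow_right p).eq, mul_inv_cancel_right])
      have htop : zpowers u' ⊔ zpowers a = M := by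
        refine eq_of_le_of_card_ge (sup_le hle (zpowers_le.2 (hAM haA))) ?_
        rw [card_sup_zpowers (fun h => haU (by rwa [hzu, mem_subgroupOf] at h))
          (by rw [hAel.2 a haA]; exact one_mem _), ← hrel,
          ← Nat.card_congr (subgroupOfEquivOfLe hle).toEquiv, mul_comm, relIndex, card_mul_index]
      have hmem : (⟨r, hr⟩ : R) ∈ zpowers u' ⊔ zpowers a := htop ▸ (hMiff ⟨r, hr⟩).2 hrN
      have := mem_map_of_mem R.subtype hmem
      rw [Subgroup.map_sup, MonoidHom.map_zpowers, MonoidHom.map_zpowers] at this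
      simpa [hu, u'] using this

end CfsgLib.PGroup.SympType
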