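import Cfsg.Agent.Lib.PGroup.Huppert
import Cfsg.Agent.Lib.PGroup.SmallCentralizer
import Cfsg.Agent.Lib.PGroup.OmegaRankTwo
import Cfsg.Agent.Lib.OddOrder.OmegaFix
import Cfsg.Prelude.Def_CaseTheorems
import Mathlib.Data.ZMod.Basic
import Mathlib.Algebra.Field.ZMod

/-!
`p`-groups of rank at most two, `p` odd (Blackburn): a metacyclic criterion valid for all odd `p`,
`p`-central subgroups, and the structure of non-metacyclic groups of rank two.
-/

set_option autoImplicit false

open Subgroup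
open scoped commutatorElement

namespace CfsgLib.PGroup.RankTwo

universe u

section Criterion

variable {R : Type u} [Group R] [Finite R] {p : ℕ} [hp : Fact p.Prime]

/-- `Φ = ℧₁` when `℧₁` has index at most `p²`. -/
theorem frattini_le_powerClosure (hR : IsPGroup p R)
    (hW : (Cfsg.powerClosure p 1 (⊤ : Subgroup R)).index ≤ p ^ 2) :
    frattini R ≤ Cfsg.powerClosure p 1 (⊤ : Subgroup R) := by
  have hn := powerClosure_top_normal (R := R) p 1
  set W := Cfsg.powerClosure p 1 (⊤ : Subgroup R)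
  have hpow : ∀ x : R, x ^ p ∈ W := fun x => by
    have := pow_mem_powerClosure (p := p) (n := 1) (mem_top x)
    rwa [pow_one] at this
  refine frattini_le_of_elementary (fun x y => ?_) hpow
  obtain ⟨k, hk⟩ := IsPGroup.iff_card.1 (hR.to_quotient W)
  have hk2 : k ≤ 2 := by
    rw [index_eq_card, hk] at hW
    exact (Nat.pow_le_pow_iff_right hp.out.one_lt).1 hW
  have hcomm : ∀ u v : R ⧸ W, u * v = v * u := by
    interval_cases k
    · have : Subsingleton (R ⧸ W) := (Nat.card_eq_one_iff_unique.1 (by rw [hk, pow_zero])).1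
      exact fun u v => Subsingleton.elim _ _
    · have := isCyclic_of_prime_card (p := p) (by rw [hk, pow_one] : Nat.card (R ⧸ W) = p)
      exact fun u v => (IsCyclic.isMulCommutative).is_comm.comm u v
    · exact fun u v => (IsPGroup.isMulCommutative_of_card_eq_prime_sq hk).is_comm.comm u v
  rw [← QuotientGroup.eq_one_iff, ← QuotientGroup.mk'_apply (N := W), map_commutatorElement,
    commutatorElement_eq_one_iff_mul_comm]
  exact hcomm _ _

/-- An element outside the Frattini subgroup extends to a generating pair. -/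
theorem exists_pair (hR : IsPGroup p R)
    (hW : (Cfsg.powerClosure p 1 (⊤ : Subgroup R)).index ≤ p ^ 2) {x : R}
    (hx : x ∉ frattini R) : ∃ y : R, zpowers x ⊔ zpowers y = ⊤ := by
  have hΦ := frattini_le_powerClosure hR hW
  have hWΦ : Cfsg.powerClosure p 1 (⊤ : Subgroup R) ≤ frattini R := by
    rw [Cfsg.powerClosure, Subgroup.closure_le]
    rintro _ ⟨z, -, rfl⟩
    rw [pow_one]
    exact pow_mem_frattini hR z
  rw [le_antisymm hWΦ hΦ] at hW
  set S := frattini R ⊔ zpowers x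
  by_cases hS : S = ⊤
  · exact ⟨1, by
      rw [zpowers_one_eq_bot, sup_bot_eq]
      exact frattini_nongenerating (by rwa [sup_comm])⟩
  obtain ⟨y, hy⟩ : ∃ y, y ∉ S := by
    by_contra hall
    push Not at hall
    exact hS (eq_top_iff.2 fun z _ => hall z)
  refine ⟨y, frattini_nongenerating ?_⟩
  set T := zpowers x ⊔ zpowers y ⊔ frattini R
  have hST : S < T := lt_of_le_of_ne (sup_le le_sup_right (le_sup_left.trans le_sup_left))
    fun e => hy (e ▸ mem_sup_left (mem_sup_right (mem_zpowers y)))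
  have hFS : frattini R < S := lt_of_le_of_ne le_sup_left
    fun e => hx (e ▸ mem_sup_right (mem_zpowers x))
  have step : ∀ A B : Subgroup R, A < B → p * B.index ≤ A.index := by
    intro A B hAB
    rw [← relIndex_mul_index hAB.le]
    refine Nat.mul_le_mul_right _ ?_
    obtain ⟨k, hk⟩ := (Nat.dvd_prime_pow hp.out).1
      ((relIndex_dvd_card (H := A) (K := B)).trans
        (IsPGroup.iff_card.1 (hR.to_subgroup B)).choose_spec.dvd) |>.imp fun _ => And.right
    have : k ≠ 0 := fun e => hAB.not_ge (relIndex_eq_one.1 (by rw [hk, e, pow_zero]))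
    rw [hk]
    exact Nat.le_self_pow this p
  have h1 := step _ _ hFS
  have h2 := step _ _ hST
  refine index_eq_one.1 (le_antisymm ?_ (Nat.pos_of_ne_zero index_ne_zero_of_finite))
  have h4 : p ^ 2 * T.index ≤ p ^ 2 * 1 := by
    calc p ^ 2 * T.index = p * (p * T.index) := by ring
      _ ≤ p * S.index := Nat.mul_le_mul_left _ h2
      _ ≤ (frattini R).index := h1
      _ ≤ p ^ 2 * 1 := by rwa [mul_one]
  exact Nat.le_of_mul_le_mul_left h4 (pow_pos hp.out.pos 2)

/-- An exponent-`p` derived subgroup inside `℧₁` is central, `p` odd. -/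
theorem lcs_two_eq_bot (hp2 : p ≠ 2) (hR : IsPGroup p R)
    (hexp : ∀ x ∈ commutator R, x ^ p = 1)
    (hle : commutator R ≤ Cfsg.powerClosure p 1 (⊤ : Subgroup R)) :
    (⊤ : Subgroup R).lowerCentralSeries 2 = ⊥ := by
  set L2 := (⊤ : Subgroup R).lowerCentralSeries 2 with hL2
  set L3 := (⊤ : Subgroup R).lowerCentralSeries 3 with hL3
  have hLn : L3.Normal := inferInstance
  set π := QuotientGroup.mk' L3
  have hL1 : (⊤ : Subgroup R).lowerCentralSeries 1 = commutator R := Subgroup.top_lowerCentralSeries_one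
  have h21 : L2 ≤ commutator R := hL1 ▸ Subgroup.lowerCentralSeries_antitone _ (by norm_num)
  obtain ⟨m, hm⟩ : p ∣ p.choose 2 := hp.out.dvd_choose_self two_ne_zero
    (lt_of_le_of_ne hp.out.two_le hp2.symm)
  -- `p`-th powers are central modulo `L3`
  have hcen : ∀ x ∈ Cfsg.powerClosure p 1 (⊤ : Subgroup R), π x ∈ center (R ⧸ L3) := by
    intro x hx
    refine (show Cfsg.powerClosure p 1 (⊤ : Subgroup R) ≤ (center (R ⧸ L3)).comap π from ?_) hx
    rw [Cfsg.powerClosure, closure_le]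
    rintro _ ⟨x, -, rfl⟩
    rw [SetLike.mem_coe, mem_comap, mem_center_iff, pow_one]
    intro q
    obtain ⟨y, rfl⟩ := QuotientGroup.mk'_surjective L3 q
    set d := x⁻¹ * (y * x * y⁻¹) with hd
    have hdD : d ∈ commutator R := by
      have : d = ⁅x⁻¹, y⁆ := by simp only [hd, commutatorElement_def]; group
      rw [this]
      exact commutator_mem_commutator (mem_top _) (mem_top _)
    have hc : ⁅d, x⁆ ∈ L2 := by
      rw [hL2, Subgroup.lowerCentralSeries_succ, hL1]
      exact commutator_mem_commutator hdD (mem_top _)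
    have hcc : ∀ g : R, Commute (π ⁅d, x⁆) (π g) := fun g => by
      refine commutatorElement_eq_one_iff_commute.1 ?_
      rw [← map_commutatorElement, QuotientGroup.mk'_apply, QuotientGroup.eq_one_iff, hL3,
        Subgroup.lowerCentralSeries_succ]
      exact commutator_mem_commutator hc (mem_top _)
    have h1 := CfsgLib.OddOrder.mul_pow_of_central_commutator
      (show π d * π x = π ⁅d, x⁆ * (π x * π d) by
        rw [← map_mul, ← map_mul, ← map_mul, commutatorElement_def]; group)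
      (hcc x) (hcc d) p
    rw [hm, pow_mul, ← map_pow π ⁅d, x⁆, hexp _ (h21 hc), map_one, one_pow, one_mul, ← map_pow π d,
      hexp _ hdD, map_one, mul_one, ← map_mul, hd, mul_inv_cancel_left, ← map_pow, conj_pow,
      map_mul, map_mul, map_inv, ← map_pow] at h1
    exact mul_inv_eq_iff_eq_mul.1 h1
  -- hence `L2 ≤ L3`
  have h23 : L2 ≤ L3 := by
    rw [hL2, Subgroup.lowerCentralSeries_succ, hL1, Subgroup.commutator_le]
    intro c hc g _
    rw [← QuotientGroup.eq_one_iff, ← QuotientGroup.mk'_apply (N := L3), map_commutatorElement,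
      commutatorElement_eq_one_iff_mul_comm]
    exact (mem_center_iff.1 (hcen c (hle hc)) _).symm
  have hst : ∀ j, L2 ≤ (⊤ : Subgroup R).lowerCentralSeries (2 + j) := by
    intro j
    induction j with
    | zero => exact le_rfl
    | succ j ihj =>
      refine h23.trans ?_
      rw [hL3, Subgroup.lowerCentralSeries_succ, ← add_assoc, Subgroup.lowerCentralSeries_succ]
      exact commutator_mono ihj le_rfl
  obtain ⟨j, hj⟩ := Subgroup.nilpotent_iff_lowerCentralSeries.1 hR.isNilpotent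
  exact le_bot_iff.1 ((hst j).trans (hj ▸ Subgroup.lowerCentralSeries_antitone _ (by omega)))

/-- `℧₁` of index at most `p²` gives a cyclic derived subgroup, `p` odd. -/
theorem commutator_isCyclic_of_index_le (hp2 : p ≠ 2) (hR : IsPGroup p R)
    (hW : (Cfsg.powerClosure p 1 (⊤ : Subgroup R)).index ≤ p ^ 2) : IsCyclic (commutator R) := by
  set D := commutator R with hD
  by_cases hD1 : Nontrivial D
  swap
  · rw [not_nontrivial_iff_subsingleton] at hD1
    exact isCyclic_of_subsingleton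
  set K := (frattini D).map D.subtype with hK
  have hKD : K ≤ D := map_subtype_le _
  have hKn : K.Normal := by
    have : (frattini D).Characteristic := inferInstance
    rw [hK]; infer_instance
  set π := QuotientGroup.mk' K
  have hQD : commutator (R ⧸ K) = D.map π := by
    rw [hD, _root_.commutator_def, ← Subgroup.map_top_of_surjective _ (QuotientGroup.mk'_surjective K),
      ← Subgroup.map_commutator, ← _root_.commutator_def]
  have hexp : ∀ q ∈ commutator (R ⧸ K), q ^ p = 1 := by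
    rw [hQD]
    rintro _ ⟨d, hd, rfl⟩
    rw [← map_pow, QuotientGroup.mk'_apply, QuotientGroup.eq_one_iff, hK]
    exact ⟨(⟨d, hd⟩ : D) ^ p, pow_mem_frattini (hR.to_subgroup D) _, rfl⟩
  have hle : commutator (R ⧸ K) ≤ Cfsg.powerClosure p 1 (⊤ : Subgroup (R ⧸ K)) := by
    rw [hQD, map_le_iff_le_comap]
    refine ((commutator_le_frattini hR).trans (frattini_le_powerClosure hR hW)).trans ?_
    rw [Cfsg.powerClosure, closure_le]
    rintro _ ⟨x, -, rfl⟩
    rw [SetLike.mem_coe, mem_comap, map_pow]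
    exact pow_mem_powerClosure (mem_top _)
  have hL2 := lcs_two_eq_bot hp2 (hR.to_quotient K) hexp hle
  obtain ⟨a, b, hab⟩ : ∃ a b : R, zpowers a ⊔ zpowers b = ⊤ := by
    have : Nontrivial R := D.subtype_injective.nontrivial
    obtain ⟨x, hx⟩ : ∃ x : R, x ∉ frattini R := by
      by_contra hall
      push Not at hall
      exact frattini_ne_top (G := R) (eq_top_iff.2 fun z _ => hall z)
    exact ⟨x, exists_pair hR hW hx⟩
  have hpair : closure ({π a, π b} : Set (R ⧸ K)) = ⊤ := by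
    rw [eq_top_iff, ← Subgroup.map_top_of_surjective _ (QuotientGroup.mk'_surjective K), ← hab,
      Subgroup.map_sup, MonoidHom.map_zpowers, MonoidHom.map_zpowers]
    exact sup_le (zpowers_le.2 (subset_closure (by simp [π]))) (zpowers_le.2 (subset_closure (by simp [π])))
  have hcent : commutator (R ⧸ K) ≤ center (R ⧸ K) := fun c hc => by
    rw [mem_center_iff]
    intro g
    have : ⁅c, g⁆ = 1 := by
      rw [← mem_bot, ← hL2, Subgroup.lowerCentralSeries_succ, Subgroup.top_lowerCentralSeries_one]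
      exact commutator_mem_commutator hc (mem_top g)
    exact (commutatorElement_eq_one_iff_mul_comm.1 this).symm
  have hmem : ⁅π a, π b⁆ ∈ commutator (R ⧸ K) := commutator_mem_commutator (mem_top _) (mem_top _)
  have hcz : commutator (R ⧸ K) ≤ zpowers ⁅π a, π b⁆ := by
    have h1 := commutator_closure_pair_le (a := π a) (b := π b) (N := zpowers ⁅π a, π b⁆)
      (fun g _ n hn => by
        rw [mem_center_iff.1 (zpowers_le.2 (hcent hmem) hn) g, mul_inv_cancel_right]
        exact hn) (mem_zpowers _)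
    rw [hpair] at h1
    rwa [_root_.commutator_def]
  have hA : Nat.card (commutator (R ⧸ K)) ≤ p := by
    refine (card_le_of_le hcz).trans ?_
    rw [Nat.card_zpowers]
    exact Nat.le_of_dvd hp.out.pos (orderOf_dvd_of_pow_eq_one (hexp _ hmem))
  have hidx : (frattini D).index ≤ p := by
    refine le_trans (le_of_eq ?_) hA
    rw [hQD, ← relIndex_ker (f := π) (K := D), QuotientGroup.ker_mk', relIndex]
    congr 1
    exact (comap_map_eq_self_of_injective D.subtype_injective _).symm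
  rw [isCyclic_iff_exists_zpowers_eq_top]
  obtain ⟨x, hx⟩ : ∃ x : D, x ∉ frattini D := by
    by_contra hall
    push Not at hall
    exact frattini_ne_top (G := D) (eq_top_iff.2 fun z _ => hall z)
  refine ⟨x, frattini_nongenerating ?_⟩
  rw [← index_eq_one]
  have hd : (zpowers x ⊔ frattini D).index ∣ (frattini D).index := index_dvd_of_le le_sup_right
  obtain ⟨k, hk⟩ := (hR.to_subgroup D).index (frattini D)
  have hk1 : k ≤ 1 := by
    rw [hk] at hidx
    exact (Nat.pow_le_pow_iff_right hp.out.one_lt).1 (by rwa [pow_one])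
  rcases Nat.le_one_iff_eq_zero_or_eq_one.1 hk1 with rfl | rfl
  · rw [pow_zero] at hk; exact Nat.dvd_one.1 (hk ▸ hd)
  · rw [pow_one] at hk
    refine ((Nat.dvd_prime hp.out).1 (hk ▸ hd)).resolve_right fun e => hx ?_
    have h2 : frattini D = zpowers x ⊔ frattini D := eq_of_le_of_card_ge le_sup_right (by
      have h1 := (zpowers x ⊔ frattini D).card_mul_index
      rw [e, ← (frattini D).card_mul_index, hk] at h1
      exact (Nat.eq_of_mul_eq_mul_right hp.out.pos h1).le)
    rw [h2]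
    exact mem_sup_left (mem_zpowers x)

/-- Blackburn's criterion: for odd `p`, a `p`-group with `[R : ℧₁(R)] ≤ p²` is metacyclic. -/
theorem isMetacyclic_of_index_le (hp2 : p ≠ 2) (hR : IsPGroup p R)
    (hW : (Cfsg.powerClosure p 1 (⊤ : Subgroup R)).index ≤ p ^ 2) : Cfsg.IsMetacyclic R := by
  have hD := commutator_isCyclic_of_index_le hp2 hR hW
  have h1 := firstPowerCondition_of_cyclic_commutator
    (lt_of_le_of_ne hp.out.two_le hp2.symm) hR hD
  have hΦ := frattini_le_powerClosure hR hW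
  obtain ⟨c, hc⟩ := (Subgroup.isCyclic_iff_exists_zpowers_eq_top _).1 hD
  by_cases hR1 : Nontrivial R
  swap
  · rw [not_nontrivial_iff_subsingleton] at hR1
    exact ⟨⊥, inferInstance, inferInstance, isCyclic_of_subsingleton⟩
  obtain ⟨x, hxΦ, hcx⟩ : ∃ x : R, x ∉ frattini R ∧ c ∈ zpowers x := by
    obtain ⟨x₀, hx₀⟩ : ∃ x : R, x ∉ frattini R := by
      by_contra hall
      push Not at hall
      exact frattini_ne_top (G := R) (eq_top_iff.2 fun z _ => hall z)
    by_cases hc1 : c = 1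
    · exact ⟨x₀, hx₀, hc1 ▸ one_mem _⟩
    obtain ⟨x, hcx, hmax⟩ :=
      Set.exists_max_image {x : R | c ∈ zpowers x} orderOf (Set.toFinite _) ⟨c, mem_zpowers c⟩
    refine ⟨x, fun hxΦ => ?_, hcx⟩
    obtain ⟨y, -, rfl⟩ := exists_pow_of_mem_powerClosure hR h1 1 _ (hΦ hxΦ)
    rw [pow_one] at hcx hxΦ hmax
    have hy1 : y ≠ 1 := fun e => hc1 (by
      rw [e] at hcx
      simpa using hcx)
    have hle := hmax y (show c ∈ zpowers y from
      zpowers_le.2 (pow_mem (mem_zpowers y) p) hcx)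
    rw [orderOf_pow' y hp.out.ne_zero,
      Nat.gcd_eq_right (hR.dvd_orderOf hy1)] at hle
    exact absurd hle (not_le.2 (Nat.div_lt_self (orderOf_pos y) hp.out.one_lt))
  obtain ⟨y, hy⟩ := exists_pair hR hW hxΦ
  have hDx : commutator R ≤ zpowers x := hc ▸ zpowers_le.2 hcx
  have hN : (zpowers x).Normal := ⟨fun m hm g => by
    have : ⁅g, m⁆ * m ∈ zpowers x :=
      (zpowers x).mul_mem (hDx (commutator_mem_commutator (mem_top g) (mem_top m))) hm
    rwa [commutatorElement_def, inv_mul_cancel_right] at this⟩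
  refine ⟨zpowers x, hN, inferInstance, isCyclic_iff_exists_zpowers_eq_top.2
    ⟨QuotientGroup.mk' (zpowers x) y, ?_⟩⟩
  rw [← MonoidHom.map_zpowers, ← Subgroup.map_top_of_surjective _
    (QuotientGroup.mk'_surjective (zpowers x)), ← hy, Subgroup.map_sup,
    QuotientGroup.map_mk'_self, bot_sup_eq]

end Criterion

section PCentral

variable {p : ℕ} [hp : Fact p.Prime]

/-- In a `p`-central `p`-group, `p` odd, `x ^ p = y ^ p` implies `(x⁻¹ y) ^ p = 1`. -/
theorem pow_eq_of_pCentral (hp2 : p ≠ 2) : ∀ (n : ℕ) (S : Type u) [Group S] [Finite S],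
    Nat.card S = n → IsPGroup p S → (∀ x : S, x ^ p = 1 → x ∈ center S) →
    ∀ x y : S, x ^ p = y ^ p → (x⁻¹ * y) ^ p = 1 := by
  intro n
  induction n using Nat.strong_induction_on with
  | _ n ih =>
  intro S _ _ hn hS hc x y hxy
  obtain ⟨m, hm⟩ : p ∣ p.choose 2 := hp.out.dvd_choose_self two_ne_zero
    (lt_of_le_of_ne hp.out.two_le hp2.symm)
  have hsub : ∀ T : Subgroup S, T ≠ ⊤ → ∀ u ∈ T, ∀ v ∈ T, u ^ p = v ^ p → (u⁻¹ * v) ^ p = 1 := by
    intro T hT u hu v hv huv
    have hlt : Nat.card T < n := hn ▸ lt_of_le_of_ne T.card_le_card_group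
      fun h => hT ((Subgroup.card_eq_iff_eq_top T).1 h)
    exact congrArg Subtype.val (ih _ hlt T rfl (hS.to_subgroup T)
      (fun z hz => mem_center_iff.2 fun g =>
        Subtype.ext (mem_center_iff.1 (hc (z : S) (congrArg Subtype.val hz)) g))
      ⟨u, hu⟩ ⟨v, hv⟩ (Subtype.ext huv))
  by_cases hcomm : Commute x y
  · rw [hcomm.inv_left.mul_pow, inv_pow, hxy, inv_mul_cancel]
  by_cases hH : closure ({x, y} : Set S) = ⊤
  swap
  · exact hsub _ hH x (subset_closure (by simp)) y (subset_closure (by simp)) hxy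
  set T := zpowers x ⊔ commutator S with hT
  have hTtop : T ≠ ⊤ := by
    intro h
    have := frattini_nongenerating (K := zpowers x)
      (top_le_iff.1 (h ▸ sup_le_sup_left (commutator_le_frattini hS) _))
    obtain ⟨i, hi⟩ := mem_zpowers_iff.1 (this ▸ mem_top y : y ∈ zpowers x)
    exact hcomm (hi ▸ Commute.self_zpow x i)
  have hyx : y * x * y⁻¹ ∈ T := by
    have : y * x * y⁻¹ = ⁅y, x⁆ * x := by simp [commutatorElement_def]
    rw [this]
    exact mul_mem (mem_sup_right (commutator_mem_commutator (mem_top _) (mem_top _)))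
      (mem_sup_left (mem_zpowers x))
  have h1 : x ^ p = (y * x * y⁻¹) ^ p := by
    rw [conj_pow, hxy, ← pow_succ', pow_succ, mul_inv_cancel_right]
  have h2 := hsub T hTtop x (mem_sup_left (mem_zpowers x)) _ hyx h1
  set c := x⁻¹ * (y * x * y⁻¹) with hcd
  have hcc : ∀ g : S, Commute c⁻¹ g := fun g =>
    (Commute.inv_left (mem_center_iff.1 (hc c h2) g).symm)
  have hrel : y * x⁻¹ = c⁻¹ * (x⁻¹ * y) := by rw [hcd]; group
  have h3 := CfsgLib.OddOrder.mul_pow_of_central_commutator hrel (hcc x⁻¹) (hcc y) p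
  rw [h3, hm, pow_mul, inv_pow c, h2, inv_one, one_pow, one_mul, inv_pow, hxy, inv_mul_cancel]

variable {S : Type u} [Group S] [Finite S]

/-- In a `p`-central `p`-group, `p` odd, `℧₁` has index at most `|Ω₁|`. -/
theorem index_powerClosure_le (hp2 : p ≠ 2) (hS : IsPGroup p S)
    (hc : ∀ x : S, x ^ p = 1 → x ∈ center S) (E : Subgroup S)
    (hE : ∀ x : S, x ^ p = 1 → x ∈ E) :
    (Cfsg.powerClosure p 1 (⊤ : Subgroup S)).index ≤ Nat.card E := by
  set W := Cfsg.powerClosure p 1 (⊤ : Subgroup S)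
  have hpow : ∀ x : S, x ^ p ∈ W := fun x => by
    have := pow_mem_powerClosure (p := p) (n := 1) (mem_top x)
    rwa [pow_one] at this
  let R := Set.range fun x : S => x ^ p
  let r : R → S := fun w => w.2.choose
  have hr : ∀ w : R, r w ^ p = w := fun w => w.2.choose_spec
  have h1 : Nat.card S ≤ Nat.card W * Nat.card E := by
    rw [← Nat.card_prod]
    refine Nat.card_le_card_of_injective
      (fun x => (⟨x ^ p, hpow x⟩, ⟨(r ⟨x ^ p, x, rfl⟩)⁻¹ * x,
        hE _ (pow_eq_of_pCentral hp2 _ S rfl hS hc _ _ (hr ⟨x ^ p, x, rfl⟩))⟩)) fun a b h => ?_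
    simp only [Prod.mk.injEq, Subtype.mk.injEq] at h
    obtain ⟨h₁, h₂⟩ := h
    have : (⟨a ^ p, a, rfl⟩ : R) = ⟨b ^ p, b, rfl⟩ := Subtype.ext h₁
    rw [this] at h₂
    exact mul_left_cancel h₂
  rw [← W.card_mul_index] at h1
  exact Nat.le_of_mul_le_mul_left h1 Nat.card_pos

end PCentral

/-- A modular congruence of exponents of an element of order dividing `p`. -/
theorem pow_eq_pow_of_cast {G : Type*} [Group G] {p : ℕ} {z : G} (hz : z ^ p = 1) {m m' : ℕ}
    (h : (m : ZMod p) = m') : z ^ m = z ^ m' := by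
  rw [pow_eq_pow_mod m hz, pow_eq_pow_mod m' hz, (ZMod.natCast_eq_natCast_iff' m m' p).1 h]

theorem semiconj_pow {G : Type*} [Group G] {s c w : G} (h : s * c * s⁻¹ = c * w) (n : ℕ) :
    s ^ n * c = c * (w * s) ^ n := by
  have h' : SemiconjBy c (w * s) s := by
    show c * (w * s) = s * c
    rw [← mul_assoc, ← h]; group
  exact ((h'.pow_right n).eq).symm

/-- Powers of a product with a unipotent conjugation. -/
theorem mul_pow_unipotent {G : Type*} [Group G] {s w u v : G} (hw : s * w * s⁻¹ = w * u)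
    (hu : s * u * s⁻¹ = u * v) (hv : s * v * s⁻¹ = v) (hwu : Commute w u) (hwv : Commute w v)
    (huv : Commute u v) :
    ∀ n : ℕ, (w * s) ^ n = w ^ n * u ^ n.choose 2 * v ^ n.choose 3 * s ^ n
  | 0 => by simp
  | n + 1 => by
    have ih := mul_pow_unipotent hw hu hv hwu hwv huv n
    have hc : s * (w ^ n * u ^ n.choose 2 * v ^ n.choose 3) * s⁻¹ =
        (w * u) ^ n * (u * v) ^ n.choose 2 * v ^ n.choose 3 := by
      rw [← MulAut.conj_apply, map_mul, map_mul, map_pow, map_pow, map_pow, MulAut.conj_apply,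
        MulAut.conj_apply, MulAut.conj_apply, hw, hu, hv]
    have e2 : (n + 1).choose 2 = n + n.choose 2 := by
      rw [Nat.choose_succ_succ' n 1, Nat.choose_one_right]
    have e3 : (n + 1).choose 3 = n.choose 2 + n.choose 3 := Nat.choose_succ_succ' n 2
    calc (w * s) ^ (n + 1)
        = w * (s * (w ^ n * u ^ n.choose 2 * v ^ n.choose 3) * s⁻¹) * s ^ (n + 1) := by
          rw [pow_succ', ih, pow_succ']; group
      _ = w * (w ^ n * u ^ n * (u ^ n.choose 2 * v ^ n.choose 2) * v ^ n.choose 3) * s ^ (n + 1) := by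
          rw [hc, hwu.mul_pow, huv.mul_pow]
      _ = _ := by
          rw [e2, e3, pow_add u, pow_add v, pow_succ' w]
          simp only [mul_assoc]

/-- The standing data: `E` normal elementary abelian of order `p²`, `C = C_G(E)` of index `p`, all
elements of order `p` of `C` in `E`, and `⟨z₀⟩ = E ∩ Z(G)`. -/
structure Setup (G : Type u) [Group G] (p : ℕ) where
  E : Subgroup G
  C : Subgroup G
  y₀ : G
  z₀ : G
  normE : E.Normal
  normC : C.Normal
  cardE : Nat.card E = p ^ 2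
  expE : ∀ x ∈ E, x ^ p = 1
  cen : ∀ x ∈ E, ∀ c ∈ C, Commute x c
  inC : ∀ g : G, (∀ x ∈ E, Commute g x) → g ∈ C
  omega : ∀ x ∈ C, x ^ p = 1 → x ∈ E
  le : E ≤ C
  indexC : C.index = p
  z₀mem : z₀ ∈ E
  z₀central : ∀ g : G, Commute z₀ g
  z₀order : orderOf z₀ = p
  y₀mem : y₀ ∈ E
  y₀not : y₀ ∉ zpowers z₀
  gen : E ≤ closure ({y₀, z₀} : Set G)
  comm : ∀ e ∈ E, ∀ g : G, e⁻¹ * (g * e * g⁻¹) ∈ zpowers z₀

section Build

variable {G : Type u} [Group G] [Finite G] {p : ℕ} [hp : Fact p.Prime]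

/-- Any element of `E` outside `⟨z₀⟩` generates `E` with `z₀`. -/
theorem le_closure_pair {E : Subgroup G} (hcard : Nat.card E = p ^ 2) {z x : G} (hzE : z ∈ E)
    (hz : orderOf z = p) (hxE : x ∈ E) (hx : x ∉ zpowers z) : E ≤ closure ({x, z} : Set G) := by
  set H := closure ({x, z} : Set G)
  have hle : H ≤ E := (closure_le _).2 (by rintro _ (rfl | rfl) <;> assumption)
  have hzH : zpowers z ≤ H := zpowers_le.2 (subset_closure (by simp))
  obtain ⟨k, hk, hkc⟩ := (Nat.dvd_prime_pow hp.out).1 (hcard ▸ card_dvd_of_le hle)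
  interval_cases k
  · have h1 := card_le_of_le hzH
    rw [Nat.card_zpowers, hz, hkc, pow_zero] at h1
    exact absurd h1 (not_le.2 hp.out.one_lt)
  · refine absurd ?_ hx
    rw [eq_of_le_of_card_ge hzH (by rw [Nat.card_zpowers, hz, hkc, pow_one])]
    exact subset_closure (by simp)
  · exact (eq_of_le_of_card_ge hle (by rw [hcard, hkc])).ge

/-- A `p`-group of rank at most two with a noncentral normal `E ≅ p²` gives a setup. -/
theorem nonempty_setup (hR : IsPGroup p G) (hrk : Cfsg.PRankLE p 2 G) (E : Subgroup G) [E.Normal]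
    (hE : Cfsg.IsElementaryAbelian p E) (hcard : Nat.card E = p ^ 2) (hnc : ¬ E ≤ center G) :
    Nonempty (Setup G p) := by
  obtain ⟨hEc, hEe⟩ := hE
  have hne : E ≠ ⊥ := fun e => hnc (e ▸ bot_le)
  obtain ⟨B, x, hBn, hBE, hxE, hxB, hsup, hcardB, hxc⟩ := exists_normal_index_prime hR E hne
  have hBp : Nat.card B = p := by
    rw [hcard, pow_two] at hcardB
    exact (Nat.eq_of_mul_eq_mul_left hp.out.pos hcardB).symm
  have hBne : B ≠ ⊥ := fun e => by
    rw [e, card_bot] at hBp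
    exact hp.out.ne_one hBp.symm
  obtain ⟨z, hzB, hzc, hz⟩ := exists_central_orderOf_eq hR B hBne
  have hBz : zpowers z = B :=
    eq_of_le_of_card_ge (zpowers_le.2 hzB) (by rw [Nat.card_zpowers, hz, hBp])
  have hzcen : ∀ g : G, Commute z g := fun g => (mem_center_iff.1 hzc g).symm
  have hcomm : ∀ e ∈ E, ∀ g : G, e⁻¹ * (g * e * g⁻¹) ∈ zpowers z := by
    intro e he g
    rw [hBz]
    rw [← hsup, sup_comm, mem_sup_of_normal_right] at he
    obtain ⟨a, ha, b, hb, rfl⟩ := he
    obtain ⟨i, rfl⟩ := mem_zpowers_iff.1 ha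
    have hc : QuotientGroup.mk' B x ∈ center (G ⧸ B) := by
      rw [mem_center_iff]
      intro q
      obtain ⟨g', rfl⟩ := QuotientGroup.mk'_surjective B q
      rw [eq_comm, ← commutatorElement_eq_one_iff_mul_comm, ← map_commutatorElement,
        QuotientGroup.mk'_apply, QuotientGroup.eq_one_iff]
      exact hxc g'
    have hab : QuotientGroup.mk' B (x ^ i * b) ∈ center (G ⧸ B) := by
      rw [map_mul, map_zpow, (QuotientGroup.eq_one_iff b).2 hb |> (fun h => (show QuotientGroup.mk' B b = 1 from h)), mul_one]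
      exact zpow_mem hc i
    rw [← QuotientGroup.eq_one_iff, ← QuotientGroup.mk'_apply (N := B), map_mul, map_mul, map_mul,
      map_inv, map_inv, mem_center_iff.1 hab (QuotientGroup.mk' B g), mul_inv_cancel_right,
      inv_mul_cancel]
  set C := centralizer (E : Set G)
  have hgen : E ≤ closure ({x, z} : Set G) := le_closure_pair hcard (hBE hzB) hz hxE
    (by rw [hBz]; exact hxB)
  have hcx : ∀ g : G, Commute g x → g ∈ C := by
    intro g hg
    have hle : E ≤ centralizer ({g} : Set G) := hgen.trans ((closure_le _).2 (by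
      rintro _ (rfl | rfl)
      · exact mem_centralizer_singleton_iff.2 hg.symm.eq
      · exact mem_centralizer_singleton_iff.2 (hzcen g).eq))
    exact mem_centralizer_iff.2 fun e he => mem_centralizer_singleton_iff.1 (hle he)
  let f : G →* zpowers z :=
    { toFun := fun g => ⟨x⁻¹ * (g * x * g⁻¹), hcomm x hxE g⟩
      map_one' := Subtype.ext (by simp)
      map_mul' := fun g h => Subtype.ext (by
        have e : Commute (g : G) (x⁻¹ * (h * x * h⁻¹)) := by
          obtain ⟨i, hi⟩ := mem_zpowers_iff.1 (hcomm x hxE h)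
          rw [← hi]
          exact ((hzcen g).zpow_left i).symm
        show x⁻¹ * (g * h * x * (g * h)⁻¹) = x⁻¹ * (g * x * g⁻¹) * (x⁻¹ * (h * x * h⁻¹))
        calc x⁻¹ * (g * h * x * (g * h)⁻¹)
            = x⁻¹ * (g * x * (g⁻¹ * (g * (x⁻¹ * (h * x * h⁻¹))) * g⁻¹)) := by group
          _ = _ := by rw [e.eq]; group) }
  have hker : f.ker = C := by
    ext g
    rw [MonoidHom.mem_ker]
    constructor
    · intro h
      have h' : x⁻¹ * (g * x * g⁻¹) = 1 := congrArg Subtype.val h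
      exact hcx g (mul_inv_eq_iff_eq_mul.1 (inv_mul_eq_one.1 h').symm)
    · intro h
      exact Subtype.ext (show x⁻¹ * (g * x * g⁻¹) = 1 by
        rw [show g * x = x * g from ((mem_centralizer_iff.1 h) x hxE).symm]; group)
  have hidx : C.index = p := by
    have hd : C.index ∣ p := by
      rw [← hker, index_ker, ← hz, ← Nat.card_zpowers]
      exact f.range.card_subgroup_dvd_card
    refine ((Nat.dvd_prime hp.out).1 hd).resolve_left fun h => hnc ?_
    rw [index_eq_one] at h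
    intro e he
    rw [mem_center_iff]
    exact fun g => ((mem_centralizer_iff.1 (h ▸ mem_top g : g ∈ C)) e he).symm
  refine ⟨⟨E, C, x, z, inferInstance, hker ▸ inferInstance, hcard, hEe,
    fun e he c hc => (mem_centralizer_iff.1 hc) e he, fun g hg => hcx g (hg x hxE), ?_, ?_, hidx,
    hBE hzB, hzcen, hz, hxE, by rw [hBz]; exact hxB, hgen, hcomm⟩⟩
  · intro a ha hap
    by_contra haE
    set A := closure ((E : Set G) ∪ {a})
    have hcom : ∀ u ∈ ((E : Set G) ∪ {a}), ∀ v ∈ ((E : Set G) ∪ {a}), Commute u v := by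
      rintro u (hu | rfl) v (hv | rfl)
      · exact congrArg Subtype.val (hEc.is_comm.comm (⟨u, hu⟩ : E) ⟨v, hv⟩)
      · exact mem_centralizer_iff.1 ha u hu
      · exact (mem_centralizer_iff.1 ha v hv).symm
      · exact Commute.refl _
    have hAc : IsMulCommutative A := isMulCommutative_closure fun u hu v hv => hcom u hu v hv
    have hAe : ∀ u ∈ A, u ^ p = 1 := by
      intro u hu
      induction hu using closure_induction with
      | mem u hu =>
        rcases hu with hu | rfl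
        · exact hEe u hu
        · exact hap
      | one => exact one_pow p
      | mul u v hu' hv' h1 h2 =>
        rw [(show Commute u v from congrArg Subtype.val (hAc.is_comm.comm (⟨u, hu'⟩ : A) ⟨v, hv'⟩)).mul_pow,
          h1, h2, one_mul]
      | inv u _ h1 => rw [inv_pow, h1, inv_one]
    have hEA : E ≤ A := fun u hu => subset_closure (Or.inl hu)
    have heq : E = A := eq_of_le_of_card_ge hEA ((hrk A hAc hAe).trans hcard.ge)
    exact haE (heq ▸ subset_closure (Or.inr rfl))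
  · exact fun e he => mem_centralizer_iff.2 fun u hu =>
      congrArg Subtype.val (hEc.is_comm.comm (⟨u, hu⟩ : E) ⟨e, he⟩)

end Build

namespace Setup

variable {G : Type u} [Group G] [Finite G] {p : ℕ} [hp : Fact p.Prime] (D : Setup G p)

omit [Finite G] hp in
theorem pow_z₀ : D.z₀ ^ p = 1 := D.expE _ D.z₀mem

theorem one_lt : 1 < p := hp.out.one_lt

omit hp in
theorem exists_nat {e : G} (he : e ∈ zpowers D.z₀) : ∃ i : ℕ, e = D.z₀ ^ i := by
  obtain ⟨i, hi⟩ := (isOfFinOrder_of_finite D.z₀).mem_powers_iff_mem_zpowers.2 he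
  exact ⟨i, hi.symm⟩

omit [Finite G] hp in
theorem zpowers_le_E : zpowers D.z₀ ≤ D.E := zpowers_le.2 D.z₀mem

omit [Finite G] hp in
theorem commute_z₀ {e : G} (he : e ∈ zpowers D.z₀) (g : G) : Commute e g := by
  obtain ⟨i, rfl⟩ := mem_zpowers_iff.1 he
  exact (D.z₀central g).zpow_left i

omit [Finite G] hp in
theorem conjE {e : G} (he : e ∈ D.E) (g : G) : g * e * g⁻¹ ∈ D.E := D.normE.conj_mem e he g

omit [Finite G] hp in
theorem conjC {c : G} (hc : c ∈ D.C) (g : G) : g * c * g⁻¹ ∈ D.C := D.normC.conj_mem c hc g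

theorem mem_zpowers_z₀ {e g : G} (he : e ∈ D.E) (hg : g ∉ D.C) (h : Commute g e) :
    e ∈ zpowers D.z₀ := by
  by_contra hne
  refine hg (D.inC g fun x hx => ?_)
  have hle : D.E ≤ centralizer ({g} : Set G) :=
    (le_closure_pair D.cardE D.z₀mem D.z₀order he hne).trans ((closure_le _).2 (by
      rintro _ (rfl | rfl)
      · exact mem_centralizer_singleton_iff.2 h.symm.eq
      · exact mem_centralizer_singleton_iff.2 (D.z₀central g).eq))
  exact (mem_centralizer_singleton_iff.1 (hle hx)).symm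

theorem isPGroup_C (hR : IsPGroup p G) : IsPGroup p D.C := hR.to_subgroup _

omit [Finite G] hp in
theorem pCentral (x : D.C) (hx : x ^ p = 1) : x ∈ center D.C :=
  mem_center_iff.2 fun c => Subtype.ext
    ((D.cen _ (D.omega x x.2 (congrArg Subtype.val hx)) c c.2).symm.eq)

theorem pow_eq (hp2 : p ≠ 2) (hR : IsPGroup p G) {x y : G} (hx : x ∈ D.C) (hy : y ∈ D.C)
    (h : x ^ p = y ^ p) : x⁻¹ * y ∈ D.E :=
  D.omega _ (mul_mem (inv_mem hx) hy) (congrArg Subtype.val (pow_eq_of_pCentral hp2 _ D.C rfl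
    (hR.to_subgroup _) D.pCentral ⟨x, hx⟩ ⟨y, hy⟩ (Subtype.ext h)) :)

/-- An element whose `p`-th power is in `E` is central modulo `E` inside `C`. -/
theorem comm_mem (hp2 : p ≠ 2) (hR : IsPGroup p G) {x g : G} (hx : x ∈ D.C) (hg : g ∈ D.C)
    (h : x ^ p ∈ D.E) : x⁻¹ * (g * x * g⁻¹) ∈ D.E := by
  refine D.pow_eq hp2 hR hx (mul_mem (mul_mem hg hx) (inv_mem hg)) ?_
  rw [conj_pow, show g * x ^ p = x ^ p * g from ((D.cen _ h g hg).symm).eq, mul_inv_cancel_right]

theorem mul_pow_C (hp2 : p ≠ 2) (hR : IsPGroup p G) {x y : G} (hx : x ∈ D.C) (hy : y ∈ D.C)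
    (h : x ^ p ∈ D.E) : (x * y) ^ p = x ^ p * y ^ p := by
  obtain ⟨m, hm⟩ : p ∣ p.choose 2 := hp.out.dvd_choose_self two_ne_zero
    (lt_of_le_of_ne hp.out.two_le hp2.symm)
  set c := x⁻¹ * (y * x * y⁻¹) with hc
  have hcE := D.comm_mem hp2 hR hx hy h
  have hrel : y * x = c * (x * y) := by
    rw [(D.cen _ hcE _ (mul_mem hx hy)).eq, mul_assoc x y, ← (D.cen _ hcE y hy).eq]
    group
  rw [CfsgLib.OddOrder.mul_pow_of_central_commutator hrel (D.cen _ hcE x hx) (D.cen _ hcE y hy) p,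
    hm, pow_mul, D.expE _ hcE, one_pow, one_mul]

/-- A criterion for a cyclic subgroup: only `⟨z₀⟩` has order `p`. -/
theorem isCyclic_of_omega (hp2 : p ≠ 2) (hR : IsPGroup p G) (H : Subgroup G)
    (h : ∀ x ∈ H, x ^ p = 1 → x ∈ zpowers D.z₀) : IsCyclic H := by
  refine isCyclic_of_unique_order_prime hp2 (hR.to_subgroup H) fun x y hx hx1 hy => ?_
  have hx' : (x : G) ∈ zpowers D.z₀ := h x x.2 (congrArg Subtype.val hx)
  have hy' : (y : G) ∈ zpowers D.z₀ := h y y.2 (congrArg Subtype.val hy)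
  have hxo : orderOf (x : G) = p :=
    orderOf_eq_prime (congrArg Subtype.val hx) fun e => hx1 (Subtype.ext e)
  have hxz : zpowers (x : G) = zpowers D.z₀ := eq_of_le_of_card_ge (zpowers_le.2 hx')
    (by rw [Nat.card_zpowers, Nat.card_zpowers, hxo, D.z₀order])
  obtain ⟨i, hi⟩ := mem_zpowers_iff.1 (hxz ▸ hy' : (y : G) ∈ zpowers (x : G))
  exact mem_zpowers_iff.2 ⟨i, Subtype.ext (by simpa using hi)⟩

/-- No element of order `p` outside `C`: then `p = 3` and some centraliser has order `9`. -/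
theorem small_of_no_complement (hp2 : p ≠ 2) (hR : IsPGroup p G) (hm : ¬ Cfsg.IsMetacyclic G)
    (hno : ∀ t : G, t ^ p = 1 → t ∈ D.C) :
    p = 3 ∧ ∃ x : G, Nat.card (centralizer ({x} : Set G)) ≤ p ^ 2 := by
  haveI := D.normC
  have hC := D.isPGroup_C hR
  have hidxC : (Cfsg.powerClosure p 1 (⊤ : Subgroup D.C)).index ≤ p ^ 2 := by
    refine (index_powerClosure_le hp2 hC D.pCentral (D.E.subgroupOf D.C)
      (fun x hx => D.omega x x.2 (congrArg Subtype.val hx))).trans ?_
    rw [Nat.card_congr (subgroupOfEquivOfLe D.le).toEquiv, D.cardE]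
  set W := Cfsg.powerClosure p 1 (⊤ : Subgroup D.C)
  set WG := Cfsg.powerClosure p 1 (⊤ : Subgroup G)
  have hmap : W.map D.C.subtype ≤ WG := by
    rw [map_le_iff_le_comap]
    refine (closure_le _).2 ?_
    rintro _ ⟨x, -, rfl⟩
    rw [SetLike.mem_coe, mem_comap, map_pow]
    exact pow_mem_powerClosure (mem_top _)
  have hWm : (W.map D.C.subtype).index = W.index * p := by
    rw [index_map_subtype, D.indexC]
  have heq : W.map D.C.subtype = WG := by
    by_contra hne
    refine hm (isMetacyclic_of_index_le hp2 hR ?_)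
    obtain ⟨k, hk⟩ := (Nat.dvd_prime_pow hp.out).1
      ((relIndex_dvd_card (H := W.map D.C.subtype) (K := WG)).trans
        (IsPGroup.iff_card.1 (hR.to_subgroup WG)).choose_spec.dvd) |>.imp fun _ => And.right
    have hk0 : k ≠ 0 := fun e => hne (le_antisymm hmap (relIndex_eq_one.1 (by rw [hk, e, pow_zero])))
    have h1 := relIndex_mul_index hmap
    rw [hk, hWm] at h1
    have h2 : p * WG.index ≤ p ^ k * WG.index := Nat.mul_le_mul_right _ (Nat.le_self_pow hk0 p)
    rw [h1] at h2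
    have h3 : p * WG.index ≤ p * p ^ 2 := h2.trans ((Nat.mul_le_mul_right p hidxC).trans_eq (mul_comm _ _))
    exact Nat.le_of_mul_le_mul_left h3 hp.out.pos
  obtain ⟨s, hs⟩ : ∃ s : G, s ∉ D.C := by
    by_contra h
    push Not at h
    have := D.indexC
    rw [(eq_top_iff' D.C).2 h, index_top] at this
    exact hp.out.ne_one this.symm
  have hsW : s ^ p ∈ W.map D.C.subtype := by
    rw [heq]
    have := pow_mem_powerClosure (p := p) (n := 1) (mem_top s)
    rwa [pow_one] at this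
  obtain ⟨w, hw, hws⟩ := hsW
  have hcyc := commutator_isCyclic_of_index_le hp2 hC hidxC
  obtain ⟨c, -, rfl⟩ := exists_pow_of_mem_powerClosure hC
    (firstPowerCondition_of_cyclic_commutator (lt_of_le_of_ne hp.out.two_le hp2.symm) hC hcyc) 1 _ hw
  have hcp : (c : G) ^ p = s ^ p := by simpa using hws
  have h1 : (s * (c : G) * s⁻¹) ^ p = (c : G) ^ p := by
    rw [conj_pow, hcp, ← pow_succ', pow_succ, mul_inv_cancel_right]
  set e := (c : G)⁻¹ * (s * c * s⁻¹) with he
  have heE : e ∈ D.E := D.pow_eq hp2 hR c.2 (D.conjC c.2 s) h1.symm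
  have hec : Commute e (c : G) := D.cen _ heE _ c.2
  set e' := e⁻¹ * (s * e * s⁻¹) with he'
  have he'Z : e' ∈ zpowers D.z₀ := D.comm e heE s
  have hww : s * (c : G)⁻¹ * s⁻¹ = (c : G)⁻¹ * e⁻¹ := by
    have h2 : s * (c : G) * s⁻¹ = (c : G) * e := by rw [he]; group
    rw [← inv_inj]
    calc (s * (c : G)⁻¹ * s⁻¹)⁻¹ = s * (c : G) * s⁻¹ := by group
      _ = (c : G) * e := h2
      _ = e * (c : G) := hec.symm.eq
      _ = ((c : G)⁻¹ * e⁻¹)⁻¹ := by group
  have hu : s * e⁻¹ * s⁻¹ = e⁻¹ * e'⁻¹ := by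
    have h2 : s * e * s⁻¹ = e' * e := by
      rw [(D.commute_z₀ he'Z e).eq, he']; group
    rw [← inv_inj]
    calc (s * e⁻¹ * s⁻¹)⁻¹ = s * e * s⁻¹ := by group
      _ = e' * e := h2
      _ = (e⁻¹ * e'⁻¹)⁻¹ := by group
  have hv : s * e'⁻¹ * s⁻¹ = e'⁻¹ := by
    rw [(D.commute_z₀ (inv_mem he'Z) s).symm.eq]; group
  have hprod := mul_pow_unipotent hww hu hv hec.symm.inv_inv
    (D.commute_z₀ (inv_mem he'Z) _).symm (D.commute_z₀ (inv_mem he'Z) _).symm p
  obtain ⟨m, hm2⟩ : p ∣ p.choose 2 := hp.out.dvd_choose_self two_ne_zero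
    (lt_of_le_of_ne hp.out.two_le hp2.symm)
  set v := e'⁻¹ ^ p.choose 3 with hvdef
  have hvZ : v ∈ zpowers D.z₀ := pow_mem (inv_mem he'Z) _
  have hr : ((c : G)⁻¹ * s) ^ p = v := by
    rw [hprod, hm2, pow_mul, inv_pow e, D.expE _ heE, inv_one, one_pow, mul_one, inv_pow, hcp,
      mul_assoc, (D.commute_z₀ hvZ (s ^ p)).eq, inv_mul_cancel_left]
  set r := (c : G)⁻¹ * s
  have hrC : r ∉ D.C := fun h => hs (by simpa [r] using mul_mem c.2 h)
  have hp3 : p = 3 := by
    by_contra h3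
    obtain ⟨m3, hm3⟩ : p ∣ p.choose 3 := hp.out.dvd_choose_self three_ne_zero
      (by have := hp.out.two_le; omega)
    refine hrC (hno r ?_)
    rw [hr, hvdef, hm3, pow_mul, inv_pow, D.expE _ (D.zpowers_le_E he'Z), inv_one, one_pow]
  refine ⟨hp3, r, ?_⟩
  set H := centralizer ({r} : Set G)
  have hH : IsCyclic H := D.isCyclic_of_omega hp2 hR H fun x hx hxp =>
    D.mem_zpowers_z₀ (D.omega x (hno x hxp) hxp) hrC (mem_centralizer_singleton_iff.1 hx).symm
  obtain ⟨g, hg⟩ := (Subgroup.isCyclic_iff_exists_zpowers_eq_top H).1 hH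
  have hrH : r ∈ zpowers g := hg ▸ mem_centralizer_singleton_iff.2 rfl
  obtain ⟨k, hk : g ^ k = r⟩ := (isOfFinOrder_of_finite g).mem_powers_iff_mem_zpowers.2 hrH
  have hpk : ¬ p ∣ k := by
    rintro ⟨l, rfl⟩
    refine hrC (hk ▸ ?_)
    rw [pow_mul]
    refine pow_mem ?_ l
    have h1 : (g : G ⧸ D.C) ^ Nat.card (G ⧸ D.C) = 1 := pow_card_eq_one'
    rw [← index_eq_card, D.indexC] at h1
    rw [← QuotientGroup.eq_one_iff, QuotientGroup.mk_pow]
    exact h1
  obtain ⟨a, ha⟩ := IsPGroup.iff_orderOf.1 hR g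
  rw [← hg, Nat.card_zpowers]
  have ho : orderOf r = orderOf g := by
    rw [← hk, orderOf_pow g, ha, Nat.Coprime.gcd_eq_one (Nat.Coprime.pow_left a
      ((Nat.Prime.coprime_iff_not_dvd hp.out).2 hpk)), Nat.div_one]
  rw [← ho]
  refine Nat.le_of_dvd (pow_pos hp.out.pos 2) (orderOf_dvd_of_pow_eq_one ?_)
  rw [pow_two, pow_mul, hr, D.expE _ (D.zpowers_le_E hvZ)]

/-- The key step: a twisting element of small order lies in `E`. -/
theorem key (hp2 : p ≠ 2) (hR : IsPGroup p G) {s z : G} (hs : s ^ p = 1) (hzC : z ∈ D.C)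
    (hzE : z ∉ D.E) (hzp : z ^ p ∈ zpowers D.z₀) (hu : z⁻¹ * (s * z * s⁻¹) ∈ D.E)
    (hor : 3 < p ∨ s * z * s⁻¹ = z) {c : G} (hc : c ∈ D.C)
    (hW : (c⁻¹ * (s * c * s⁻¹)) ^ p ∈ zpowers D.z₀) : c⁻¹ * (s * c * s⁻¹) ∈ D.E := by
  set W := c⁻¹ * (s * c * s⁻¹) with hWdef
  have hWC : W ∈ D.C := mul_mem (inv_mem hc) (D.conjC hc s)
  have hzo : zpowers (z ^ p) = zpowers D.z₀ := by
    refine eq_of_le_of_card_ge (zpowers_le.2 hzp) ?_
    rw [Nat.card_zpowers, Nat.card_zpowers, D.z₀order, orderOf_eq_prime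
      (D.expE _ (D.zpowers_le_E hzp)) fun h => hzE (D.omega z hzC h)]
  obtain ⟨i, hi : (z ^ p) ^ i = W ^ p⟩ :=
    (isOfFinOrder_of_finite (z ^ p)).mem_powers_iff_mem_zpowers.2 (hzo ▸ hW)
  have he : (z ^ i)⁻¹ * W ∈ D.E :=
    D.pow_eq hp2 hR (pow_mem hzC i) hWC (by rw [← hi, ← pow_mul, ← pow_mul, mul_comm])
  set e := (z ^ i)⁻¹ * W with hedef
  set u₀ := z⁻¹ * (s * z * s⁻¹) with hu₀
  have hWe : W = z ^ i * e := by rw [hedef, mul_inv_cancel_left]
  have hez : Commute u₀ z := D.cen _ hu z hzC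
  set U := W⁻¹ * (s * W * s⁻¹) with hUdef
  have hU : U = u₀ ^ i * (e⁻¹ * (s * e * s⁻¹)) := by
    have hcu : Commute e⁻¹ (u₀ ^ i) := D.cen _ (inv_mem he) _ (D.le (pow_mem hu i))
    calc U = e⁻¹ * ((z ^ i)⁻¹ * (s * z ^ i * s⁻¹)) * (s * e * s⁻¹) := by
          rw [hUdef, hWe]; group
      _ = e⁻¹ * u₀ ^ i * (s * e * s⁻¹) := by
          rw [← conj_pow, show s * z * s⁻¹ = z * u₀ by rw [hu₀]; group, hez.symm.mul_pow,
            inv_mul_cancel_left]
      _ = _ := by rw [hcu.eq, mul_assoc]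
  have hUE : U ∈ D.E := by rw [hU]; exact mul_mem (pow_mem hu i) (mul_mem (inv_mem he) (D.conjE he s))
  set V := U⁻¹ * (s * U * s⁻¹) with hVdef
  have hVZ : V ∈ zpowers D.z₀ := D.comm U hUE s
  have hprod := mul_pow_unipotent (show s * W * s⁻¹ = W * U by rw [hUdef]; group)
    (show s * U * s⁻¹ = U * V by rw [hVdef]; group)
    (show s * V * s⁻¹ = V by rw [(D.commute_z₀ hVZ s).symm.eq]; group)
    (D.cen _ hUE W hWC).symm (D.commute_z₀ hVZ W).symm (D.commute_z₀ hVZ U).symm p
  have hsemi := semiconj_pow (show s * c * s⁻¹ = c * W by rw [hWdef]; group) p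
  rw [hs, one_mul] at hsemi
  obtain ⟨m, hm2⟩ : p ∣ p.choose 2 := hp.out.dvd_choose_self two_ne_zero
    (lt_of_le_of_ne hp.out.two_le hp2.symm)
  have hV : V ^ p.choose 3 = 1 := by
    rcases hor with h3 | h3
    · obtain ⟨m3, hm3⟩ : p ∣ p.choose 3 := hp.out.dvd_choose_self three_ne_zero h3
      rw [hm3, pow_mul, D.expE _ (D.zpowers_le_E hVZ), one_pow]
    · have hu1 : u₀ = 1 := by rw [hu₀, h3, inv_mul_cancel]
      have hUZ : U ∈ zpowers D.z₀ := by rw [hU, hu1, one_pow, one_mul]; exact D.comm e he s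
      rw [hVdef, ← (D.commute_z₀ hUZ s).eq, mul_inv_cancel_right, inv_mul_cancel, one_pow]
  rw [hm2, pow_mul, D.expE _ hUE, one_pow, mul_one, hV, mul_one, hs, mul_one] at hprod
  rw [hprod] at hsemi
  exact D.omega W hWC (left_eq_mul.1 hsemi)

/-- `C / E` is cyclic and is centralised by `s`. -/
theorem structure_C (hp2 : p ≠ 2) (hR : IsPGroup p G) {s z : G} (hsC : s ∉ D.C) (hs : s ^ p = 1)
    (hzC : z ∈ D.C) (hzE : z ∉ D.E) (hzp : z ^ p ∈ zpowers D.z₀)
    (hu : z⁻¹ * (s * z * s⁻¹) ∈ D.E) (hor : 3 < p ∨ s * z * s⁻¹ = z) :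
    ∃ g ∈ D.C, D.C ≤ zpowers g ⊔ D.E ∧ g⁻¹ * (s * g * s⁻¹) ∈ D.E ∧
      ∀ x ∈ D.C, x ^ p ∈ D.E → x ^ p ∈ zpowers D.z₀ := by
  haveI := D.normE
  have hF : ∀ x ∈ D.C, x ^ p ∈ D.E → x ^ p ∈ zpowers D.z₀ := by
    intro x hx hxp
    set W := x⁻¹ * (s * x * s⁻¹) with hWdef
    have hWC : W ∈ D.C := mul_mem (inv_mem hx) (D.conjC hx s)
    have hWp : W ^ p = (x ^ p)⁻¹ * (s * x ^ p * s⁻¹) := by
      rw [hWdef, D.mul_pow_C hp2 hR (inv_mem hx) (D.conjC hx s) (by rw [inv_pow]; exact inv_mem hxp),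
        inv_pow, conj_pow]
    have hWE := D.key hp2 hR hs hzC hzE hzp hu hor hx (hWp ▸ D.comm _ hxp s)
    refine D.mem_zpowers_z₀ hxp hsC ?_
    have h1 : (x ^ p)⁻¹ * (s * x ^ p * s⁻¹) = 1 := hWp ▸ D.expE _ hWE
    exact mul_inv_eq_iff_eq_mul.1 (inv_mul_eq_one.1 h1).symm
  haveI : (D.E.subgroupOf D.C).Normal := inferInstance
  set EC := D.E.subgroupOf D.C
  have hzo : zpowers (z ^ p) = zpowers D.z₀ := by
    refine eq_of_le_of_card_ge (zpowers_le.2 hzp) ?_
    rw [Nat.card_zpowers, Nat.card_zpowers, D.z₀order, orderOf_eq_prime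
      (D.expE _ (D.zpowers_le_E hzp)) fun h => hzE (D.omega z hzC h)]
  set zb : D.C ⧸ EC := QuotientGroup.mk' EC ⟨z, hzC⟩ with hzbdef
  have hzb : orderOf zb = p := by
    refine orderOf_eq_prime ?_ ?_
    · rw [hzbdef, ← map_pow, QuotientGroup.mk'_apply, QuotientGroup.eq_one_iff, mem_subgroupOf]
      simpa using D.zpowers_le_E hzp
    · rw [ne_eq, hzbdef, QuotientGroup.mk'_apply, QuotientGroup.eq_one_iff, mem_subgroupOf]
      exact hzE
  have hall : ∀ q : D.C ⧸ EC, q ^ p = 1 → q ∈ zpowers zb := by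
    intro q hq
    obtain ⟨⟨x, hx⟩, rfl⟩ := QuotientGroup.mk'_surjective EC q
    rw [← map_pow, QuotientGroup.mk'_apply, QuotientGroup.eq_one_iff, mem_subgroupOf] at hq
    obtain ⟨i, hi : (z ^ p) ^ i = x ^ p⟩ :=
      (isOfFinOrder_of_finite (z ^ p)).mem_powers_iff_mem_zpowers.2 (hzo ▸ hF x hx (by simpa using hq))
    refine mem_zpowers_iff.2 ⟨i, ?_⟩
    rw [zpow_natCast, ← map_pow, QuotientGroup.mk'_apply, QuotientGroup.mk'_apply, QuotientGroup.eq,
      mem_subgroupOf]
    simpa using D.pow_eq hp2 hR (pow_mem hzC i) hx (by rw [← hi, ← pow_mul, ← pow_mul, mul_comm])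
  have hcy : IsCyclic (D.C ⧸ EC) := by
    refine isCyclic_of_unique_order_prime hp2 ((hR.to_subgroup _).to_quotient EC)
      fun x y hx hx1 hy => ?_
    rw [eq_of_le_of_card_ge (zpowers_le.2 (hall x hx)) (by
      rw [Nat.card_zpowers, Nat.card_zpowers, hzb, orderOf_eq_prime hx hx1])]
    exact hall y hy
  obtain ⟨gb, hgb⟩ := isCyclic_iff_exists_zpowers_eq_top.1 hcy
  obtain ⟨⟨g, hg⟩, rfl⟩ := QuotientGroup.mk'_surjective EC gb
  have hgen : D.C ≤ zpowers g ⊔ D.E := by
    intro c hc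
    obtain ⟨i, hi⟩ := mem_zpowers_iff.1
      (hgb ▸ mem_top (QuotientGroup.mk' EC ⟨c, hc⟩) :
        QuotientGroup.mk' EC ⟨c, hc⟩ ∈ zpowers (QuotientGroup.mk' EC ⟨g, hg⟩))
    rw [← map_zpow, QuotientGroup.mk'_apply, QuotientGroup.mk'_apply, QuotientGroup.eq,
      mem_subgroupOf] at hi
    have hi' : (g ^ i)⁻¹ * c ∈ D.E := by simpa using hi
    rw [← mul_inv_cancel_left (g ^ i) c]
    exact mul_mem (mem_sup_left (zpow_mem (mem_zpowers g) i)) (mem_sup_right hi')
  refine ⟨g, hg, hgen, ?_, hF⟩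
  have hcomm : ∀ a ∈ D.C, ∀ b ∈ D.C, Commute a b := by
    intro a ha b hb
    have h1 := hgen ha
    have h2 := hgen hb
    rw [mem_sup_of_normal_right] at h1 h2
    obtain ⟨_, ⟨i, rfl⟩, e, he, rfl⟩ := h1
    obtain ⟨_, ⟨j, rfl⟩, f, hf, rfl⟩ := h2
    have hef : Commute e f := D.cen e he f (D.le hf)
    have heg : Commute e g := D.cen e he g hg
    have hfg : Commute f g := D.cen f hf g hg
    exact ((Commute.zpow_zpow_self g i j).mul_right (hfg.zpow_right i).symm).mul_left
      ((heg.zpow_right j).mul_right hef)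
  have main : ∀ (n : ℕ) (c : G), orderOf c = n → c ∈ D.C → c⁻¹ * (s * c * s⁻¹) ∈ D.E := by
    intro n
    induction n using Nat.strong_induction_on with
    | _ n ih =>
      intro c hn hc
      by_cases hcE : c ∈ D.E
      · exact mul_mem (inv_mem hcE) (D.conjE hcE s)
      have hc1 : c ≠ 1 := fun h => hcE (h ▸ one_mem _)
      have hlt : orderOf (c ^ p) < n := by
        rw [← hn, orderOf_pow' c hp.out.ne_zero, Nat.gcd_eq_right (hR.dvd_orderOf hc1)]
        exact Nat.div_lt_self (orderOf_pos c) hp.out.one_lt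
      have h1 := ih _ hlt (c ^ p) rfl (pow_mem hc p)
      set W := c⁻¹ * (s * c * s⁻¹) with hWdef
      have hWC : W ∈ D.C := mul_mem (inv_mem hc) (D.conjC hc s)
      have hWp : W ^ p ∈ D.E := by
        rw [hWdef, (hcomm _ (inv_mem hc) _ (D.conjC hc s)).mul_pow, inv_pow, conj_pow]
        exact h1
      exact D.key hp2 hR hs hzC hzE hzp hu hor hc (hF W hWC hWp)
  exact main _ g rfl hg

theorem two_le_of_card {n : ℕ} (hG : Nat.card G = p ^ n) (D : Setup G p) : 3 ≤ n := by
  have h1 : p ^ 2 ≤ Nat.card D.C := D.cardE ▸ card_le_of_le D.le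
  have h2 := D.C.card_mul_index
  rw [D.indexC, hG] at h2
  have h3 : p ^ 2 * p ≤ p ^ n := h2 ▸ Nat.mul_le_mul_right p h1
  rw [← pow_succ] at h3
  exact (Nat.pow_le_pow_iff_right hp.out.one_lt).1 h3

/-- `C` together with any element outside it generates. -/
theorem sup_zpowers_top {t : G} (ht : t ∉ D.C) : D.C ⊔ zpowers t = ⊤ := by
  have hlt : D.C < D.C ⊔ zpowers t :=
    lt_of_le_of_ne le_sup_left fun e => ht (e ▸ mem_sup_right (mem_zpowers t))
  have hd := index_dvd_of_le hlt.le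
  rw [D.indexC] at hd
  refine index_eq_one.1 (((Nat.dvd_prime hp.out).1 hd).resolve_right fun h => ?_)
  have := index_strictAnti hlt
  rw [h, D.indexC] at this
  exact lt_irrefl _ this

/-- A suitable generator of `C` modulo `E` gives the required presentation. -/
theorem forms_of_generator {n : ℕ} {t g : G} (htC : t ∉ D.C) (ht : t ^ p = 1) (hg : g ∈ D.C)
    (hgen : D.C ≤ zpowers g ⊔ D.E) (he : g⁻¹ * (t⁻¹ * g * t) ∈ D.E) (hn : 3 ≤ n)
    (h4 : 4 ≤ n ∨ g⁻¹ * (t⁻¹ * g * t) = 1 ∧ g ∈ zpowers D.z₀)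
    (hg2 : g ^ p ^ (n - 2) = 1) (hg3 : g ^ p ^ (n - 3) ∈ zpowers D.z₀) (hg3' : g ^ p ^ (n - 3) ≠ 1) :
    (3 ≤ n ∧ ∃ x y z : G, Subgroup.closure ({x, y, z} : Set G) = ⊤ ∧ x ^ p = 1 ∧ y ^ p = 1 ∧ z ^ p ^ (n - 2) = 1 ∧
        x * z = z * x ∧ y * z = z * y ∧ x⁻¹ * y * x = y * z ^ p ^ (n - 3)) ∨
    (4 ≤ n ∧ ∃ (s : ℕ) (x y z : G), (s = 1 ∨ ¬ IsSquare (s : ZMod p)) ∧ Subgroup.closure ({x, y, z} : Set G) = ⊤ ∧
        x ^ p = 1 ∧ y ^ p = 1 ∧ z ^ p ^ (n - 2) = 1 ∧ y * z = z * y ∧ x⁻¹ * y * x = y * z ^ (s * p ^ (n - 3)) ∧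
        x⁻¹ * z * x = y * z) := by
  set w := g ^ p ^ (n - 3) with hw
  have hwE : w ∈ D.E := D.zpowers_le_E hg3
  have hwo : orderOf w = p := orderOf_eq_prime (D.expE _ hwE) hg3'
  have hwz : zpowers w = zpowers D.z₀ := eq_of_le_of_card_ge (zpowers_le.2 hg3)
    (by rw [Nat.card_zpowers, Nat.card_zpowers, D.z₀order, hwo])
  have hwc : ∀ x : G, Commute w x := fun x => D.commute_z₀ hg3 x
  have hexp : ∀ x ∈ D.E, ∃ b : ℕ, t⁻¹ * x * t = x * w ^ b := by
    intro x hx
    have h1 := D.comm x hx t⁻¹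
    rw [inv_inv] at h1
    obtain ⟨b, hb : w ^ b = _⟩ := (isOfFinOrder_of_finite w).mem_powers_iff_mem_zpowers.2 (hwz ▸ h1)
    exact ⟨b, by rw [hb]; group⟩
  have hclos : ∀ x y z : G, x ∉ D.C → y ∈ D.E → y ∉ zpowers D.z₀ → z⁻¹ * g ∈ D.E →
      D.z₀ ∈ closure ({x, y, z} : Set G) → closure ({x, y, z} : Set G) = ⊤ := by
    intro x y z hx hy hyz hz hz₀
    have hE : D.E ≤ closure ({x, y, z} : Set G) :=
      (le_closure_pair D.cardE D.z₀mem D.z₀order hy hyz).trans ((closure_le _).2 (by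
        rintro _ (rfl | rfl)
        · exact subset_closure (by simp)
        · exact hz₀))
    rw [eq_top_iff, ← D.sup_zpowers_top hx]
    refine sup_le (hgen.trans (sup_le (zpowers_le.2 ?_) hE)) (zpowers_le.2 (subset_closure (by simp)))
    rw [← mul_inv_cancel_left z g]
    exact mul_mem (subset_closure (by simp)) (hE hz)
  have hz₀mem : ∀ S : Subgroup G, w ∈ S → D.z₀ ∈ S := fun S h =>
    zpowers_le.2 h (hwz.symm ▸ mem_zpowers D.z₀)
  set e := g⁻¹ * (t⁻¹ * g * t) with hedef
  have hge : t⁻¹ * g * t = g * e := by rw [hedef]; group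
  by_cases heZ : e ∈ zpowers D.z₀
  · -- `g` can be made to commute with `t`
    left
    obtain ⟨a, ha⟩ := hexp D.y₀ D.y₀mem
    obtain ⟨b, hb : w ^ b = e⟩ := (isOfFinOrder_of_finite w).mem_powers_iff_mem_zpowers.2 (hwz ▸ heZ)
    have ha0 : (a : ZMod p) ≠ 0 := by
      intro h
      refine D.y₀not (D.mem_zpowers_z₀ D.y₀mem htC ?_)
      rw [pow_eq_pow_of_cast (D.expE _ hwE) (m' := 0) (by rw [h, Nat.cast_zero]), pow_zero, mul_one] at ha
      show t * D.y₀ = D.y₀ * t
      conv_lhs => rw [← ha]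
      group
    set r := ((a : ZMod p)⁻¹).val
    set y := D.y₀ ^ r
    have hyc : t⁻¹ * y * t = y * w := by
      have h1 : t⁻¹ * y * t = (t⁻¹ * D.y₀ * t) ^ r := by
        have := conj_pow (a := t⁻¹) (b := D.y₀) (i := r)
        rw [inv_inv] at this
        exact this.symm
      rw [h1, ha, ((hwc D.y₀).pow_left a).symm.mul_pow, ← pow_mul,
        pow_eq_pow_of_cast (D.expE _ hwE) (m' := 1) (by
          rw [Nat.cast_mul, ZMod.natCast_zmod_val, mul_inv_cancel₀ ha0, Nat.cast_one]), pow_one]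
    have hyE : y ∈ D.E := pow_mem D.y₀mem r
    have hyZ : y ∉ zpowers D.z₀ := fun h => hg3' (by
      have h2 : t⁻¹ * y * t = y := by
        rw [mul_assoc, ← (D.commute_z₀ h t).symm.eq, inv_mul_cancel_left]
      rw [hyc] at h2
      exact mul_eq_left.1 h2)
    rcases h4 with h4 | ⟨he1, hgz⟩
    · set j := ((-(b : ZMod p)) : ZMod p).val
      set z := g * y ^ j
      have hgy : Commute g y := (D.cen _ hyE g hg).symm
      have hz3 : z ^ p ^ (n - 3) = w := by
        rw [(hgy.pow_right j).mul_pow, ← pow_mul y, mul_comm j, pow_mul,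
          show y ^ p ^ (n - 3) = 1 by
            rw [show n - 3 = (n - 4) + 1 by omega, pow_succ', pow_mul, D.expE _ hyE, one_pow],
          one_pow, mul_one]
      refine ⟨hn, t, y, z, hclos t y z htC hyE hyZ ?_ (hz₀mem _ ?_), ht, D.expE _ hyE, ?_, ?_,
        (hgy.symm.mul_right (Commute.self_pow y j)).eq, by rw [hz3]; exact hyc⟩
      · rw [show z⁻¹ * g = (y ^ j)⁻¹ by simp [z]]
        exact inv_mem (pow_mem hyE j)
      · rw [← hz3]
        exact pow_mem (subset_closure (by simp)) _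
      · rw [show n - 2 = (n - 3) + 1 by omega, pow_succ, pow_mul, hz3, D.expE _ hwE]
      · have h1 : t⁻¹ * z * t = z := by
          calc t⁻¹ * z * t = (t⁻¹ * g * t) * (t⁻¹ * y ^ j * t) := by simp [z, mul_assoc]
            _ = g * e * (y * w) ^ j := by
              have := conj_pow (a := t⁻¹) (b := y) (i := j)
              rw [inv_inv] at this
              rw [hge, ← this, hyc]
            _ = g * y ^ j * (w ^ b * w ^ j) := by
              rw [← hb, (hwc y).symm.mul_pow, mul_assoc g, ← mul_assoc (w ^ b),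
                ((hwc _).pow_left b).eq]
              simp only [mul_assoc]
            _ = z := by
              rw [← pow_add, pow_eq_pow_of_cast (D.expE _ hwE) (m' := 0) (by
                rw [Nat.cast_add, ZMod.natCast_zmod_val, add_neg_cancel, Nat.cast_zero]), pow_zero, mul_one]
        calc t * z = t * (t⁻¹ * z * t) := by rw [h1]
          _ = z * t := by group
    · refine ⟨hn, t, y, g, hclos t y g htC hyE hyZ (by rw [inv_mul_cancel]; exact one_mem _)
        (hz₀mem _ (pow_mem (subset_closure (by simp)) _)), ht, D.expE _ hyE, hg2,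
        (D.commute_z₀ hgz t).symm.eq, (D.commute_z₀ hgz y).symm.eq, hyc⟩
  · -- `g` is moved by an element of `E` outside `⟨z₀⟩`
    right
    have hn4 : 4 ≤ n := h4.resolve_right fun h => heZ (h.1 ▸ one_mem _)
    obtain ⟨a, ha⟩ := hexp e he
    have ha0 : (a : ZMod p) ≠ 0 := by
      intro h
      refine heZ (D.mem_zpowers_z₀ he htC ?_)
      rw [pow_eq_pow_of_cast (D.expE _ hwE) (m' := 0) (by rw [h, Nat.cast_zero]), pow_zero, mul_one] at ha
      show t * e = e * t
      conv_lhs => rw [← ha]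
      group
    obtain ⟨k, s, hs, hks, hk0⟩ : ∃ k s : ℕ, (s = 1 ∨ ¬ IsSquare (s : ZMod p)) ∧
        ((a : ZMod p) * k * k = s) ∧ (k : ZMod p) ≠ 0 := by
      by_cases hsq : IsSquare (a : ZMod p)
      · obtain ⟨r, hr⟩ := hsq
        have hr0 : r ≠ 0 := fun h => ha0 (by rw [hr, h, mul_zero])
        refine ⟨r⁻¹.val, 1, Or.inl rfl, ?_, ?_⟩
        · rw [hr, ZMod.natCast_zmod_val, Nat.cast_one]
          field_simp
        · rw [ZMod.natCast_zmod_val]
          exact inv_ne_zero hr0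
      · exact ⟨1, a, Or.inr hsq, by simp, by simp⟩
    -- conjugation by powers of `t`
    have hpow : ∀ i : ℕ, (t ^ i)⁻¹ * e * t ^ i = e * w ^ (a * i) ∧
        (t ^ i)⁻¹ * g * t ^ i = g * (e ^ i * w ^ (a * i.choose 2)) := by
      intro i
      induction i with
      | zero => simp
      | succ i ih =>
        have hwf : ∀ m : ℕ, t⁻¹ * w ^ m * t = w ^ m := fun m => by
          rw [mul_assoc, ((hwc t).pow_left m).eq, inv_mul_cancel_left]
        have hconj : ∀ x : G, (t ^ (i + 1))⁻¹ * x * t ^ (i + 1) = t⁻¹ * ((t ^ i)⁻¹ * x * t ^ i) * t :=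
          fun x => by rw [pow_succ]; group
        refine ⟨?_, ?_⟩
        · rw [hconj, ih.1]
          calc t⁻¹ * (e * w ^ (a * i)) * t = (t⁻¹ * e * t) * (t⁻¹ * w ^ (a * i) * t) := by group
            _ = e * w ^ (a * (i + 1)) := by
              rw [ha, hwf, mul_assoc, ← pow_add]; ring_nf
        · rw [hconj, ih.2]
          calc t⁻¹ * (g * (e ^ i * w ^ (a * i.choose 2))) * t
              = (t⁻¹ * g * t) * (t⁻¹ * e ^ i * t) * (t⁻¹ * w ^ (a * i.choose 2) * t) := by group
            _ = g * e * (e ^ i * w ^ (a * i)) * w ^ (a * i.choose 2) := by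
              have := conj_pow (a := t⁻¹) (b := e) (i := i)
              rw [inv_inv] at this
              rw [hge, ← this, ha, ((hwc e).pow_left a).symm.mul_pow, ← pow_mul, hwf]
            _ = g * (e ^ (i + 1) * w ^ (a * (i + 1).choose 2)) := by
              rw [Nat.choose_succ_succ' i 1, Nat.choose_one_right, mul_add, pow_add w, pow_succ']
              simp only [mul_assoc]
    set x := t ^ k
    set y := e ^ k * w ^ (a * k.choose 2)
    have hyE : y ∈ D.E := mul_mem (pow_mem he k) (pow_mem hwE _)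
    obtain ⟨kp, hkp⟩ : ∃ kp : ℕ, (k : ZMod p) * kp = 1 :=
      ⟨((k : ZMod p)⁻¹).val, by rw [ZMod.natCast_zmod_val, mul_inv_cancel₀ hk0]⟩
    have hxt : x ^ kp = t := by
      rw [← pow_mul, pow_eq_pow_of_cast ht (m' := 1) (by rw [Nat.cast_mul, hkp, Nat.cast_one]), pow_one]
    have hxC : x ∉ D.C := fun h => htC (hxt ▸ pow_mem h kp)
    have hyZ : y ∉ zpowers D.z₀ := fun h => heZ (by
      have h1 : e ^ k ∈ zpowers D.z₀ := by
        rw [← mul_inv_cancel_right (e ^ k) (w ^ (a * k.choose 2))]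
        exact mul_mem h (inv_mem (pow_mem hg3 _))
      have h2 : (e ^ k) ^ kp ∈ zpowers D.z₀ := pow_mem h1 kp
      rwa [← pow_mul, pow_eq_pow_of_cast (D.expE _ he) (m' := 1) (by rw [Nat.cast_mul, hkp, Nat.cast_one]),
        pow_one] at h2)
    have hgy : Commute g y := (D.cen _ hyE g hg).symm
    refine ⟨hn4, s, x, y, g, hs, hclos x y g hxC hyE hyZ (by rw [inv_mul_cancel]; exact one_mem _)
      (hz₀mem _ (pow_mem (subset_closure (by simp)) _)), ?_, D.expE _ hyE, hg2, hgy.symm.eq, ?_, ?_⟩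
    · rw [← pow_mul, mul_comm, pow_mul, ht, one_pow]
    · calc x⁻¹ * y * x = (x⁻¹ * e ^ k * x) * (x⁻¹ * w ^ (a * k.choose 2) * x) := by
            simp only [y]; group
        _ = (e * w ^ (a * k)) ^ k * w ^ (a * k.choose 2) := by
            have := conj_pow (a := x⁻¹) (b := e) (i := k)
            rw [inv_inv] at this
            rw [← this, (hpow k).1, mul_assoc x⁻¹, ((hwc x).pow_left _).eq, inv_mul_cancel_left]
        _ = y * w ^ (a * k * k) := by
            rw [((hwc e).pow_left _).symm.mul_pow, ← pow_mul, mul_assoc (e ^ k),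
              (((hwc _).pow_left (a * k * k)).eq), ← mul_assoc]
        _ = y * g ^ (s * p ^ (n - 3)) := by
            rw [pow_eq_pow_of_cast (D.expE _ hwE) (m' := s) (by rw [Nat.cast_mul, Nat.cast_mul, hks]),
              hw, ← pow_mul, mul_comm s]
    · rw [(hpow k).2, hgy.eq]

include D in
/-- The classification in the presence of a setup. -/
theorem classification (hp2 : p ≠ 2) (hR : IsPGroup p G) (hm : ¬ Cfsg.IsMetacyclic G) (n : ℕ)
    (hG : Nat.card G = p ^ n) :
    (3 ≤ n ∧ ∃ x y z : G, Subgroup.closure ({x, y, z} : Set G) = ⊤ ∧ x ^ p = 1 ∧ y ^ p = 1 ∧ z ^ p ^ (n - 2) = 1 ∧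
        x * z = z * x ∧ y * z = z * y ∧ x⁻¹ * y * x = y * z ^ p ^ (n - 3)) ∨
    (4 ≤ n ∧ ∃ (s : ℕ) (x y z : G), (s = 1 ∨ ¬ IsSquare (s : ZMod p)) ∧ Subgroup.closure ({x, y, z} : Set G) = ⊤ ∧
        x ^ p = 1 ∧ y ^ p = 1 ∧ z ^ p ^ (n - 2) = 1 ∧ y * z = z * y ∧ x⁻¹ * y * x = y * z ^ (s * p ^ (n - 3)) ∧
        x⁻¹ * z * x = y * z) ∨
    (p = 3 ∧ 2 ≤ n ∧ (⊤ : Subgroup G).lowerCentralSeries (n - 2) ≠ ⊥) := by
  haveI := D.normE
  haveI := D.normC
  have hn := two_le_of_card hG D
  have hmax : p = 3 → ∀ x : G, Nat.card (centralizer ({x} : Set G)) ≤ p ^ 2 →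
      (p = 3 ∧ 2 ≤ n ∧ (⊤ : Subgroup G).lowerCentralSeries (n - 2) ≠ ⊥) := by
    intro h3 x hx
    refine ⟨h3, by omega, fun hb => ?_⟩
    haveI := hR.isNilpotent
    have h1 := nilpotencyClass_of_small_centralizer n (by omega) hG x hx
    have h2 : Group.nilpotencyClass G ≤ n - 2 :=
      Subgroup.lowerCentralSeries_eq_bot_iff_nilpotencyClass_le.1 hb
    omega
  by_cases hno : ∀ t : G, t ^ p = 1 → t ∈ D.C
  · obtain ⟨h3, x, hx⟩ := D.small_of_no_complement hp2 hR hm hno
    exact Or.inr (Or.inr (hmax h3 x hx))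
  push Not at hno
  obtain ⟨t, ht, htC⟩ := hno
  have hCcard : Nat.card D.C = p ^ (n - 1) := by
    have h2 := D.C.card_mul_index
    rw [D.indexC, hG, show n = n - 1 + 1 by omega, pow_succ] at h2
    exact Nat.eq_of_mul_eq_mul_right hp.out.pos h2
  have hEcard := D.cardE
  rcases hn.eq_or_lt with rfl | hn4
  · have hEC : D.E = D.C := eq_of_le_of_card_ge D.le (by rw [hCcard, hEcard])
    rcases D.forms_of_generator (n := 3) htC ht (D.le D.z₀mem) (by rw [← hEC]; exact le_sup_right)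
      (by rw [mul_assoc, (D.z₀central t).eq, inv_mul_cancel_left, inv_mul_cancel]; exact one_mem _)
      le_rfl (Or.inr ⟨by rw [mul_assoc, (D.z₀central t).eq, inv_mul_cancel_left, inv_mul_cancel],
        mem_zpowers _⟩)
      (by rw [show (3 : ℕ) - 2 = 1 from rfl, pow_one]; exact D.pow_z₀)
      (by rw [Nat.sub_self, pow_zero, pow_one]; exact mem_zpowers _)
      (by
        rw [Nat.sub_self, pow_zero, pow_one]
        intro h
        have := D.z₀order
        rw [h, orderOf_one] at this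
        exact hp.out.ne_one this.symm) with h | h
    · exact Or.inl h
    · exact Or.inr (Or.inl h)
  by_cases hsmall : p = 3 ∧ Nat.card (centralizer ({t} : Set G)) ≤ p ^ 2
  · exact Or.inr (Or.inr (hmax hsmall.1 t hsmall.2))
  set s := t⁻¹ with hsdef
  have hs : s ^ p = 1 := by rw [hsdef, inv_pow, ht, inv_one]
  have hsC : s ∉ D.C := fun h => htC (by simpa [s] using inv_mem h)
  have hEneC : D.E < D.C := lt_of_le_of_ne D.le fun h => by
    rw [h, hCcard] at hEcard
    have := Nat.pow_right_injective hp.out.two_le hEcard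
    omega
  obtain ⟨z, hzC, hzE, hzp, hu, hor⟩ : ∃ z ∈ D.C, z ∉ D.E ∧ z ^ p ∈ zpowers D.z₀ ∧
      z⁻¹ * (s * z * s⁻¹) ∈ D.E ∧ (3 < p ∨ s * z * s⁻¹ = z) := by
    by_cases h3 : 3 < p
    · obtain ⟨z, hzC, hzE, hzp, hzc⟩ := exists_step hR D.E D.C hEneC
      have hu : z⁻¹ * (s * z * s⁻¹) ∈ D.E := by
        have h1 := D.normE.conj_mem _ (inv_mem (hzc s)) z⁻¹
        simpa [commutatorElement_def, mul_assoc] using h1
      refine ⟨z, hzC, hzE, ?_, hu, Or.inl h3⟩
      refine D.mem_zpowers_z₀ hzp hsC ?_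
      have h2 : s * z * s⁻¹ = z * (z⁻¹ * (s * z * s⁻¹)) := by group
      have h4 : s * z ^ p * s⁻¹ = z ^ p := by
        rw [← conj_pow, h2, ((D.cen _ hu z hzC).symm).mul_pow, D.expE _ hu, mul_one]
      exact mul_inv_eq_iff_eq_mul.1 h4
    · have hp3 : p = 3 := by have := hp.out.two_le; omega
      have hbig : p ^ 2 < Nat.card (centralizer ({t} : Set G)) := by
        by_contra h; exact hsmall ⟨hp3, not_lt.1 h⟩
      set H := centralizer ({t} : Set G)
      have hidx : (D.C.subgroupOf H).index ≤ p := by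
        refine Nat.le_of_dvd hp.out.pos ?_
        have h := relIndex_dvd_index_of_normal D.C H
        rw [D.indexC] at h
        exact h
      have hne : ¬ D.C.subgroupOf H ≤ (zpowers D.z₀).subgroupOf H := by
        intro h
        have h1 := card_le_of_le h
        have h2 : Nat.card ((zpowers D.z₀).subgroupOf H) = p := by
          rw [Nat.card_congr (subgroupOfEquivOfLe (show zpowers D.z₀ ≤ H from zpowers_le.2
            (mem_centralizer_singleton_iff.2 (D.z₀central t).eq))).toEquiv, Nat.card_zpowers, D.z₀order]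
        have h3 := (D.C.subgroupOf H).card_mul_index
        have h4 := Nat.mul_le_mul (h2 ▸ h1) hidx
        rw [h3, ← pow_two] at h4
        exact absurd h4 (not_le.2 hbig)
      obtain ⟨⟨z, hzH⟩, hzC, hzZ⟩ := SetLike.not_le_iff_exists.1 hne
      simp only [mem_subgroupOf] at hzC hzZ
      have hzt : Commute z t := (mem_centralizer_singleton_iff.1 hzH)
      have hEZ : ∀ x ∈ D.E, Commute x t → x ∈ zpowers D.z₀ := fun x hx h =>
        D.mem_zpowers_z₀ hx htC h.symm
      have hzE : z ∉ D.E := fun h => hzZ (hEZ z h hzt)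
      classical
      obtain ⟨m, hm⟩ := hR z
      have hex : ∃ j, z ^ p ^ j ∈ D.E := ⟨m, hm ▸ one_mem _⟩
      obtain ⟨j, hj⟩ : ∃ j, Nat.find hex = j + 1 := by
        refine ⟨Nat.find hex - 1, ?_⟩
        have : Nat.find hex ≠ 0 := fun h => hzE (by
          have := Nat.find_spec hex
          rwa [h, pow_zero, pow_one] at this)
        omega
      have hjE : z ^ p ^ j ∉ D.E := Nat.find_min hex (by omega)
      have hjp : (z ^ p ^ j) ^ p ∈ D.E := by
        rw [← pow_mul, ← pow_succ, ← hj]; exact Nat.find_spec hex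
      have hjc : Commute (z ^ p ^ j) t := hzt.pow_left _
      have hjs : s * z ^ p ^ j * s⁻¹ = z ^ p ^ j := by
        rw [hsdef, inv_inv, mul_assoc, hjc.eq, inv_mul_cancel_left]
      refine ⟨z ^ p ^ j, pow_mem hzC _, hjE, hEZ _ hjp (hjc.pow_left p), ?_, Or.inr hjs⟩
      rw [hjs, inv_mul_cancel]
      exact one_mem _
  obtain ⟨g, hg, hgen, hge, hF⟩ := D.structure_C hp2 hR hsC hs hzC hzE hzp hu hor
  rw [hsdef, inv_inv] at hge
  -- the order of `g` modulo `E`
  set EC := D.E.subgroupOf D.C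
  set gb : D.C ⧸ EC := QuotientGroup.mk' EC ⟨g, hg⟩ with hgb
  have htop : zpowers gb = ⊤ := by
    rw [eq_top_iff]
    intro q _
    obtain ⟨⟨c, hc⟩, rfl⟩ := QuotientGroup.mk'_surjective EC q
    have h1 := hgen hc
    rw [mem_sup_of_normal_right] at h1
    obtain ⟨_, ⟨i, rfl⟩, e, he, rfl⟩ := h1
    refine mem_zpowers_iff.2 ⟨i, ?_⟩
    rw [hgb, ← map_zpow, QuotientGroup.mk'_apply, QuotientGroup.mk'_apply, QuotientGroup.eq, mem_subgroupOf]
    simpa using he
  have hord : orderOf gb = p ^ (n - 3) := by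
    rw [← Nat.card_zpowers, htop, card_top]
    have h1 := card_eq_card_quotient_mul_card_subgroup EC
    rw [Nat.card_congr (subgroupOfEquivOfLe D.le).toEquiv, hEcard, hCcard,
      show n - 1 = n - 3 + 2 by omega, pow_add] at h1
    exact (Nat.eq_of_mul_eq_mul_right (pow_pos hp.out.pos 2) h1).symm
  have hmem : ∀ i, g ^ i ∈ D.E ↔ p ^ (n - 3) ∣ i := by
    intro i
    rw [← hord, orderOf_dvd_iff_pow_eq_one, hgb, ← map_pow, QuotientGroup.mk'_apply,
      QuotientGroup.eq_one_iff, mem_subgroupOf]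
    simp
  set h := g ^ p ^ (n - 4)
  have hh : h ^ p = g ^ p ^ (n - 3) := by
    rw [← pow_mul, ← pow_succ]; congr 2; omega
  have hhE : h ∉ D.E := fun hh' => by
    have := Nat.le_of_dvd (pow_pos hp.out.pos _) ((hmem _).1 hh')
    rw [Nat.pow_le_pow_iff_right hp.out.one_lt] at this
    omega
  have hg3 : g ^ p ^ (n - 3) ∈ zpowers D.z₀ :=
    hh ▸ hF h (pow_mem hg _) (hh ▸ (hmem _).2 dvd_rfl)
  have hg3' : g ^ p ^ (n - 3) ≠ 1 := fun h1 => hhE (D.omega h (pow_mem hg _) (hh ▸ h1))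
  rcases D.forms_of_generator htC ht hg hgen hge hn (Or.inl hn4) (by
      rw [show n - 2 = n - 3 + 1 by omega, pow_succ, pow_mul]
      exact D.expE _ (D.zpowers_le_E hg3)) hg3 hg3' with h | h
  · exact Or.inl h
  · exact Or.inr (Or.inl h)

end Setup

end CfsgLib.PGroup.RankTwo
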