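import Cfsg.Agent.Lib.Transfer.Critical
import Cfsg.Agent.Lib.PGroup.PowerMap
import Cfsg.Agent.Lib.FGStruct.BurnsideBasis
import Cfsg.Agent.Lib.Solvable.FixedPointFree
import Cfsg.Agent.S0120
import Cfsg.Agent.S0121
import Cfsg.Agent.S0129
import Cfsg.Prelude.Def_CaseTheorems

/-!
Prime divisors of automorphism groups of `p`-groups of rank at most two.
-/

set_option autoImplicit false

open Subgroup
open scoped commutatorElement

namespace CfsgLib.PGroup

variable {R : Type*} [Group R] [Finite R] {p : ℕ} [hp : Fact p.Prime]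

omit hp in
theorem exists_restrict_prime (α : MulAut R) (H : Subgroup R) (hH : H.Characteristic) {q : ℕ}
    (hq : q.Prime) (hα : α ^ q = 1) (hmove : ∃ x ∈ H, α x ≠ x) :
    ∃ β : MulAut H, orderOf β = q ∧ ∀ x : H, ((β x : H) : R) = α x := by
  obtain ⟨β, hβ⟩ := CfsgLib.Solvable.exists_restrict α H
    (fun x hx => CfsgLib.Solvable.apply_mem_of_characteristic α H hx)
  have := Fact.mk hq
  refine ⟨β, orderOf_eq_prime ?_ ?_, hβ⟩
  · ext x
    rw [CfsgLib.Solvable.restrict_pow hβ, hα]
    rfl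
  · obtain ⟨x, hx, hne⟩ := hmove
    intro h
    have h1 := hβ ⟨x, hx⟩
    rw [h] at h1
    exact hne h1.symm

theorem aut_prime_divisor (hp2 : p ≠ 2) (hR : IsPGroup p R) (hrk : Cfsg.PRankLE p 2 R) {q : ℕ}
    (hq : q.Prime) (hqp : q ≠ p) (hdvd : q ∣ Nat.card (MulAut R)) : q ∣ p ^ 2 - 1 ∧ q < p := by
  have := Fact.mk hq
  obtain ⟨α, hα⟩ := exists_prime_orderOf_dvd_card' (G := MulAut R) q hdvd
  have hαq : α ^ q = 1 := hα ▸ pow_orderOf_eq_one α
  have hcop : Nat.Coprime q p := (Nat.coprime_primes hq hp.out).2 hqp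
  obtain ⟨H, hH, hH1, hH2, hH3⟩ := CfsgLib.Transfer.exists_critical hR
  -- the automorphism moves an element of the critical subgroup
  have hmove : ∃ x ∈ H, α x ≠ x := by
    by_contra hall
    push Not at hall
    have h1 := Cfsg.Agent.S0121.result hR H hH hH1 hH2 hH3 α (by rwa [hα]) hall
    rw [h1, orderOf_one] at hα
    exact hq.ne_one hα.symm
  obtain ⟨β, hβ, -⟩ := exists_restrict_prime α H hH hq hαq hmove
  have hHg : IsPGroup p H := hR.to_subgroup H
  have hHc : commutator H ≤ center H := by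
    rw [_root_.commutator_def, commutator_le]
    intro x _ y _
    rw [mem_center_iff]
    intro z
    have h1 : ((⁅x, y⁆ : H) : R) ∈ centralizer (H : Set R) :=
      (hH2 (commutator_mem_commutator x.2 (mem_top (y : R)))).2
    exact Subtype.ext (mem_centralizer_iff.1 h1 z z.2)
  have hmul : ∀ x y : H, x ^ p = 1 → y ^ p = 1 → (x * y) ^ p = 1 :=
    fun x y => mul_pow_eq_one hp.out (fun c hc g => by
      rw [commutatorElement_eq_one_iff_mul_comm.2 (mem_center_iff.1 (hHc hc) g).symm]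
      exact one_mem _) (Or.inl ⟨hp2, hHc⟩) x y
  let Ω : Subgroup H :=
    { carrier := {x | x ^ p = 1}
      one_mem' := one_pow p
      mul_mem' := fun {x y} hx hy => hmul x y hx hy
      inv_mem' := fun {x} (hx : x ^ p = 1) => show x⁻¹ ^ p = 1 by rw [inv_pow, hx, inv_one] }
  have hΩc : Ω.Characteristic := by
    refine characteristic_iff_le_comap.2 fun e x hx => ?_
    show (e x) ^ p = 1
    rw [← map_pow, show x ^ p = 1 from hx, map_one]
  have hmove' : ∃ x ∈ Ω, β x ≠ x := by
    by_contra hall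
    push Not at hall
    have h1 := Cfsg.Agent.S0120.result hp2 hHg β (by rwa [hβ]) fun x hx => hall x hx
    rw [h1, orderOf_one] at hβ
    exact hq.ne_one hβ.symm
  obtain ⟨γ, hγ, -⟩ := exists_restrict_prime β Ω hΩc hq (hβ ▸ pow_orderOf_eq_one β) hmove'
  have hqΩ : q ∣ Nat.card (MulAut Ω) := hγ ▸ orderOf_dvd_natCard γ
  have hΩg : IsPGroup p Ω := hHg.to_subgroup Ω
  have hΩe : ∀ x : Ω, x ^ p = 1 := fun x => Subtype.ext x.2
  -- abelian subgroups have order at most `p²`
  have hab : ∀ A : Subgroup Ω, IsMulCommutative A → Nat.card A ≤ p ^ 2 := by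
    intro A hA
    rw [← card_map_of_injective Ω.subtype_injective, ← card_map_of_injective H.subtype_injective]
    refine hrk _ ?_ ?_
    · refine ⟨⟨?_⟩⟩
      rintro ⟨_, ⟨_, ⟨a, ha, rfl⟩, rfl⟩⟩ ⟨_, ⟨_, ⟨b, hb, rfl⟩, rfl⟩⟩
      apply Subtype.ext
      have h := congrArg Subtype.val (hA.is_comm.comm (⟨a, ha⟩ : A) ⟨b, hb⟩)
      exact congrArg (fun t : Ω => ((t : H) : R)) h
    · rintro _ ⟨_, ⟨a, -, rfl⟩, rfl⟩
      rw [← map_pow, ← map_pow, hΩe a, map_one, map_one]
  obtain ⟨A, ⟨hAn, hAc⟩, hmax⟩ :=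
    (Set.toFinite {A : Subgroup Ω | A.Normal ∧ IsMulCommutative A}).exists_maximal
      ⟨⊥, inferInstance, inferInstance⟩
  obtain ⟨a, ha⟩ := IsPGroup.iff_card.1 (hΩg.to_subgroup A)
  have ha2 : a ≤ 2 := by
    have := hab A hAc
    rw [ha] at this
    exact (Nat.pow_le_pow_iff_right hp.out.one_lt).1 this
  have hcard := Cfsg.Agent.S0129.result hΩg A hAc
    (fun B h1 h2 h3 => le_antisymm (hmax ⟨h1, h2⟩ h3) h3) a ha
  obtain ⟨n, hn⟩ := IsPGroup.iff_card.1 hΩg
  obtain ⟨r, hr⟩ := hΩg.index (frattini Ω)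
  have hn3 : n ≤ 3 := by
    rw [hn, Nat.pow_le_pow_iff_right hp.out.one_lt] at hcard
    interval_cases a <;> omega
  have hr2 : r ≤ 2 := by
    by_contra hlt
    push Not at hlt
    have hd : p ^ r ∣ p ^ n := hr ▸ hn ▸ index_dvd_card _
    have hrn : r ≤ n := (Nat.pow_dvd_pow_iff_le_right hp.out.one_lt).1 hd
    have hΦ : frattini Ω = ⊥ := by
      have h1 := (frattini Ω).card_mul_index
      rw [hr, hn, show r = n by omega] at h1
      exact eq_bot_of_card_eq _
        ((Nat.mul_eq_right (pow_pos hp.out.pos n).ne').1 h1)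
    have hcomm : IsMulCommutative Ω := ⟨⟨fun x y => by
      rw [← commutatorElement_eq_one_iff_mul_comm, ← mem_bot, ← hΦ]
      exact commutator_le_frattini hΩg (commutator_mem_commutator (mem_top x) (mem_top y))⟩⟩
    have h2 := hab ⊤ inferInstance
    rw [card_top, hn, Nat.pow_le_pow_iff_right hp.out.one_lt] at h2
    omega
  have hbound := hqΩ.trans (CfsgLib.FGStruct.card_mulAut_dvd hn hr)
  rw [(Nat.Coprime.pow_right _ hcop).dvd_mul_left] at hbound
  have h12 : p ^ 2 - 1 = (p + 1) * (p - 1) := by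
    simpa using Nat.sq_sub_sq p 1
  have hq1 : q ∣ p - 1 ∨ q ∣ p + 1 := by
    have hpm : q ∣ p ^ 2 - p → q ∣ p - 1 := fun h => by
      rw [sq, ← Nat.mul_sub_one, hcop.dvd_mul_left] at h
      exact h
    interval_cases r
    · simp at hbound
      exact absurd hbound hq.ne_one
    · simp at hbound
      exact Or.inl hbound
    · rw [Finset.prod_range_succ, Finset.prod_range_succ, Finset.prod_range_zero, one_mul, pow_zero,
        pow_one, hq.dvd_mul] at hbound
      rcases hbound with h | h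
      · rw [h12, hq.dvd_mul] at h
        exact h.symm
      · exact Or.inl (hpm h)
  refine ⟨by rw [h12]; exact hq1.elim (fun h => h.mul_left _) (fun h => h.mul_right _), ?_⟩
  have h5 : 3 ≤ p := by have := hp.out.two_le; omega
  rcases hq1 with h | h
  · have := Nat.le_of_dvd (by omega) h
    omega
  · obtain ⟨k, hk⟩ := h
    by_contra hge
    push Not at hge
    have hk1 : k = 1 := by
      rcases k with _ | _ | k
      · omega
      · rfl
      · nlinarith
    subst hk1
    obtain ⟨t, ht⟩ := hp.out.odd_of_ne_two hp2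
    have h2 : 2 ∣ q := ⟨t + 1, by omega⟩
    have := (Nat.prime_dvd_prime_iff_eq Nat.prime_two hq).1 h2
    omega

end CfsgLib.PGroup
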