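import Mathlib.GroupTheory.Nilpotent
import Mathlib.GroupTheory.PGroup
import Mathlib.Algebra.BigOperators.Group.Finset.Basic
import Mathlib.Tactic.Group
import Mathlib.Tactic.Ring

/-!
Class and breadth of finite p-groups (Leedham-Green, Neumann, Wiegold): counting with the two-step
centralisers of the lower central series.
-/

set_option autoImplicit false

namespace CfsgLib.PGroup.Breadth

open scoped commutatorElement

variable {G : Type*} [Group G]

/-- The elements centralising `A` modulo the normal subgroup `N`. -/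
def centMod (A N : Subgroup G) [N.Normal] : Subgroup G :=
  (Subgroup.centralizer ((A.map (QuotientGroup.mk' N) : Subgroup (G ⧸ N)) : Set (G ⧸ N))).comap
    (QuotientGroup.mk' N)

theorem mem_centMod {A N : Subgroup G} [N.Normal] {g : G} :
    g ∈ centMod A N ↔ ∀ x ∈ A, ⁅x, g⁆ ∈ N := by
  simp only [centMod, Subgroup.mem_comap, Subgroup.mem_centralizer_iff, Subgroup.coe_map,
    Set.forall_mem_image, SetLike.mem_coe]
  refine forall₂_congr fun x _ => ?_
  rw [← QuotientGroup.eq_one_iff, ← QuotientGroup.mk'_apply (N := N), map_commutatorElement,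
    commutatorElement_eq_one_iff_mul_comm]

theorem index_sup_strict [Finite G] {p : ℕ} [hp : Fact p.Prime] (hG : IsPGroup p G) {g : G}
    {A B N : Subgroup G} [B.Normal] [N.Normal] (hBA : B ≤ A) (hBN : ∀ y ∈ B, ⁅y, g⁆ ∈ N)
    (hg : g ∉ centMod A N) :
    p * (Subgroup.centralizer {g} ⊔ A).index ≤ (Subgroup.centralizer {g} ⊔ B).index := by
  have hle : Subgroup.centralizer {g} ⊔ B ≤ Subgroup.centralizer {g} ⊔ A := sup_le_sup_left hBA _
  rw [← Subgroup.relIndex_mul_index hle]
  refine Nat.mul_le_mul_right _ ?_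
  set R := (Subgroup.centralizer {g} ⊔ B).relIndex (Subgroup.centralizer {g} ⊔ A) with hR
  have hne : R ≠ 1 := by
    intro h1
    rw [hR, Subgroup.relIndex_eq_one] at h1
    refine hg (mem_centMod.2 fun x hx => ?_)
    obtain ⟨c, hc, y, hy, rfl⟩ := Subgroup.mem_sup_of_normal_right.1 (h1 (Subgroup.mem_sup_right hx))
    have hcg : c * g = g * c := Subgroup.mem_centralizer_singleton_iff.1 hc
    have h2 : ⁅c * y, g⁆ = c * ⁅y, g⁆ * c⁻¹ := by
      have : c * g * c⁻¹ = g := by rw [hcg, mul_inv_cancel_right]
      calc ⁅c * y, g⁆ = c * ⁅y, g⁆ * c⁻¹ * (c * g * c⁻¹) * g⁻¹ := by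
            simp only [commutatorElement_def]; group
        _ = c * ⁅y, g⁆ * c⁻¹ := by rw [this, mul_inv_cancel_right]
    rw [h2]
    exact Subgroup.Normal.conj_mem inferInstance _ (hBN y hy) c
  obtain ⟨k, hk⟩ : ∃ k, R = p ^ k := by
    have h := (hG.to_subgroup (Subgroup.centralizer {g} ⊔ A)).index
      ((Subgroup.centralizer {g} ⊔ B).subgroupOf _)
    exact h
  rcases k with _ | k
  · exact absurd (by simpa using hk) hne
  · rw [hk, pow_succ']
    exact Nat.le_mul_of_pos_right _ (pow_pos hp.out.pos k)

theorem pow_count_le [Finite G] {p : ℕ} [hp : Fact p.Prime] (hG : IsPGroup p G) (g : G) (n : ℕ)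
    [DecidablePred fun i => g ∉ centMod ((⊤ : Subgroup G).lowerCentralSeries i)
      ((⊤ : Subgroup G).lowerCentralSeries (i + 2))] :
    p ^ ((Finset.range n).filter fun i => g ∉ centMod ((⊤ : Subgroup G).lowerCentralSeries i)
      ((⊤ : Subgroup G).lowerCentralSeries (i + 2))).card ≤
      (Subgroup.centralizer {g} ⊔ (⊤ : Subgroup G).lowerCentralSeries n).index := by
  induction n with
  | zero =>
    rw [Finset.range_zero, Finset.filter_empty, Finset.card_empty, pow_zero]
    exact Nat.one_le_iff_ne_zero.2 Subgroup.index_ne_zero_of_finite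
  | succ n ih =>
    set γ := (⊤ : Subgroup G).lowerCentralSeries
    have hmono : γ (n + 1) ≤ γ n := Subgroup.lowerCentralSeries_antitone _ (Nat.le_succ n)
    rw [Finset.range_add_one, Finset.filter_insert]
    by_cases h : g ∈ centMod (γ n) (γ (n + 2))
    swap
    · rw [if_pos h, Finset.card_insert_of_notMem
        (fun hm => Finset.notMem_range_self (Finset.mem_filter.1 hm).1), pow_succ']
      refine le_trans (Nat.mul_le_mul_left p ih) (index_sup_strict hG hmono (fun y hy => ?_) h)
      exact Subgroup.commutator_mem_commutator hy (Subgroup.mem_top g)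
    · rw [if_neg (not_not_intro h)]
      exact ih.trans (Nat.le_of_dvd (Nat.pos_of_ne_zero Subgroup.index_ne_zero_of_finite)
        (Subgroup.index_dvd_of_le (sup_le_sup_left hmono _)))

/-- If every centraliser of an element has index at most `p ^ b`, with `b ≠ 0`, then the class `c`
satisfies `(c - 1) * (p - 1) < b * p`. -/
theorem class_mul_lt [Finite G] {p : ℕ} [hp : Fact p.Prime] (hG : IsPGroup p G) (b : ℕ)
    (hb0 : b ≠ 0) (hb : ∀ x : G, (Subgroup.centralizer ({x} : Set G)).index ≤ p ^ b)
    [Group.IsNilpotent G] :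
    (Group.nilpotencyClass G - 1) * (p - 1) < b * p := by
  classical
  have := Fintype.ofFinite G
  set c := Group.nilpotencyClass G with hc
  set γ := (⊤ : Subgroup G).lowerCentralSeries with hγ
  let C : ℕ → Subgroup G := fun i => centMod (γ i) (γ (i + 2))
  let f : G → ℕ := fun g => ((Finset.range (c - 1)).filter fun i => g ∉ C i).card
  have hf : ∀ g, f g ≤ b := fun g => (Nat.pow_le_pow_iff_right hp.out.one_lt).1
    (le_trans (le_trans (pow_count_le hG g (c - 1))
      (Nat.le_of_dvd (Nat.pos_of_ne_zero Subgroup.index_ne_zero_of_finite)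
        (Subgroup.index_dvd_of_le le_sup_left))) (hb g))
  have hf1 : f 1 = 0 := by
    simp only [f, Finset.card_eq_zero, Finset.filter_eq_empty_iff]
    intro i _ h
    exact h (one_mem _)
  have hlt : ∑ g : G, f g < ∑ _g : G, b :=
    Finset.sum_lt_sum (fun g _ => hf g) ⟨1, Finset.mem_univ _, by rw [hf1]; omega⟩
  have hswap : ∑ g : G, f g = ∑ i ∈ Finset.range (c - 1),
      (Finset.univ.filter fun g : G => g ∉ C i).card := by
    simp only [f, Finset.card_filter]
    exact Finset.sum_comm
  have hprop : ∀ i ∈ Finset.range (c - 1), C i ≠ ⊤ := by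
    intro i hi htop
    rw [Finset.mem_range] at hi
    have h1 : γ (i + 1) ≤ γ (i + 2) := by
      rw [hγ, Subgroup.lowerCentralSeries_succ, Subgroup.commutator_le]
      intro x hx y _
      exact mem_centMod.1 (htop ▸ Subgroup.mem_top y : y ∈ C i) x hx
    have h2 : ∀ k, γ (i + 1) ≤ γ (i + 1 + k) := by
      intro k
      induction k with
      | zero => exact le_rfl
      | succ k ih =>
        refine h1.trans ?_
        rw [hγ, ← add_assoc, Subgroup.lowerCentralSeries_succ _ (i + 1 + k),
          Subgroup.lowerCentralSeries_succ _ (i + 1)]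
        exact Subgroup.commutator_mono ih le_rfl
    have h3 : γ (i + 1 + c) = ⊥ := Subgroup.lowerCentralSeries_eq_bot_iff_nilpotencyClass_le.2
      (by omega)
    have h4 : γ (i + 1) = ⊥ := le_bot_iff.1 (h3 ▸ h2 c)
    have := Subgroup.lowerCentralSeries_eq_bot_iff_nilpotencyClass_le.1 h4
    omega
  have hcount : ∀ i ∈ Finset.range (c - 1), (p - 1) * Nat.card G ≤
      p * (Finset.univ.filter fun g : G => g ∉ C i).card := by
    intro i hi
    have h1 : (Finset.univ.filter fun g : G => g ∈ C i).card = Nat.card (C i) := by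
      rw [Nat.card_eq_fintype_card, ← Fintype.card_subtype]
    have h2 := Finset.card_filter_add_card_filter_not (s := (Finset.univ : Finset G)) (fun g => g ∈ C i)
    rw [h1, Finset.card_univ, ← Nat.card_eq_fintype_card] at h2
    obtain ⟨k, hk⟩ := hG.index (C i)
    have h3 : p * Nat.card (C i) ≤ Nat.card G := by
      rw [← (C i).card_mul_index, mul_comm]
      refine Nat.mul_le_mul_left _ ?_
      rcases k with _ | k
      · exact absurd (Subgroup.index_eq_one.1 (by simpa using hk)) (hprop i hi)
      · rw [hk, pow_succ']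
        exact Nat.le_mul_of_pos_right _ (pow_pos hp.out.pos k)
    obtain ⟨q, hq⟩ : ∃ q, p = q + 1 := ⟨p - 1, by have := hp.out.pos; omega⟩
    subst hq
    simp only [Nat.add_sub_cancel]
    nlinarith
  have h1 := Finset.sum_le_sum hcount
  rw [Finset.sum_const, Finset.card_range, smul_eq_mul, ← Finset.mul_sum, ← hswap] at h1
  have h2 := Nat.mul_lt_mul_of_pos_left hlt hp.out.pos
  rw [Finset.sum_const, Finset.card_univ, smul_eq_mul, ← Nat.card_eq_fintype_card] at h2
  have h3 : (c - 1) * ((p - 1) * Nat.card G) < p * (Nat.card G * b) := lt_of_le_of_lt h1 h2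
  refine Nat.lt_of_mul_lt_mul_right (a := Nat.card G) ?_
  calc (c - 1) * (p - 1) * Nat.card G = (c - 1) * ((p - 1) * Nat.card G) := mul_assoc _ _ _
    _ < p * (Nat.card G * b) := h3
    _ = b * p * Nat.card G := by ring

end CfsgLib.PGroup.Breadth
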