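import Cfsg.Agent.Lib.PGroup.CyclicMaximal
import Mathlib.GroupTheory.Index
import Mathlib.GroupTheory.IndexNormal
import Mathlib.FieldTheory.Finite.Basic

/-!
Classification of `p`-groups with a cyclic maximal subgroup.
-/

set_option autoImplicit false

open Subgroup

namespace CfsgLib.PGroup

variable {G : Type*} [Group G] [Finite G]

theorem cyclic_maximal_setup {p n : ℕ} [hp : Fact p.Prime] (hn : n ≠ 0) (hG : Nat.card G = p ^ n)
    (C : Subgroup G) (hC : IsCyclic C) (hCi : C.index = p) :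
    ∃ a : G, C = zpowers a ∧ orderOf a = p ^ (n - 1) ∧ C.Normal := by
  obtain ⟨a, rfl⟩ := (Subgroup.isCyclic_iff_exists_zpowers_eq_top C).mp hC
  refine ⟨a, rfl, ?_, normal_of_index_eq_minFac_card ?_⟩
  · have h := (zpowers a).card_mul_index
    rw [hG, hCi, Nat.card_zpowers] at h
    obtain ⟨m, rfl⟩ := Nat.exists_eq_succ_of_ne_zero hn
    rw [pow_succ] at h
    exact Nat.eq_of_mul_eq_mul_right hp.out.pos h
  · rw [hCi, hG, hp.out.pow_minFac hn]

theorem sup_zpowers_eq_top {C : Subgroup G} {p : ℕ} (hp : p.Prime) (hCi : C.index = p) {b : G}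
    (hb : b ∉ C) : C ⊔ zpowers b = ⊤ := by
  have hd : (C ⊔ zpowers b).index ∣ p := hCi ▸ index_dvd_of_le le_sup_left
  rcases (Nat.dvd_prime hp).1 hd with h | h
  · exact index_eq_one.1 h
  · exfalso
    refine hb ?_
    have h2 : C = C ⊔ zpowers b := eq_of_le_of_card_ge le_sup_left (by
      have h1 := (C ⊔ zpowers b).card_mul_index
      rw [h, ← C.card_mul_index, hCi] at h1
      exact (Nat.eq_of_mul_eq_mul_right hp.pos h1).le)
    rw [h2]
    exact mem_sup_right (mem_zpowers b)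

omit [Finite G] in
theorem comm_of_generators {a b : G} (h : zpowers a ⊔ zpowers b = ⊤) (hab : Commute a b)
    (x y : G) : x * y = y * x := by
  have hc : ∀ g ∈ ({a, b} : Set G), g ∈ center G := by
    intro g hg
    rw [mem_center_iff]
    intro z
    have : zpowers a ⊔ zpowers b ≤ centralizer {g} := by
      refine sup_le (zpowers_le.2 ?_) (zpowers_le.2 ?_) <;> rw [mem_centralizer_singleton_iff]
      · rcases hg with rfl | rfl
        · rfl
        · exact hab.eq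
      · rcases hg with rfl | rfl
        · exact hab.eq.symm
        · rfl
    rw [h] at this
    exact mem_centralizer_singleton_iff.1 (this (mem_top z))
  have htop : zpowers a ⊔ zpowers b ≤ center G :=
    sup_le (zpowers_le.2 (hc a (by simp))) (zpowers_le.2 (hc b (by simp)))
  rw [h] at htop
  exact (mem_center_iff.1 (htop (mem_top x)) y).symm

omit [Finite G] in
theorem zpow_eq_of_dvd {a : G} {N : ℕ} (ha : orderOf a = N) {x y : ℤ} (h : (N : ℤ) ∣ x - y) :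
    a ^ x = a ^ y := by
  rw [← ha, orderOf_dvd_iff_zpow_eq_one, zpow_sub, mul_inv_eq_one] at h
  exact h

theorem cyclic_maximal_odd {p : ℕ} [hp : Fact p.Prime] (hp2 : p ≠ 2) (n : ℕ) (hn : 3 ≤ n)
    (hG : Nat.card G = p ^ n) (C : Subgroup G) (hC : IsCyclic C) (hCi : C.index = p)
    (hna : ∃ x y : G, x * y ≠ y * x) :
    ∃ a b : G, orderOf a = p ^ (n - 1) ∧ orderOf b = p ∧ b ∉ zpowers a ∧
      b * a * b⁻¹ = a ^ (1 + p ^ (n - 2)) := by
  obtain ⟨a, hCa, ha, hCn⟩ := cyclic_maximal_setup (by omega) hG C hC hCi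
  have hPG : IsPGroup p G := IsPGroup.of_card hG
  have hnc : ¬ IsCyclic G := fun h => by
    obtain ⟨x, y, hxy⟩ := hna
    exact hxy (IsCyclic.commutative.is_comm.comm x y)
  obtain ⟨K, hK, hKm⟩ := omega_of_cyclic_index_prime hp2 hPG hnc C hC hCi
  obtain ⟨b, hbK, hbC⟩ : ∃ b ∈ K, b ∉ C := by
    by_contra hall
    push Not at hall
    classical
    have := Fintype.ofFinite C
    have hle := IsCyclic.card_pow_eq_one_le (α := C) hp.out.pos
    have h1 : Nat.card K ≤ (Finset.univ.filter fun c : C => c ^ p = 1).card := by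
      rw [← Nat.card_eq_finsetCard]
      refine Nat.card_le_card_of_injective
        (fun k => ⟨⟨k, hall k k.2⟩, by simp [Subtype.ext_iff, (hKm k).1 k.2]⟩) ?_
      intro k l hkl
      simpa using hkl
    rw [hK] at h1
    have := hp.out.two_le
    nlinarith [h1.trans hle]
  have hbp : b ^ p = 1 := (hKm b).1 hbK
  obtain ⟨u, hu⟩ : ∃ u : ℤ, a ^ u = b * a * b⁻¹ := by
    rw [← mem_zpowers_iff, ← hCa]
    exact hCn.conj_mem a (hCa ▸ mem_zpowers a) b
  have hiter : ∀ k : ℕ, b ^ k * a * (b ^ k)⁻¹ = a ^ (u ^ k) := by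
    intro k
    induction k with
    | zero => simp
    | succ k ih =>
      calc b ^ (k + 1) * a * (b ^ (k + 1))⁻¹ = b * (b ^ k * a * (b ^ k)⁻¹) * b⁻¹ := by
            simp only [pow_succ', mul_inv_rev, mul_assoc]
        _ = (b * a * b⁻¹) ^ (u ^ k) := by rw [ih, conj_zpow]
        _ = a ^ (u ^ (k + 1)) := by rw [← hu, ← zpow_mul, pow_succ']
  obtain ⟨m, rfl⟩ : ∃ m, n = m + 2 := ⟨n - 2, by omega⟩
  rw [show m + 2 - 2 = m by omega, show m + 2 - 1 = m + 1 by omega] at *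
  have hord : (p : ℤ) ^ (m + 1) ∣ u ^ p - 1 := by
    have h := hiter p
    rw [hbp, inv_one, one_mul, mul_one] at h
    have h2 : (orderOf a : ℤ) ∣ u ^ p - 1 := by
      rw [orderOf_dvd_iff_zpow_eq_one, zpow_sub, zpow_one, ← h, mul_inv_cancel]
    rwa [ha, Nat.cast_pow] at h2
  have hu1 : (p : ℤ) ∣ u - 1 := by
    have h1 : (p : ℤ) ∣ u ^ p - 1 := (dvd_pow_self _ (Nat.succ_ne_zero m)).trans hord
    have h2 : (p : ℤ) ∣ u ^ p - u := by
      rw [← ZMod.intCast_zmod_eq_zero_iff_dvd]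
      push_cast
      rw [ZMod.pow_card, sub_self]
    have := dvd_sub h1 h2
    rwa [sub_sub_sub_cancel_left] at this
  have hs : (p : ℤ) ^ (m + 1) ∣ p * (u - 1) :=
    dvd_of_dvd_one_add_pow_sub hp2 (m + 1) (u - 1) hu1 (by rwa [add_sub_cancel])
  rw [pow_succ'] at hs
  obtain ⟨j, hj⟩ := Int.dvd_of_mul_dvd_mul_left (by exact_mod_cast hp.out.ne_zero) hs
  have hpj : ¬ (p : ℤ) ∣ j := by
    rintro ⟨t, rfl⟩
    obtain ⟨x, y, hxy⟩ := hna
    refine hxy (comm_of_generators (hCa ▸ sup_zpowers_eq_top hp.out hCi hbC) ?_ x y)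
    have : b * a * b⁻¹ = a := by
      rw [← hu]
      conv_rhs => rw [← zpow_one a]
      exact zpow_eq_of_dvd ha (by rw [hj, Nat.cast_pow, pow_succ]; exact ⟨t, by ring⟩)
    exact (mul_inv_eq_iff_eq_mul.1 this).symm
  set c : G := a ^ ((p : ℤ) ^ m) with hc
  set d : G := c ^ j with hd
  have hba : b * a * b⁻¹ = d * a := by
    rw [← hu, hd, hc, ← zpow_mul, ← hj, ← zpow_add_one, sub_add_cancel]
  have hbd : Commute b d := by
    refine mul_inv_eq_iff_eq_mul.1 ?_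
    rw [hd, hc, ← zpow_mul, ← conj_zpow, ← hu, ← zpow_mul]
    refine zpow_eq_of_dvd ha ?_
    rw [Nat.cast_pow, show u * ((p : ℤ) ^ m * j) - (p : ℤ) ^ m * j = (u - 1) * ((p : ℤ) ^ m * j) by
      ring, hj]
    exact ⟨(p : ℤ) ^ (m - 1) * j * j, by
      rw [show (p : ℤ) ^ m * j * ((p : ℤ) ^ m * j) = (p : ℤ) ^ (m + m) * j * j by rw [pow_add]; ring,
        show m + m = (m + 1) + (m - 1) by omega, pow_add]
      ring⟩
  have had : Commute a d := by rw [hd, hc, ← zpow_mul]; exact Commute.self_zpow a _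
  obtain ⟨i, v, hiv⟩ := ((Nat.prime_iff_prime_int.1 hp.out).coprime_iff_not_dvd.2 hpj).symm
  refine ⟨a, b ^ i, ha, ?_, ?_, ?_⟩
  · refine orderOf_eq_prime ?_ fun h => hbC ?_
    · rw [← zpow_natCast, ← zpow_mul, mul_comm, zpow_mul, zpow_natCast, hbp, one_zpow]
    · have : b = (b ^ i) ^ j * ((b ^ p : G)) ^ v := by
        rw [← zpow_natCast b p, ← zpow_mul, ← zpow_mul, ← zpow_add, mul_comm (p : ℤ) v, hiv, zpow_one]
      rw [this, h, hbp, one_zpow, one_zpow, one_mul]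
      exact C.one_mem
  · rw [← hCa]
    intro h
    refine hbC ?_
    have : b = (b ^ i) ^ j * ((b ^ p : G)) ^ v := by
      rw [← zpow_natCast b p, ← zpow_mul, ← zpow_mul, ← zpow_add, mul_comm (p : ℤ) v, hiv, zpow_one]
    rw [this, hbp, one_zpow, mul_one]
    exact zpow_mem h j
  · have h1 : a * b * a⁻¹ = d⁻¹ * b := by
      have : a * b = d⁻¹ * b * a := by
        rw [mul_assoc, mul_inv_eq_iff_eq_mul.1 hba]
        group
      rw [this, mul_inv_cancel_right]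
    have h2 : a * b ^ i * a⁻¹ = (d ^ i)⁻¹ * b ^ i := by
      rw [← conj_zpow, h1, (hbd.symm.inv_left).mul_zpow, inv_zpow]
    have h3 : b ^ i * a * (b ^ i)⁻¹ = d ^ i * a := by
      have : b ^ i * a = d ^ i * (a * b ^ i) := by
        rw [mul_inv_eq_iff_eq_mul.1 h2]; group
      rw [this, ← mul_assoc, mul_inv_cancel_right]
    rw [h3, hd, hc, ← zpow_mul, ← zpow_mul, ← zpow_add_one, ← zpow_natCast]
    refine zpow_eq_of_dvd ha ?_
    push_cast
    rw [pow_succ]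
    exact ⟨-v, by linear_combination (p : ℤ) ^ m * hiv⟩

theorem cyclic_maximal_two (n : ℕ) (hn : 3 ≤ n) (hG : Nat.card G = 2 ^ n) (C : Subgroup G)
    (hC : IsCyclic C) (hCi : C.index = 2) (hna : ∃ x y : G, x * y ≠ y * x) :
    ∃ a b : G, orderOf a = 2 ^ (n - 1) ∧ b ∉ zpowers a ∧
      ((b ^ 2 = 1 ∧ b * a * b⁻¹ = a⁻¹) ∨
      (b ^ 2 = a ^ (2 ^ (n - 2)) ∧ b * a * b⁻¹ = a⁻¹) ∨
      (4 ≤ n ∧ b ^ 2 = 1 ∧ b * a * b⁻¹ = a ^ (1 + 2 ^ (n - 2))) ∨
      (4 ≤ n ∧ b ^ 2 = 1 ∧ b * a * b⁻¹ = a ^ (2 ^ (n - 2) - 1))) := by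
  have : Fact (Nat.Prime 2) := ⟨Nat.prime_two⟩
  obtain ⟨a, hCa, ha, hCn⟩ := cyclic_maximal_setup (by omega) hG C hC hCi
  obtain ⟨y, hy⟩ : ∃ y, y ∉ C := by
    by_contra h
    push Not at h
    rw [(eq_top_iff.2 fun x _ => h x : C = ⊤), index_top] at hCi
    omega
  obtain ⟨u, hu⟩ : ∃ u : ℤ, a ^ u = y * a * y⁻¹ := by
    rw [← mem_zpowers_iff, ← hCa]
    exact hCn.conj_mem a (hCa ▸ mem_zpowers a) y
  obtain ⟨j, hj⟩ : ∃ j : ℤ, a ^ j = y ^ 2 := by
    rw [← mem_zpowers_iff, ← hCa]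
    have := C.pow_index_mem y
    rwa [hCi] at this
  obtain ⟨m, rfl⟩ : ∃ m, n = m + 2 := ⟨n - 2, by omega⟩
  rw [show m + 2 - 2 = m by omega, show m + 2 - 1 = m + 1 by omega] at *
  have hdvd : ∀ x : ℤ, a ^ x = 1 → (2 : ℤ) ^ (m + 1) ∣ x := fun x hx => by
    have h := orderOf_dvd_iff_zpow_eq_one.2 hx
    rwa [ha, Nat.cast_pow] at h
  have hpow : ∀ x z : ℤ, (2 : ℤ) ^ (m + 1) ∣ x - z → a ^ x = a ^ z := fun x z h =>
    zpow_eq_of_dvd ha (by rwa [Nat.cast_pow])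
  have hu2 : (2 : ℤ) ^ (m + 1) ∣ u * u - 1 := by
    refine hdvd _ ?_
    have h1 : a ^ (u * u) = a := by
      rw [zpow_mul, hu, conj_zpow, hu,
        show y * (y * a * y⁻¹) * y⁻¹ = y ^ 2 * a * (y ^ 2)⁻¹ by rw [sq]; group, ← hj,
        (Commute.zpow_self a j).eq, mul_inv_cancel_right]
    rw [zpow_sub, zpow_one, h1, mul_inv_cancel]
  have hju : (2 : ℤ) ^ (m + 1) ∣ j * (u - 1) := by
    refine hdvd _ ?_
    have h1 : a ^ (u * j) = a ^ j := by
      rw [zpow_mul, hu, conj_zpow, hj]; group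
    rw [mul_sub, mul_one, zpow_sub, mul_comm j u, h1, mul_inv_cancel]
  have hnab : ¬ (2 : ℤ) ^ (m + 1) ∣ u - 1 := fun h => by
    obtain ⟨x, z, hxz⟩ := hna
    refine hxz (comm_of_generators (hCa ▸ sup_zpowers_eq_top Nat.prime_two hCi hy) ?_ x z)
    have : y * a * y⁻¹ = a := by rw [← hu, hpow u 1 h, zpow_one]
    exact (mul_inv_eq_iff_eq_mul.1 this).symm
  -- elements `a ^ l * y` act as `y`
  have hb : ∀ l : ℤ, a ^ l * y ∉ zpowers a ∧ (a ^ l * y) * a * (a ^ l * y)⁻¹ = a ^ u ∧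
      (a ^ l * y) ^ 2 = a ^ (l + u * l + j) := by
    intro l
    refine ⟨fun h => hy ?_, ?_, ?_⟩
    · rw [hCa]
      have := mul_mem (zpow_mem (mem_zpowers a) (-l)) h
      rwa [← mul_assoc, ← zpow_add, neg_add_cancel, zpow_zero, one_mul] at this
    · rw [show a ^ l * y * a * (a ^ l * y)⁻¹ = a ^ l * (y * a * y⁻¹) * (a ^ l)⁻¹ by group, ← hu,
        (Commute.zpow_zpow_self a l u).eq, mul_inv_cancel_right]
    · rw [zpow_add, zpow_add, zpow_mul, hu, conj_zpow, hj, sq, sq]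
      group
  obtain ⟨x, hx⟩ : ∃ x : ℤ, u = 2 * x + 1 := by
    rcases Int.even_or_odd u with ⟨r, hr⟩ | h
    · exfalso
      have h2 : (2 : ℤ) ∣ u * u - 1 := (dvd_pow_self (2 : ℤ) (Nat.succ_ne_zero m)).trans hu2
      rw [hr] at h2
      have h3 : (2 : ℤ) ∣ (r + r) * (r + r) := ⟨r * (r + r), by ring⟩
      have := dvd_sub h3 h2
      rw [sub_sub_cancel] at this
      norm_num at this
    · exact h
  obtain ⟨k₀, rfl⟩ : ∃ k₀, m = k₀ + 1 := ⟨m - 1, by omega⟩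
  by_cases hminus : (2 : ℤ) ^ (k₀ + 1) ∣ u + 1
  · obtain ⟨t, ht⟩ := hminus
    rcases Int.even_or_odd t with ⟨t', rfl⟩ | ⟨t', rfl⟩
    · have huinv : a ^ u = a⁻¹ := by
        rw [hpow u (-1) (by rw [sub_neg_eq_add, ht, pow_succ]; exact ⟨t', by ring⟩), zpow_neg,
          zpow_one]
      have hj2 : (2 : ℤ) ^ (k₀ + 1) ∣ j := by
        have h2 : (2 : ℤ) ^ (k₀ + 1 + 1) ∣ j * (u + 1) := by
          rw [ht, pow_succ (2 : ℤ) (k₀ + 1)]; exact ⟨j * t', by ring⟩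
        have h3 := dvd_sub h2 hju
        rw [show j * (u + 1) - j * (u - 1) = 2 * j by ring, pow_succ'] at h3
        exact Int.dvd_of_mul_dvd_mul_left two_ne_zero h3
      obtain ⟨k, rfl⟩ := hj2
      obtain ⟨hb1, hb2, hb3⟩ := hb 0
      simp only [zpow_zero, one_mul, mul_zero, zero_add] at hb1 hb2 hb3
      refine ⟨a, y, ha, hb1, ?_⟩
      rcases Int.even_or_odd k with ⟨k', rfl⟩ | ⟨k', rfl⟩
      · refine Or.inl ⟨?_, by rw [hb2, huinv]⟩
        rw [hb3, hpow _ 0 (by rw [sub_zero, pow_succ (2 : ℤ) (k₀ + 1)]; exact ⟨k', by ring⟩), zpow_zero]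
      · refine Or.inr (Or.inl ⟨?_, by rw [hb2, huinv]⟩)
        rw [hb3, ← zpow_natCast]
        exact hpow _ _ (by push_cast; rw [pow_succ (2 : ℤ) (k₀ + 1)]; exact ⟨k', by ring⟩)
    · -- semidihedral
      have hk : k₀ ≠ 0 := by
        rintro rfl
        refine hnab ⟨t', ?_⟩
        linear_combination ht
      have hodd : IsCoprime ((2 : ℤ) ^ (k₀ + 1)) ((2 : ℤ) ^ k₀ * (2 * t' + 1) - 1) := by
        refine IsCoprime.pow_left ⟨2 ^ (k₀ - 1) * (2 * t' + 1), -1, ?_⟩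
        have h2 : (2 : ℤ) ^ k₀ = 2 ^ (k₀ - 1) * 2 := by
          rw [← pow_succ]; congr 1; omega
        rw [h2]; ring
      have hj2 : (2 : ℤ) ^ (k₀ + 1) ∣ j := by
        refine hodd.dvd_of_dvd_mul_right ?_
        have h3 : (2 : ℤ) * 2 ^ (k₀ + 1) ∣ 2 * (j * (2 ^ k₀ * (2 * t' + 1) - 1)) := by
          rw [← pow_succ']
          have : 2 * (j * ((2 : ℤ) ^ k₀ * (2 * t' + 1) - 1)) = j * (u - 1) := by
            linear_combination -j * ht
          rw [this]; exact hju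
        exact Int.dvd_of_mul_dvd_mul_left two_ne_zero h3
      obtain ⟨k, rfl⟩ := hj2
      obtain ⟨hb1, hb2, hb3⟩ := hb k
      refine ⟨a, a ^ k * y, ha, hb1, Or.inr (Or.inr (Or.inr ⟨by omega, ?_, ?_⟩))⟩
      · rw [hb3, hpow _ 0 ⟨k * (t' + 1), by linear_combination k * ht⟩, zpow_zero]
      · rw [hb2, ← zpow_natCast]
        refine hpow _ _ ⟨t', ?_⟩
        rw [Nat.cast_sub Nat.one_le_two_pow]
        push_cast
        linear_combination ht
  · -- modular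
    have hplus : (2 : ℤ) ^ (k₀ + 1) ∣ u - 1 := by
      have h4 : (2 : ℤ) * 2 * 2 ^ k₀ ∣ 2 * 2 * (x * (x + 1)) := by
        have : 2 * 2 * (x * (x + 1)) = u * u - 1 := by rw [hx]; ring
        rw [this, show (2 : ℤ) * 2 * 2 ^ k₀ = 2 ^ (k₀ + 1 + 1) by ring]
        exact hu2
      have h5 := Int.dvd_of_mul_dvd_mul_left (by norm_num) h4
      rcases Int.even_or_odd x with ⟨r, hr⟩ | ⟨r, hr⟩
      · have hcop : IsCoprime ((2 : ℤ) ^ k₀) (x + 1) :=
          IsCoprime.pow_left ⟨-r, 1, by rw [hr]; ring⟩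
        obtain ⟨s, hs⟩ := hcop.dvd_of_dvd_mul_right h5
        exact ⟨s, by rw [hx, hs]; ring⟩
      · have hcop : IsCoprime ((2 : ℤ) ^ k₀) x := IsCoprime.pow_left ⟨-r, 1, by rw [hr]; ring⟩
        obtain ⟨s, hs⟩ := hcop.dvd_of_dvd_mul_left h5
        exact absurd ⟨s, by rw [hx, show 2 * x + 1 + 1 = 2 * (x + 1) by ring, hs]; ring⟩ hminus
    obtain ⟨t, ht⟩ := hplus
    rcases Int.even_or_odd t with ⟨t', rfl⟩ | ⟨t', rfl⟩
    · exact absurd ⟨t', by rw [ht]; ring⟩ hnab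
    have hk : k₀ ≠ 0 := by
      rintro rfl
      exact hminus ⟨2 * t' + 2, by linear_combination ht⟩
    obtain ⟨k, hk'⟩ : (2 : ℤ) ∣ j := by
      have h2 : (2 : ℤ) ^ (k₀ + 1) * 2 ∣ 2 ^ (k₀ + 1) * (j * (2 * t' + 1)) := by
        rw [← pow_succ]
        have : (2 : ℤ) ^ (k₀ + 1) * (j * (2 * t' + 1)) = j * (u - 1) := by rw [ht]; ring
        rw [this]; exact hju
      exact (show IsCoprime (2 : ℤ) (2 * t' + 1) from ⟨-t', 1, by ring⟩).dvd_of_dvd_mul_right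
        (Int.dvd_of_mul_dvd_mul_left (pow_ne_zero _ two_ne_zero) h2)
    have hcop : IsCoprime (1 + (2 : ℤ) ^ k₀ * (2 * t' + 1)) (2 ^ (k₀ + 1)) := by
      refine IsCoprime.pow_right ⟨1, -(2 ^ (k₀ - 1) * (2 * t' + 1)), ?_⟩
      have h2 : (2 : ℤ) ^ k₀ = 2 ^ (k₀ - 1) * 2 := by
        rw [← pow_succ]; congr 1; omega
      rw [h2]; ring
    obtain ⟨α, β, hαβ⟩ := hcop
    obtain ⟨hb1, hb2, hb3⟩ := hb (-k * α)
    refine ⟨a, a ^ (-k * α) * y, ha, hb1, Or.inr (Or.inr (Or.inl ⟨by omega, ?_, ?_⟩))⟩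
    · rw [hb3, hpow _ 0 ⟨k * β, by linear_combination (-k * α) * ht + hk' - 2 * k * hαβ⟩, zpow_zero]
    · rw [hb2, ← zpow_natCast]
      refine hpow _ _ ⟨t', ?_⟩
      push_cast
      linear_combination ht

end CfsgLib.PGroup
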