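import Cfsg.Agent.Lib.PGroup.CyclicSelfCentralizing
import Cfsg.Agent.Lib.Invol.NormalFour
import Cfsg.Agent.Lib.Frobenius.Fpf
import Cfsg.Agent.Lib.Gagola.FpfAbelian
import Cfsg.Prelude.Def_CaseTheorems

/-!
# Irreducible linear `p`-groups: a normal elementary subgroup of order `p²` splits the module
-/

set_option autoImplicit false
set_option linter.style.haveILetI false

namespace CfsgLib.PGroup.IrredSplit

open Subgroup
open scoped commutatorElement

variable {G : Type*} [Group G] [Finite G] {p : ℕ} [hp : Fact p.Prime]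

/-- A nonabelian `p`-group other than dihedral, quaternion and semidihedral groups has a normal
elementary abelian subgroup of order `p²`. -/
theorem exists_normal_sq (hG : IsPGroup p G) (hna : ¬ IsMulCommutative G)
    (hnq : ∀ n : ℕ, ¬ Nonempty (G ≃* QuaternionGroup n))
    (hnd : ∀ n : ℕ, ¬ Nonempty (G ≃* DihedralGroup n)) (hnsd : ¬ Cfsg.IsQuasiDihedral G) :
    ∃ E : Subgroup G, E.Normal ∧ IsMulCommutative E ∧ (∀ x ∈ E, x ^ p = 1) ∧
      Nat.card E = p ^ 2 := by
  obtain ⟨A, hAn, hAc, hCA⟩ := CfsgLib.Invol.exists_selfCentralizing_normal_abelian hG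
  haveI := hAn
  haveI := hAc
  have hAA : A ≤ centralizer (A : Set G) := le_centralizer_iff_isMulCommutative.2 hAc
  by_cases hA : IsCyclic A
  · obtain ⟨u, hu⟩ := (Subgroup.isCyclic_iff_exists_zpowers_eq_top A).1 hA
    obtain ⟨n, hn⟩ := IsPGroup.iff_orderOf.1 hG u
    obtain ⟨-, h | ⟨-, hel, hcard, hchar⟩⟩ := CfsgLib.PGroup.SelfCent.dichotomy hG hna
      (hu.symm ▸ hAn) hn (by rw [hu]; exact le_antisymm hCA hAA)
    · rcases h.2.2 with ⟨m, hm⟩ | ⟨m, hm⟩ | h
      · exact absurd hm (hnd m)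
      · exact absurd hm (hnq m)
      · exact absurd h hnsd
    · haveI := hchar
      exact ⟨_, inferInstance, hel.1, hel.2, hcard⟩
  · obtain ⟨r, hr, E, hEA, hE, hexp⟩ := CfsgLib.Frobenius.exists_elementary_of_not_isCyclic hA
    have hrp : r = p := by
      obtain ⟨k, hk⟩ := (hG.to_subgroup E).exists_card_eq
      rw [hE] at hk
      exact (Nat.prime_dvd_prime_iff_eq hr hp.out).1
        (hr.dvd_of_dvd_pow (hk ▸ dvd_pow_self r two_ne_zero))
    subst hrp
    let Ω : Subgroup G :=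
      { carrier := {a | a ∈ A ∧ a ^ r = 1}
        one_mem' := ⟨A.one_mem, one_pow _⟩
        mul_mem' := fun {a b} ha hb => ⟨A.mul_mem ha.1 hb.1, by
          rw [(show Commute a b from setLike_mul_comm ha.1 hb.1).mul_pow, ha.2, hb.2, one_mul]⟩
        inv_mem' := fun {a} ha => ⟨A.inv_mem ha.1, by rw [inv_pow, ha.2, inv_one]⟩ }
    haveI : Ω.Normal := ⟨fun a ha g => ⟨hAn.conj_mem a ha.1 g, by
      rw [conj_pow, ha.2, mul_one, mul_inv_cancel]⟩⟩
    have hEΩ : E ≤ Ω := fun x hx => ⟨hEA hx, hexp x hx⟩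
    obtain ⟨k, hk⟩ := (hG.to_subgroup Ω).exists_card_eq
    have h2k : 2 ≤ k := by
      have h := card_dvd_of_le hEΩ
      rw [hE, hk] at h
      exact (Nat.pow_dvd_pow_iff_le_right hp.out.one_lt).1 h
    obtain ⟨B, hBn, hBΩ, hB⟩ := CfsgLib.PGroup.exists_normal_card_le hG 2 k Ω hk h2k
    exact ⟨B, hBn, IsMulCommutative.of_setLike_mul_comm fun a ha b hb =>
      setLike_mul_comm (hBΩ ha).1 (hBΩ hb).1, fun x hx => (hBΩ hx).2, hB⟩

omit [Finite G] in
/-- In a `p`-group a normal subgroup of order `p²` that is not central is `⟨z, e⟩`, `z` central. -/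
theorem exists_pair [Finite G] (hG : IsPGroup p G) {E : Subgroup G} [E.Normal]
    (hE : Nat.card E = p ^ 2) (hEc : ¬ E ≤ center G) :
    ∃ z e : G, z ∈ center G ∧ z ∈ E ∧ orderOf z = p ∧ e ∈ E ∧ e ∉ center G ∧
      (∀ g : G, ∃ k : ℕ, g * e * g⁻¹ = e * z ^ k) := by
  obtain ⟨z, hzE, hzc, hzo⟩ := CfsgLib.PGroup.exists_central_orderOf_eq hG E (fun h => by
    rw [h, card_bot] at hE
    exact (Nat.one_lt_pow two_ne_zero hp.out.one_lt).ne hE)
  obtain ⟨e, heE, hec⟩ := SetLike.not_le_iff_exists.1 hEc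
  haveI : (zpowers z).Normal := ⟨fun x hx g => by
    rw [mem_center_iff.1 (zpowers_le.2 hzc hx) g, mul_inv_cancel_right]
    exact hx⟩
  have hlt : zpowers z < E := lt_of_le_of_ne (zpowers_le.2 hzE)
    fun h => hec (zpowers_le.2 hzc (h.symm ▸ heE))
  obtain ⟨x, hxE, hxz, hxp, hxc⟩ := CfsgLib.PGroup.exists_step hG (zpowers z) E hlt
  have hsup : zpowers z ⊔ zpowers x = E := by
    refine eq_of_le_of_card_ge (sup_le hlt.le (zpowers_le.2 hxE)) ?_
    rw [CfsgLib.PGroup.card_sup_zpowers hxz hxp, Nat.card_zpowers, hzo, hE, sq]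
  have hxC : x ∉ center G := fun h => hec
    ((sup_le (zpowers_le.2 hzc) (zpowers_le.2 h) : zpowers z ⊔ zpowers x ≤ center G) (hsup ▸ heE))
  refine ⟨z, x, hzc, hzE, hzo, hxE, hxC, fun g => ?_⟩
  obtain ⟨k, hk⟩ := (isOfFinOrder_of_finite z).mem_powers_iff_mem_zpowers.2
    (inv_mem (hxc g))
  refine ⟨k, ?_⟩
  have hcm : ∀ i : ℕ, x * z ^ i = z ^ i * x := fun i =>
    mem_center_iff.1 (pow_mem hzc i) x
  rw [hcm, show z ^ k = ⁅x, g⁆⁻¹ from hk, commutatorElement_def]
  group

section Module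

variable {K V : Type*} [Field K] [AddCommGroup V] [Module K V] (ρ : G →* (V ≃ₗ[K] V))

/-- The fixed space of one element. -/
def fix (x : G) : Submodule K V :=
  LinearMap.eqLocus (ρ x : V →ₗ[K] V) LinearMap.id

theorem mem_fix {x : G} {v : V} : v ∈ fix ρ x ↔ ρ x v = v := by
  simp [fix, LinearMap.mem_eqLocus]

theorem fix_map (g x : G) : (fix ρ x).map (ρ g : V →ₗ[K] V) = fix ρ (g * x * g⁻¹) := by
  ext v
  simp only [Submodule.mem_map, mem_fix, LinearEquiv.coe_coe]
  constructor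
  · rintro ⟨w, hw, rfl⟩
    rw [map_mul, map_mul, map_inv]
    simp [hw]
  · intro h
    refine ⟨(ρ g).symm v, ?_, by simp⟩
    rw [map_mul, map_mul, map_inv] at h
    apply (ρ g).injective
    simpa using h

theorem fix_pow {x : G} {v : V} (h : ρ x v = v) (n : ℕ) : ρ (x ^ n) v = v := by
  induction n with
  | zero => simp
  | succ n ih => rw [pow_succ, map_mul, LinearEquiv.mul_apply, h, ih]

/-- The sum over the powers of `x`. -/
def orbSum (n : ℕ) (x : G) (v : V) : V := ∑ i ∈ Finset.range n, ρ (x ^ i) v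

theorem orbSum_mem_fix {n : ℕ} {x : G} (hx : x ^ n = 1) (v : V) : orbSum ρ n x v ∈ fix ρ x := by
  rw [mem_fix, orbSum, map_sum]
  have h1 : ∀ i : ℕ, ρ x (ρ (x ^ i) v) = ρ (x ^ (i + 1)) v := fun i => by
    rw [pow_succ', map_mul, LinearEquiv.mul_apply]
  simp only [h1]
  have h2 := Finset.sum_range_succ (fun i => ρ (x ^ i) v) n
  rw [Finset.sum_range_succ' (fun i => ρ (x ^ i) v) n, hx, pow_zero] at h2
  exact add_right_cancel h2

theorem orbSum_of_fixed {n : ℕ} {x : G} {v : V} (h : ρ x v = v) :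
    orbSum ρ n x v = (n : K) • v := by
  rw [orbSum, Finset.sum_congr rfl fun i _ => fix_pow ρ h i, Finset.sum_const, Finset.card_range,
    ← Nat.cast_smul_eq_nsmul K]

variable {z e : G}

theorem orbSum_central_eq_zero (hz : z ∈ center G) (hzp : z ^ p = 1)
    (hfree : ∀ v : V, ρ z v = v → v = 0) {d : ℕ} (hd : ¬ p ∣ d) (v : V) :
    orbSum ρ p (z ^ d) v = 0 := by
  refine hfree _ ?_
  have h := (mem_fix ρ).1 (orbSum_mem_fix ρ (n := p) (x := z ^ d)
    (by rw [← pow_mul, mul_comm, pow_mul, hzp, one_pow]) v)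
  have hcop : d.Coprime (orderOf z) := ((Nat.Prime.coprime_iff_not_dvd hp.out).2 hd).symm.coprime_dvd_right
    (orderOf_dvd_of_pow_eq_one hzp)
  obtain ⟨b, hb⟩ := exists_pow_eq_self_of_coprime hcop
  have := fix_pow ρ h b
  rwa [hb] at this

/-- The decomposition of the module by the non-central subgroups of `⟨z, e⟩`. -/
theorem split (hz : z ∈ center G) (hzo : orderOf z = p) (hep : e ^ p = 1) (hpK : (p : K) ≠ 0)
    (hfree : ∀ v : V, ρ z v = v → v = 0) :
    iSup (fun i : Fin p => fix ρ (e * z ^ (i : ℕ))) = ⊤ ∧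
      iSupIndep (fun i : Fin p => fix ρ (e * z ^ (i : ℕ))) := by
  have hzp : z ^ p = 1 := hzo ▸ pow_orderOf_eq_one z
  have hez : ∀ i : ℕ, Commute e (z ^ i) := fun i => mem_center_iff.1 (pow_mem hz i) e
  have hord : ∀ i : ℕ, (e * z ^ i) ^ p = 1 := fun i => by
    rw [(hez i).mul_pow, hep, ← pow_mul, mul_comm, pow_mul, hzp, one_pow, one_mul]
  constructor
  · rw [eq_top_iff]
    intro v _
    have hsum : ∑ i : Fin p, orbSum ρ p (e * z ^ (i : ℕ)) v = (p : K) • v := by
      rw [Fin.sum_univ_eq_sum_range (fun i => orbSum ρ p (e * z ^ i) v)]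
      simp only [orbSum]
      rw [Finset.sum_comm, Finset.sum_eq_single 0]
      · simp [← Nat.cast_smul_eq_nsmul K]
      · intro j hj hj0
        have hjp : ¬ p ∣ j := fun h =>
          hj0 (Nat.eq_zero_of_dvd_of_lt h (Finset.mem_range.1 hj))
        have h1 : ∀ i : ℕ, ρ ((e * z ^ i) ^ j) v = ρ (e ^ j) (ρ ((z ^ j) ^ i) v) := fun i => by
          rw [← LinearEquiv.mul_apply, ← map_mul, (hez i).mul_pow, ← pow_mul, ← pow_mul,
            mul_comm i j]
        simp only [h1, ← map_sum]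
        have h0 := orbSum_central_eq_zero ρ hz hzp hfree hjp v
        rw [orbSum] at h0
        rw [h0, map_zero]
      · intro h
        exact absurd (Finset.mem_range.2 hp.out.pos) h
    have hv : v = (p : K)⁻¹ • ∑ i : Fin p, orbSum ρ p (e * z ^ (i : ℕ)) v := by
      rw [hsum, inv_smul_smul₀ hpK]
    rw [hv]
    exact Submodule.smul_mem _ _ (Submodule.sum_mem _ fun i _ =>
      Submodule.mem_iSup_of_mem i (orbSum_mem_fix ρ (hord i) v))
  · intro i
    rw [disjoint_iff, eq_bot_iff]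
    rintro v ⟨hvi, hvj⟩
    have hv0 : orbSum ρ p (e * z ^ (i : ℕ)) v = 0 := by
      let L : V →ₗ[K] V := ∑ k ∈ Finset.range p, (ρ ((e * z ^ (i : ℕ)) ^ k) : V →ₗ[K] V)
      have hL : ∀ w, L w = orbSum ρ p (e * z ^ (i : ℕ)) w := fun w => by
        simp [L, orbSum]
      have hle : (⨆ (j : Fin p) (_ : j ≠ i), fix ρ (e * z ^ (j : ℕ))) ≤ LinearMap.ker L := by
        refine iSup₂_le fun j hj w hw => ?_
        rw [LinearMap.mem_ker, hL]
        rw [mem_fix] at hw
        set d := (i : ℕ) + (p - (j : ℕ)) with hd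
        have hjp : (j : ℕ) < p := j.2
        have hzd : z ^ (i : ℕ) = z ^ (j : ℕ) * z ^ d := by
          rw [← pow_add, show (j : ℕ) + d = (i : ℕ) + p by omega, pow_add, hzp, mul_one]
        have hnd : ¬ p ∣ d := fun h => hj (Fin.ext (by
          obtain ⟨c, hc⟩ := h
          have hip : (i : ℕ) < p := i.2
          rcases c with _ | _ | c
          · simp at hc; omega
          · simp at hc; omega
          · have : p * (c + 1 + 1) = p * c + p + p := by ring
            omega))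
        have hterm : ∀ k : ℕ, ρ ((e * z ^ (i : ℕ)) ^ k) w = ρ ((z ^ d) ^ k) w := fun k => by
          rw [hzd, ← mul_assoc, (Commute.mul_left (mem_center_iff.1 (pow_mem hz d) e)
            (mem_center_iff.1 (pow_mem hz d) _) : Commute (e * z ^ (j : ℕ)) (z ^ d)).mul_pow,
            (show Commute ((e * z ^ (j : ℕ)) ^ k) ((z ^ d) ^ k) from
              mem_center_iff.1 (pow_mem (pow_mem hz d) k) _).eq, map_mul, LinearEquiv.mul_apply,
            fix_pow ρ hw k]
        rw [orbSum, Finset.sum_congr rfl fun k _ => hterm k]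
        exact orbSum_central_eq_zero ρ hz hzp hfree hnd w
      rw [← hL]
      exact LinearMap.mem_ker.1 (hle hvj)
    rw [orbSum_of_fixed ρ ((mem_fix ρ).1 hvi)] at hv0
    exact (Submodule.mem_bot K).2 ((smul_eq_zero.1 hv0).resolve_left hpK)

end Module

end CfsgLib.PGroup.IrredSplit
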