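import Cfsg.Agent.Lib.PGroup.Basic
import Cfsg.Agent.Lib.PGroup.CyclicMaximal
import Cfsg.Agent.Lib.PGroup.MaximalClass
import Cfsg.Agent.S3975
import Cfsg.Agent.Lib.ClassSize.SylowCentralizer
import Mathlib.Data.ZMod.Units
import Mathlib.GroupTheory.SpecificGroups.Cyclic
import Mathlib.Algebra.Group.Conj

/-!
# Kulakoff's theorem on the number of subgroups of given order in a finite p-group
-/

set_option autoImplicit false
set_option linter.style.haveILetI false

namespace CfsgLib.Kulakoff

open Finset CfsgLib.PGroup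

universe u

/-- The number of subgroups of order `q`. -/
noncomputable def numSub (G : Type u) [Group G] (q : ℕ) : ℕ :=
  Nat.card {H : Subgroup G // Nat.card H = q}

variable {G : Type u} [Group G] [Finite G] {p : ℕ}

/-- Subgroups inside `M`. -/
theorem numSub_subgroup (M : Subgroup G) (q : ℕ) :
    numSub M q = Nat.card {H : Subgroup G // Nat.card H = q ∧ H ≤ M} := by
  refine Nat.card_congr
    { toFun := fun H => ⟨H.1.map M.subtype, by rw [Subgroup.card_map_of_injective M.subtype_injective, H.2], Subgroup.map_subtype_le _⟩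
      invFun := fun H => ⟨H.1.subgroupOf M, by rw [Nat.card_congr (Subgroup.subgroupOfEquivOfLe H.2.2).toEquiv, H.2.1]⟩
      left_inv := fun H => Subtype.ext (Subgroup.comap_map_eq_self_of_injective M.subtype_injective _)
      right_inv := fun H => Subtype.ext (Subgroup.map_subgroupOf_eq_of_le H.2.2) }

theorem numSub_one : numSub G 1 = 1 := by
  rw [numSub, Nat.card_eq_one_iff_unique]
  exact ⟨⟨fun H K => Subtype.ext ((Subgroup.card_eq_one.1 H.2).trans (Subgroup.card_eq_one.1 K.2).symm)⟩,
    ⟨⟨⊥, Subgroup.card_bot⟩⟩⟩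

theorem numSub_card : numSub G (Nat.card G) = 1 := by
  rw [numSub, Nat.card_eq_one_iff_unique]
  exact ⟨⟨fun H K => Subtype.ext ((Subgroup.eq_top_of_card_eq _ H.2).trans (Subgroup.eq_top_of_card_eq _ K.2).symm)⟩,
    ⟨⟨⊤, Subgroup.card_top⟩⟩⟩

theorem numSub_modEq_one (hp : p.Prime) {n k : ℕ} (hG : Nat.card G = p ^ n) (hk : k ≤ n) :
    numSub G (p ^ k) ≡ 1 [MOD p] :=
  Cfsg.Agent.S3975.result p k hp (hG ▸ pow_dvd_pow p hk)

/-- The elements of order dividing `p` and the subgroups of order `p`. -/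
theorem card_pow_eq_one [Fact p.Prime] :
    Nat.card {x : G // x ^ p = 1} = (p - 1) * numSub G p + 1 := by
  classical
  cases nonempty_fintype G
  cases nonempty_fintype (Subgroup G)
  have hp : p.Prime := Fact.out
  rw [Nat.card_eq_fintype_card, Fintype.card_subtype,
    ← Finset.card_erase_add_one (s := univ.filter fun x : G => x ^ p = 1) (a := 1) (by simp)]
  congr 1
  rw [Finset.card_eq_sum_card_fiberwise (f := fun x : G => Subgroup.zpowers x)
    (t := univ.filter fun H : Subgroup G => Nat.card H = p) (fun x hx => by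
      simp only [Finset.mem_coe, Finset.mem_erase, Finset.mem_filter, Finset.mem_univ, true_and] at hx ⊢
      rw [Nat.card_zpowers, orderOf_eq_prime hx.2 hx.1])]
  rw [Finset.sum_congr rfl (g := fun _ => p - 1) (fun H hH => ?_), Finset.sum_const, smul_eq_mul, mul_comm,
    numSub, Nat.card_eq_fintype_card, Fintype.card_subtype]
  rw [Finset.mem_filter] at hH
  have e : ((univ.filter fun x : G => x ^ p = 1).erase 1).filter (fun x => Subgroup.zpowers x = H) =
      (univ.filter fun x : G => x ∈ H).erase 1 := by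
    ext x
    simp only [Finset.mem_filter, Finset.mem_erase, Finset.mem_univ, true_and]
    constructor
    · rintro ⟨⟨h1, -⟩, rfl⟩
      exact ⟨h1, Subgroup.mem_zpowers x⟩
    · rintro ⟨h1, h2⟩
      have hxp : x ^ p = 1 := hH.2 ▸ congrArg Subtype.val (pow_card_eq_one' (x := (⟨x, h2⟩ : H)))
      exact ⟨⟨h1, hxp⟩, Subgroup.eq_of_le_of_card_ge (Subgroup.zpowers_le.2 h2)
        (by rw [hH.2, Nat.card_zpowers, orderOf_eq_prime hxp h1])⟩
  rw [e, Finset.card_erase_of_mem (by simp), ← Fintype.card_subtype, ← Nat.card_eq_fintype_card]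
  congr 1
  exact hH.2

/-- A group of order `p ^ 2` of exponent `p` has `p + 1` subgroups of order `p`. -/
theorem numSub_elementary [Fact p.Prime] (hG : Nat.card G = p ^ 2) (hexp : ∀ x : G, x ^ p = 1) :
    numSub G p = p + 1 := by
  have hp : p.Prime := Fact.out
  have h := card_pow_eq_one (G := G) (p := p)
  rw [Nat.card_congr (Equiv.subtypeUnivEquiv hexp), hG] at h
  have h1 : (p - 1) * (p + 1) + 1 = p ^ 2 := by
    obtain ⟨q, hq⟩ := Nat.exists_eq_add_of_le' hp.one_le
    subst hq
    rw [Nat.add_sub_cancel]; ring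
  exact Nat.eq_of_mul_eq_mul_left (by have := hp.two_le; omega : 0 < p - 1) (by omega)

/-- Subgroups of `G ⧸ D` and subgroups of `G` above `D`. -/
theorem card_above (D : Subgroup G) [D.Normal] (q : ℕ) :
    Nat.card {U : Subgroup G // D ≤ U ∧ U.index = q} = Nat.card {U : Subgroup (G ⧸ D) // U.index = q} := by
  have hs : Function.Surjective (QuotientGroup.mk' D) := QuotientGroup.mk'_surjective D
  have hself : ∀ U : Subgroup G, D ≤ U → (U.map (QuotientGroup.mk' D)).comap (QuotientGroup.mk' D) = U :=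
    fun U hU => Subgroup.comap_map_eq_self (by rw [QuotientGroup.ker_mk']; exact hU)
  refine Nat.card_congr
    { toFun := fun U => ⟨U.1.map (QuotientGroup.mk' D), by
        rw [Subgroup.index_map_eq _ hs (by rw [QuotientGroup.ker_mk']; exact U.2.1), U.2.2]⟩
      invFun := fun U => ⟨U.1.comap (QuotientGroup.mk' D), (QuotientGroup.ker_mk' D).ge.trans (Subgroup.ker_le_comap _ _),
        by rw [Subgroup.index_comap_of_surjective _ hs, U.2]⟩
      left_inv := fun U => Subtype.ext (hself U.1 U.2.1)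
      right_inv := fun U => Subtype.ext (Subgroup.map_comap_eq_self_of_surjective hs _) }

theorem card_index_eq (hp : p.Prime) {n i : ℕ} (hG : Nat.card G = p ^ n) (hi : i ≤ n) :
    Nat.card {U : Subgroup G // U.index = p ^ i} = numSub G (p ^ (n - i)) := by
  refine Nat.card_congr (Equiv.subtypeEquivRight fun U => ?_)
  have h := U.card_mul_index
  rw [hG, show n = n - i + i by omega, pow_add] at h
  constructor
  · intro hU
    rw [hU] at h
    exact Nat.eq_of_mul_eq_mul_right (pow_pos hp.pos i) h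
  · intro hU
    rw [hU] at h
    exact Nat.eq_of_mul_eq_mul_left (pow_pos hp.pos _) h

/-- Maximal subgroups of an elementary abelian group. -/
theorem numSub_hyperplanes [Fact p.Prime] {d : ℕ} (hG : Nat.card G = p ^ (d + 2))
    (hexp : ∀ x : G, x ^ p = 1) (hcomm : ∀ x y : G, x * y = y * x) :
    numSub G (p ^ (d + 1)) ≡ 1 + p [MOD p ^ 2] := by
  classical
  have hp : p.Prime := Fact.out
  cases nonempty_fintype (Subgroup G)
  have hnorm : ∀ U : Subgroup G, U.Normal := fun U => ⟨fun x hx g => by rwa [hcomm g x, mul_inv_cancel_right]⟩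
  obtain ⟨M0, hM0⟩ := Sylow.exists_subgroup_card_pow_prime p (G := G) (n := d + 1) (hG ▸ pow_dvd_pow p (by omega))
  have hmax : ∀ U : Subgroup G, Nat.card U = p ^ (d + 1) → U.index = p := by
    intro U hU
    have h := U.card_mul_index
    rw [hU, hG, pow_succ p (d + 1)] at h
    exact Nat.eq_of_mul_eq_mul_left (pow_pos hp.pos _) h
  have hinter : ∀ U : Subgroup G, Nat.card U = p ^ (d + 1) → U ≠ M0 → Nat.card ↥(U ⊓ M0) = p ^ d := by
    intro U hU hne
    haveI := hnorm U
    have hsup : U ⊔ M0 = ⊤ := by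
      have h1 : (U ⊔ M0).index ∣ p := hmax U hU ▸ Subgroup.index_dvd_of_le le_sup_left
      rcases (Nat.dvd_prime hp).1 h1 with h | h
      · exact Subgroup.index_eq_one.1 h
      · exfalso
        apply hne
        have h2 := (U ⊔ M0).card_mul_index
        rw [h, hG, pow_succ p (d + 1)] at h2
        have h3 : Nat.card ↥(U ⊔ M0) = p ^ (d + 1) := Nat.eq_of_mul_eq_mul_right hp.pos h2
        rw [Subgroup.eq_of_le_of_card_ge (le_sup_left : U ≤ U ⊔ M0) (h3.trans hU.symm).le]
        exact (Subgroup.eq_of_le_of_card_ge (le_sup_right : M0 ≤ U ⊔ M0) (h3.trans hM0.symm).le).symm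
    have h4 : U.relIndex M0 = p := by
      rw [← Subgroup.relIndex_sup_left, hsup, Subgroup.relIndex_top_right, hmax U hU]
    have h5 := Subgroup.relIndex_mul_relIndex ⊥ (U ⊓ M0) M0 bot_le inf_le_right
    rw [Subgroup.relIndex_bot_left, Subgroup.relIndex_bot_left, Subgroup.inf_relIndex_right, h4, hM0, pow_succ] at h5
    exact Nat.eq_of_mul_eq_mul_right hp.pos h5
  have hfib : ∀ W : Subgroup G, Nat.card W = p ^ d → W ≤ M0 →
      (((univ.filter fun U : Subgroup G => Nat.card U = p ^ (d + 1)).erase M0).filter (fun U => U ⊓ M0 = W)).card = p := by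
    intro W hW hWM
    haveI := hnorm W
    have hWi : W.index = p ^ 2 := by
      have h := W.card_mul_index
      rw [hW, hG, pow_add] at h
      exact Nat.eq_of_mul_eq_mul_left (pow_pos hp.pos _) h
    have hQ : Nat.card (G ⧸ W) = p ^ 2 := hWi
    have habove : (univ.filter fun U : Subgroup G => W ≤ U ∧ U.index = p).card = p + 1 := by
      rw [← Fintype.card_subtype, ← Nat.card_eq_fintype_card, card_above W p,
        ← numSub_elementary (G := G ⧸ W) hQ (by
          intro x
          obtain ⟨y, rfl⟩ := QuotientGroup.mk'_surjective W x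
          rw [← map_pow, hexp, map_one])]
      have := card_index_eq (G := G ⧸ W) hp hQ (show 1 ≤ 2 by omega)
      simpa using this
    have e : ((univ.filter fun U : Subgroup G => Nat.card U = p ^ (d + 1)).erase M0).filter (fun U => U ⊓ M0 = W) =
        (univ.filter fun U : Subgroup G => W ≤ U ∧ U.index = p).erase M0 := by
      ext U
      simp only [Finset.mem_filter, Finset.mem_erase, Finset.mem_univ, true_and]
      constructor
      · rintro ⟨⟨h1, h2⟩, rfl⟩
        exact ⟨h1, inf_le_left, hmax U h2⟩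
      · rintro ⟨h1, h2, h3⟩
        have hU : Nat.card U = p ^ (d + 1) := by
          have h := U.card_mul_index
          rw [h3, hG, pow_succ p (d + 1)] at h
          exact Nat.eq_of_mul_eq_mul_right hp.pos h
        exact ⟨⟨h1, hU⟩, (Subgroup.eq_of_le_of_card_ge (le_inf h2 hWM) ((hinter U hU h1).trans hW.symm).le).symm⟩
    rw [e, Finset.card_erase_of_mem (by simp [hWM, hmax M0 hM0]), habove, Nat.add_sub_cancel]
  have htot : numSub G (p ^ (d + 1)) = p * numSub M0 (p ^ d) + 1 := by
    rw [numSub, Nat.card_eq_fintype_card, Fintype.card_subtype,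
      ← Finset.card_erase_add_one (a := M0) (by simp [hM0])]
    congr 1
    rw [Finset.card_eq_sum_card_fiberwise (f := fun U : Subgroup G => U ⊓ M0)
      (t := univ.filter fun W : Subgroup G => Nat.card W = p ^ d ∧ W ≤ M0) (fun U hU => by
        simp only [Finset.mem_coe, Finset.mem_erase, Finset.mem_filter, Finset.mem_univ, true_and] at hU ⊢
        exact ⟨hinter U hU.2 hU.1, inf_le_right⟩),
      Finset.sum_congr rfl (g := fun _ => p) (fun W hW => hfib W (Finset.mem_filter.1 hW).2.1 (Finset.mem_filter.1 hW).2.2),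
      Finset.sum_const, smul_eq_mul, numSub_subgroup, Nat.card_eq_fintype_card, Fintype.card_subtype, mul_comm]
  have h := numSub_modEq_one (G := M0) hp hM0 (show d ≤ d + 1 by omega)
  rw [htot, show 1 + p = p * 1 + 1 by ring, pow_two]
  exact (Nat.ModEq.mul_left' p h).add_right 1

/-- Above the Frattini subgroup. -/
theorem frattini_counts [Fact p.Prime] (hGp : IsPGroup p G) (H : Subgroup G) (hH : H ≠ ⊤) :
    ((Nat.card {M : Subgroup G // H ≤ M ∧ M.index = p} : ℤ) -
      p * (Nat.card {N : Subgroup G // H ≤ N ∧ frattini G ≤ N ∧ N.index = p ^ 2} : ℤ)) ≡ 1 [ZMOD (p : ℤ) ^ 2] := by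
  have hp : p.Prime := Fact.out
  set D := H ⊔ frattini G with hD
  have hDtop : D ≠ ⊤ := fun h => hH (frattini_nongenerating h)
  haveI : D.Normal := by
    refine Subgroup.Normal.of_commutator_le G ?_
    exact (commutator_le_frattini hGp).trans le_sup_right
  have hexp : ∀ x : G ⧸ D, x ^ p = 1 := by
    intro x
    obtain ⟨y, rfl⟩ := QuotientGroup.mk'_surjective D x
    rw [← map_pow, QuotientGroup.mk'_apply, QuotientGroup.eq_one_iff]
    exact (le_sup_right : frattini G ≤ D) (pow_mem_frattini hGp y)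
  have hcomm : ∀ x y : G ⧸ D, x * y = y * x := by
    intro x y
    obtain ⟨a, rfl⟩ := QuotientGroup.mk'_surjective D x
    obtain ⟨b, rfl⟩ := QuotientGroup.mk'_surjective D y
    rw [← commutatorElement_eq_one_iff_mul_comm, ← map_commutatorElement, QuotientGroup.mk'_apply,
      QuotientGroup.eq_one_iff]
    exact (le_sup_right : frattini G ≤ D) (commutator_le_frattini hGp
      (Subgroup.commutator_mem_commutator (Subgroup.mem_top a) (Subgroup.mem_top b)))
  have hmaxle : ∀ M : Subgroup G, M.index = p → frattini G ≤ M := by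
    intro M hM
    refine frattini_le_coatom ⟨fun h => ?_, fun b hb => ?_⟩
    · rw [h, Subgroup.index_top] at hM
      exact hp.ne_one hM.symm
    · rcases (Nat.dvd_prime hp).1 (hM ▸ Subgroup.index_dvd_of_le hb.le) with h | h
      · exact Subgroup.index_eq_one.1 h
      · exfalso
        have h1 := Subgroup.relIndex_mul_index hb.le
        rw [h, hM] at h1
        exact hb.not_ge (Subgroup.relIndex_eq_one.1 (by
          simpa [Nat.mul_eq_right hp.ne_zero] using h1))
  have e1 : Nat.card {M : Subgroup G // H ≤ M ∧ M.index = p} = Nat.card {U : Subgroup (G ⧸ D) // U.index = p} := by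
    rw [← card_above D p]
    exact Nat.card_congr (Equiv.subtypeEquivRight fun M =>
      ⟨fun h => ⟨sup_le h.1 (hmaxle M h.2), h.2⟩, fun h => ⟨le_sup_left.trans h.1, h.2⟩⟩)
  have e2 : Nat.card {N : Subgroup G // H ≤ N ∧ frattini G ≤ N ∧ N.index = p ^ 2} =
      Nat.card {U : Subgroup (G ⧸ D) // U.index = p ^ 2} := by
    rw [← card_above D (p ^ 2)]
    exact Nat.card_congr (Equiv.subtypeEquivRight fun N =>
      ⟨fun h => ⟨sup_le h.1 h.2.1, h.2.2⟩, fun h => ⟨le_sup_left.trans h.1, le_sup_right.trans h.1, h.2⟩⟩)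
  obtain ⟨e, he⟩ := IsPGroup.iff_card.1 (hGp.to_quotient D)
  rcases e with _ | _ | d
  · exfalso
    apply hDtop
    rwa [← Subgroup.index_eq_one, Subgroup.index_eq_card]
  · have h1 := card_index_eq (G := G ⧸ D) hp he (show 1 ≤ 0 + 1 by omega)
    simp only [Nat.sub_self, pow_zero, pow_one, zero_add] at h1
    have h2 : Nat.card {U : Subgroup (G ⧸ D) // U.index = p ^ 2} = 0 := by
      rw [Nat.card_eq_zero]
      refine Or.inl ⟨fun U => ?_⟩
      have h3 := Subgroup.index_dvd_card U.1
      rw [U.2, he, Nat.pow_dvd_pow_iff_le_right hp.one_lt] at h3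
      omega
    rw [e1, e2, h2, h1, numSub_one]
    simp
  · have h1 := card_index_eq (G := G ⧸ D) hp he (show 1 ≤ d + 1 + 1 by omega)
    have h2 := card_index_eq (G := G ⧸ D) hp he (show 2 ≤ d + 1 + 1 by omega)
    rw [pow_one] at h1
    rw [e1, e2, h1, h2]
    have h3 := numSub_hyperplanes (G := G ⧸ D) (d := d) he hexp hcomm
    have h4 := numSub_modEq_one (G := G ⧸ D) hp he (show d + 1 + 1 - 2 ≤ d + 1 + 1 by omega)
    rw [show d + 1 + 1 - 1 = d + 1 by omega]
    have h5 := Int.natCast_modEq_iff.2 (Nat.ModEq.mul_left' p h4)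
    have h6 := Int.natCast_modEq_iff.2 h3
    push_cast at h5 h6
    rw [← pow_two] at h5
    have := h6.sub h5
    simpa using this

open scoped Classical in
/-- Hall's enumeration principle modulo `p ^ 2`. -/
theorem hall_enumeration [Fact p.Prime] (hGp : IsPGroup p G) (q : ℕ) (hq : q < Nat.card G)
    [Fintype (Subgroup G)] [DecidableEq (Subgroup G)] :
    (numSub G q : ℤ) ≡ ∑ M ∈ Finset.univ.filter (fun M : Subgroup G => M.index = p), (numSub M q : ℤ) -
      p * ∑ N ∈ Finset.univ.filter (fun N : Subgroup G => frattini G ≤ N ∧ N.index = p ^ 2), (numSub N q : ℤ)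
      [ZMOD (p : ℤ) ^ 2] := by
  classical
  set S := Finset.univ.filter fun H : Subgroup G => Nat.card H = q with hS
  have hsub : ∀ X : Subgroup G, (numSub X q : ℤ) = ∑ H ∈ S, if H ≤ X then (1 : ℤ) else 0 := by
    intro X
    rw [Finset.sum_boole, numSub_subgroup, Nat.card_eq_fintype_card, Fintype.card_subtype, hS, Finset.filter_filter]
  have hcnt : ∀ (P : Subgroup G → Prop) [DecidablePred P],
      ∑ X ∈ Finset.univ.filter P, (numSub X q : ℤ) = ∑ H ∈ S, (Nat.card {X : Subgroup G // H ≤ X ∧ P X} : ℤ) := by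
    intro P _
    rw [Finset.sum_congr rfl fun X _ => hsub X, Finset.sum_comm]
    refine Finset.sum_congr rfl fun H _ => ?_
    rw [Finset.sum_boole, Finset.filter_filter, Nat.card_eq_fintype_card, Fintype.card_subtype]
    congr 2
    ext X
    simp [and_comm]
  rw [hcnt, hcnt, Finset.mul_sum, ← Finset.sum_sub_distrib]
  have hn : (numSub G q : ℤ) = ∑ H ∈ S, (1 : ℤ) := by
    rw [numSub, Nat.card_eq_fintype_card, Fintype.card_subtype, hS]
    simp
  rw [hn]
  refine Int.ModEq.sum fun H hH => (frattini_counts hGp H fun h => ?_).symm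
  rw [hS, Finset.mem_filter, h, Subgroup.card_top] at hH
  omega

/-- A group with the elements of order `p` forming a subgroup `K` of order `p ^ 2` with cyclic quotient. -/
theorem numSub_of_omega [Fact p.Prime] {m : ℕ} (hG : Nat.card G = p ^ m) (K : Subgroup G) [K.Normal]
    (hK : Nat.card K = p ^ 2) (hKm : ∀ x : G, x ∈ K ↔ x ^ p = 1) (hQ : IsCyclic (G ⧸ K))
    {k : ℕ} (hk1 : 1 ≤ k) (hk : k < m) : numSub G (p ^ k) = p + 1 := by
  classical
  cases nonempty_fintype G
  cases nonempty_fintype (Subgroup G)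
  have hp : p.Prime := Fact.out
  obtain ⟨k, rfl⟩ : ∃ j, k = j + 1 := ⟨k - 1, by omega⟩
  rcases k with _ | k
  · rw [zero_add, pow_one]
    have h := card_pow_eq_one (G := G) (p := p)
    rw [← Nat.card_congr (Equiv.subtypeEquivRight hKm)] at h
    rw [hK] at h
    have h1 : (p - 1) * (p + 1) + 1 = p ^ 2 := by
      obtain ⟨q, hq⟩ := Nat.exists_eq_add_of_le' hp.one_le
      subst hq
      rw [Nat.add_sub_cancel]; ring
    exact Nat.eq_of_mul_eq_mul_left (by have := hp.two_le; omega : 0 < p - 1) (by omega)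
  have hQc : Nat.card (G ⧸ K) = p ^ (m - 2) := by
    have h := K.card_mul_index
    rw [hK, hG, show m = 2 + (m - 2) by omega, pow_add] at h
    exact Nat.eq_of_mul_eq_mul_left (pow_pos hp.pos _) h
  have hsol : ∀ x : G, ∀ j, x ^ p ^ (j + 1) = 1 ↔ (QuotientGroup.mk' K x) ^ p ^ j = 1 := by
    intro x j
    rw [← map_pow, QuotientGroup.mk'_apply, QuotientGroup.eq_one_iff, hKm, ← pow_mul, pow_succ]
  have hnum : ∀ j, j ≤ m - 2 → (univ.filter fun x : G => x ^ p ^ (j + 1) = 1).card = p ^ (j + 2) := by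
    intro j hj
    obtain ⟨L, hL⟩ := Sylow.exists_subgroup_card_pow_prime p (G := G ⧸ K) (n := j) (hQc ▸ pow_dvd_pow p hj)
    have e : ∀ x : G, x ^ p ^ (j + 1) = 1 ↔ x ∈ L.comap (QuotientGroup.mk' K) := by
      intro x
      rw [hsol, Subgroup.mem_comap]
      cases nonempty_fintype (G ⧸ K)
      have hle : Nat.card {y : G ⧸ K // y ^ p ^ j = 1} ≤ p ^ j := by
        rw [Nat.card_eq_fintype_card, Fintype.card_subtype]
        exact IsCyclic.card_pow_eq_one_le (pow_pos hp.pos j)
      exact ((CfsgLib.Counting.eq_solutions_of_card L _ hL hle).1 _).symm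
    rw [← Fintype.card_subtype, ← Nat.card_eq_fintype_card, Nat.card_congr (Equiv.subtypeEquivRight e)]
    show Nat.card ↥(L.comap (QuotientGroup.mk' K)) = _
    have h1 := (L.comap (QuotientGroup.mk' K)).card_mul_index
    rw [Subgroup.index_comap_of_surjective _ (QuotientGroup.mk'_surjective K)] at h1
    have h2 := L.card_mul_index
    rw [hL, hQc] at h2
    rw [hG, show p ^ m = p ^ 2 * p ^ (m - 2) by rw [← pow_add]; congr 1; omega, ← h2, ← mul_assoc] at h1
    rw [pow_add, mul_comm (p ^ j)]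
    exact Nat.eq_of_mul_eq_mul_right (Nat.pos_of_ne_zero Subgroup.index_ne_zero_of_finite) h1
  -- the cyclic subgroups
  have hcyc : (univ.filter fun H : Subgroup G => Nat.card H = p ^ (k + 2) ∧ IsCyclic H).card = p := by
    set X := (univ.filter fun x : G => x ^ p ^ (k + 1 + 1) = 1) \ (univ.filter fun x : G => x ^ p ^ (k + 1) = 1) with hX
    have hXc : X.card = p ^ (k + 3) - p ^ (k + 2) := by
      rw [hX, Finset.card_sdiff_of_subset, hnum (k + 1) (by omega), hnum k (by omega)]
      intro x hx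
      simp only [Finset.mem_filter, Finset.mem_univ, true_and] at hx ⊢
      rw [pow_succ p (k + 1), pow_mul, hx, one_pow]
    have hord : ∀ x : G, x ∈ X ↔ orderOf x = p ^ (k + 2) := by
      intro x
      simp only [hX, Finset.mem_sdiff, Finset.mem_filter, Finset.mem_univ, true_and]
      constructor
      · rintro ⟨h1, h2⟩; exact orderOf_eq_prime_pow h2 h1
      · intro h
        refine ⟨by rw [← h]; exact pow_orderOf_eq_one x, fun h1 => ?_⟩
        have h2 := orderOf_dvd_of_pow_eq_one h1
        rw [h, Nat.pow_dvd_pow_iff_le_right hp.one_lt] at h2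
        omega
    have hfib := Finset.card_eq_sum_card_fiberwise (s := X) (f := fun x : G => Subgroup.zpowers x)
      (t := univ.filter fun H : Subgroup G => Nat.card H = p ^ (k + 2) ∧ IsCyclic H) (fun x hx => by
        simp only [Finset.mem_coe, Finset.mem_filter, Finset.mem_univ, true_and]
        exact ⟨by rw [Nat.card_zpowers, (hord x).1 hx], inferInstance⟩)
    rw [hXc, Finset.sum_congr rfl (g := fun _ => p ^ (k + 2) - p ^ (k + 1)) (fun H hH => ?_), Finset.sum_const,
      smul_eq_mul] at hfib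
    · have h1 : p ^ (k + 3) - p ^ (k + 2) = p * (p ^ (k + 2) - p ^ (k + 1)) := by
        rw [Nat.mul_sub, ← pow_succ', ← pow_succ']
      rw [h1] at hfib
      refine (Nat.eq_of_mul_eq_mul_right ?_ hfib).symm
      exact Nat.sub_pos_of_lt (Nat.pow_lt_pow_right hp.one_lt (by omega))
    · rw [Finset.mem_filter] at hH
      obtain ⟨-, hHc, hHcy⟩ := hH
      have e : X.filter (fun x => Subgroup.zpowers x = H) =
          (univ.filter fun x : H => orderOf x = p ^ (k + 2)).map ⟨Subtype.val, Subtype.val_injective⟩ := by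
        ext x
        simp only [Finset.mem_filter, Finset.mem_map, Finset.mem_univ, true_and, Function.Embedding.coeFn_mk]
        constructor
        · rintro ⟨h1, rfl⟩
          exact ⟨⟨x, Subgroup.mem_zpowers x⟩, by rw [← Subgroup.orderOf_coe]; exact (hord x).1 h1, rfl⟩
        · rintro ⟨y, hy, rfl⟩
          rw [← Subgroup.orderOf_coe] at hy
          exact ⟨(hord _).2 hy, Subgroup.eq_of_le_of_card_ge (Subgroup.zpowers_le.2 y.2)
            (by rw [Nat.card_zpowers, hy, hHc])⟩
      rw [e, Finset.card_map, IsCyclic.card_orderOf_eq_totient (α := H)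
        (by rw [← Nat.card_eq_fintype_card, hHc]), Nat.totient_prime_pow hp (by omega)]
      rw [show k + 2 - 1 = k + 1 by omega, Nat.mul_sub, mul_one, ← pow_succ]
  have hnoncyc : (univ.filter fun H : Subgroup G => Nat.card H = p ^ (k + 2) ∧ ¬ IsCyclic H).card = 1 := by
    obtain ⟨L, hL⟩ := Sylow.exists_subgroup_card_pow_prime p (G := G ⧸ K) (n := k) (hQc ▸ pow_dvd_pow p (by omega))
    have hset : ∀ H : Subgroup G, Nat.card H = p ^ (k + 2) → K ≤ H → ∀ x, x ∈ H ↔ x ^ p ^ (k + 1) = 1 := by
      intro H hH hKH x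
      haveI : (K.subgroupOf H).Normal := inferInstance
      have hsub : ∀ y ∈ H, y ^ p ^ (k + 1) = 1 := by
        intro y hy
        rw [hsol]
        have h1 : K.relIndex H = p ^ k := by
          have h2 := Subgroup.relIndex_mul_relIndex ⊥ K H bot_le hKH
          rw [Subgroup.relIndex_bot_left, Subgroup.relIndex_bot_left, hK, hH, pow_add, mul_comm (p ^ k)] at h2
          exact Nat.eq_of_mul_eq_mul_left (pow_pos hp.pos 2) h2
        rw [← map_pow, QuotientGroup.mk'_apply, QuotientGroup.eq_one_iff, ← h1]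
        exact (K.subgroupOf H).pow_index_mem ⟨y, hy⟩
      have hset' : (univ.filter fun y : G => y ∈ H) = univ.filter fun y : G => y ^ p ^ (k + 1) = 1 := by
        refine Finset.eq_of_subset_of_card_le (fun y hy => ?_) (le_of_eq ?_)
        · simp only [Finset.mem_filter, Finset.mem_univ, true_and] at hy ⊢
          exact hsub y hy
        · rw [hnum k (by omega), ← Fintype.card_subtype, ← Nat.card_eq_fintype_card]
          exact hH.symm
      simpa using Finset.ext_iff.1 hset' x
    have hKH : ∀ H : Subgroup G, Nat.card H = p ^ (k + 2) → ¬ IsCyclic H → K ≤ H := by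
      intro H hH hnc
      by_contra hKH
      apply hnc
      set f : H →* G ⧸ K := (QuotientGroup.mk' K).comp H.subtype
      have hker : f.ker = K.subgroupOf H := by
        rw [← MonoidHom.comap_ker, QuotientGroup.ker_mk']; rfl
      have hD : Nat.card f.ker ∣ p := by
        rw [hker]
        have h1 : Nat.card (K.subgroupOf H) = Nat.card ↥(K ⊓ H) := by
          rw [← Subgroup.inf_subgroupOf_right, Nat.card_congr (Subgroup.subgroupOfEquivOfLe inf_le_right).toEquiv]
        rw [h1]
        have h2 : Nat.card ↥(K ⊓ H) ∣ p ^ 2 := hK ▸ Subgroup.card_dvd_of_le inf_le_left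
        obtain ⟨i, hi, hi'⟩ := (Nat.dvd_prime_pow hp).1 h2
        rw [hi']
        refine (pow_dvd_pow p (?_ : i ≤ 1)).trans (pow_one p).dvd
        by_contra hi2
        exact hKH (Subgroup.eq_of_le_of_card_ge inf_le_left (by rw [hK, hi', show i = 2 by omega]) ▸ inf_le_right)
      haveI : IsCyclic f.range := Subgroup.isCyclic _
      obtain ⟨⟨g0, y, rfl⟩, hy⟩ := IsCyclic.exists_generator (α := f.range)
      have hgen : ∀ u : H, ∃ i : ℤ, (y ^ i)⁻¹ * u ∈ f.ker := by
        intro u
        obtain ⟨i, hi⟩ := Subgroup.mem_zpowers_iff.1 (hy ⟨f u, u, rfl⟩)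
        refine ⟨i, ?_⟩
        rw [MonoidHom.mem_ker, map_mul, map_inv, map_zpow, inv_mul_eq_one]
        exact congrArg Subtype.val hi
      by_cases hy1 : y = 1
      · exfalso
        have htop : f.ker = ⊤ := eq_top_iff.2 fun u _ => by
          obtain ⟨i, hi⟩ := hgen u
          rwa [hy1, one_zpow, inv_one, one_mul] at hi
        rw [htop, Subgroup.card_top, hH] at hD
        conv at hD => rhs; rw [← pow_one p]
        rw [Nat.pow_dvd_pow_iff_le_right hp.one_lt] at hD
        omega
      obtain ⟨j, hj, hjo⟩ := (Nat.dvd_prime_pow hp).1 (hH ▸ orderOf_dvd_natCard y)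
      have hj0 : j ≠ 0 := fun h => hy1 (orderOf_eq_one_iff.1 (by rw [hjo, h, pow_zero]))
      set z := y ^ p ^ (j - 1)
      have hz : orderOf z = p := by
        have := orderOf_pow_orderOf_div (n := p) (orderOf_pos y).ne' (hjo ▸ dvd_pow_self p hj0)
        rwa [hjo, Nat.pow_div (by omega) hp.pos |> fun h => (show p ^ j / p = p ^ (j - 1) by
          rw [← h, pow_one])] at this
      have hzk : z ∈ f.ker := by
        rw [hker, Subgroup.mem_subgroupOf, hKm, ← Subgroup.coe_pow, ← hz, pow_orderOf_eq_one, Subgroup.coe_one]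
      have hkz : Subgroup.zpowers z = f.ker := Subgroup.eq_of_le_of_card_ge (Subgroup.zpowers_le.2 hzk)
        (by rw [Nat.card_zpowers, hz]; exact Nat.le_of_dvd hp.pos hD)
      refine ⟨⟨y, fun u => ?_⟩⟩
      obtain ⟨i, hi⟩ := hgen u
      have := (Subgroup.zpowers_le.2 (Subgroup.pow_mem _ (Subgroup.mem_zpowers y) _) : Subgroup.zpowers z ≤ Subgroup.zpowers y) (hkz ▸ hi)
      have h2 := mul_mem (Subgroup.zpow_mem _ (Subgroup.mem_zpowers y) i) this
      rwa [mul_inv_cancel_left] at h2
    rw [Finset.card_eq_one]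
    refine ⟨L.comap (QuotientGroup.mk' K), ?_⟩
    have hLK : K ≤ L.comap (QuotientGroup.mk' K) := (QuotientGroup.ker_mk' K).ge.trans (Subgroup.ker_le_comap _ _)
    have hLc : Nat.card ↥(L.comap (QuotientGroup.mk' K)) = p ^ (k + 2) := by
      have h1 := (L.comap (QuotientGroup.mk' K)).card_mul_index
      rw [Subgroup.index_comap_of_surjective _ (QuotientGroup.mk'_surjective K)] at h1
      have h2 := L.card_mul_index
      rw [hL, hQc] at h2
      rw [hG, show p ^ m = p ^ 2 * p ^ (m - 2) by rw [← pow_add]; congr 1; omega, ← h2, ← mul_assoc] at h1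
      rw [pow_add, mul_comm (p ^ k)]
      exact Nat.eq_of_mul_eq_mul_right (Nat.pos_of_ne_zero Subgroup.index_ne_zero_of_finite) h1
    ext H
    simp only [Finset.mem_filter, Finset.mem_univ, true_and, Finset.mem_singleton]
    constructor
    · rintro ⟨hH, hnc⟩
      exact Subgroup.ext fun x => (hset H hH (hKH H hH hnc) x).trans (hset _ hLc hLK x).symm
    · rintro rfl
      refine ⟨hLc, fun hc => ?_⟩
      have hKc : IsCyclic K := isCyclic_of_injective (Subgroup.inclusion hLK) (Subgroup.inclusion_injective hLK)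
      obtain ⟨g, hg⟩ := hKc.exists_generator
      have h1 : orderOf g = p ^ 2 := by
        rw [orderOf_eq_card_of_forall_mem_zpowers hg, hK]
      have h2 : orderOf g ∣ p := orderOf_dvd_of_pow_eq_one (Subtype.ext ((hKm _).1 g.2))
      rw [h1] at h2
      have := Nat.le_of_dvd hp.pos h2
      have := hp.two_le
      nlinarith
  have hun := Finset.card_union_of_disjoint (s := univ.filter fun H : Subgroup G => Nat.card H = p ^ (k + 2) ∧ IsCyclic H)
    (t := univ.filter fun H : Subgroup G => Nat.card H = p ^ (k + 2) ∧ ¬ IsCyclic H)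
    (Finset.disjoint_filter.2 fun H _ h1 h2 => h2.2 h1.2)
  rw [hcyc, hnoncyc] at hun
  rw [numSub, Nat.card_eq_fintype_card, Fintype.card_subtype, ← hun]
  congr 1
  ext H
  by_cases hc : IsCyclic H <;>
    simp only [Finset.mem_union, Finset.mem_filter, Finset.mem_univ, true_and, hc, and_true, and_false,
      not_true_eq_false, not_false_eq_true, or_false, false_or]

/-- A 2-group with a cyclic subgroup of index two on which an outer element acts by `a ↦ a ^ r`,
`r ≡ 1 mod 4`: the elements of order at most two form a subgroup of order four. -/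
theorem omega_two (A : Subgroup G) (a : G) (hA : A = Subgroup.zpowers a) (hi : A.index = 2)
    (hnc : ¬ IsCyclic G) {s : ℕ} (hs : orderOf a = 2 ^ s) (b : G) (hb : b ∉ A) (r : ℤ)
    (hbr : b * a * b⁻¹ = a ^ r) (hr : (4 : ℤ) ∣ r - 1) :
    ∃ K : Subgroup G, Nat.card K = 2 ^ 2 ∧ (∀ x : G, x ∈ K ↔ x ^ 2 = 1) ∧ A ⊔ K = ⊤ := by
  haveI : Fact (Nat.Prime 2) := ⟨Nat.prime_two⟩
  haveI hAn : A.Normal := Subgroup.normal_of_index_eq_two hi
  obtain ⟨q, hq⟩ := hr
  have hb2 : b * b ∈ A := by rw [← sq, ← hi]; exact A.pow_index_mem b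
  obtain ⟨j, hj⟩ := Subgroup.mem_zpowers_iff.1 (hA ▸ hb2)
  have hcos : ∀ x : G, x ∉ A → ∃ i : ℤ, x = a ^ i * b := by
    intro x hx
    have h1 : x * b⁻¹ ∈ A := by
      rw [Subgroup.mul_mem_iff_of_index_two hi]
      simp [hx, hb]
    obtain ⟨i, hi'⟩ := Subgroup.mem_zpowers_iff.1 (hA ▸ h1)
    exact ⟨i, by rw [hi', inv_mul_cancel_right]⟩
  have hpw : ∀ i : ℤ, (a ^ i * b) * (a ^ i * b) = a ^ (i * (1 + r) + j) := by
    intro i
    calc (a ^ i * b) * (a ^ i * b) = a ^ i * (b * a ^ i * b⁻¹) * (b * b) := by group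
      _ = a ^ i * a ^ (r * i) * a ^ j := by rw [← conj_zpow, hbr, ← zpow_mul, hj]
      _ = _ := by rw [← zpow_add, ← zpow_add]; congr 1; ring
  have hodd : Int.gcd (1 + 2 * q) (2 ^ s : ℕ) = 1 := by
    rw [← Int.isCoprime_iff_gcd_eq_one]
    push_cast
    exact (IsCoprime.symm ⟨-q, 1, by ring⟩ : IsCoprime (1 + 2 * q) 2).pow_right
  have hjeven : (2 : ℤ) ∣ j := by
    by_contra hjo
    apply hnc
    refine ⟨⟨b, fun x => ?_⟩⟩
    have hc : IsCoprime j ((2 ^ s : ℕ) : ℤ) := by
      push_cast
      exact ((Int.prime_two.coprime_iff_not_dvd).2 hjo).symm.pow_right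
    obtain ⟨u, v, huv⟩ := hc
    have ha : a ∈ Subgroup.zpowers b := by
      refine Subgroup.mem_zpowers_iff.2 ⟨2 * u, ?_⟩
      rw [zpow_mul, zpow_two, ← hj, ← zpow_mul]
      conv_rhs => rw [← zpow_one a, ← huv]
      rw [zpow_eq_zpow_iff_modEq, hs, Int.modEq_iff_dvd]
      exact ⟨v, by ring⟩
    by_cases hx : x ∈ A
    · rw [hA] at hx
      exact Subgroup.zpowers_le.2 ha hx
    · obtain ⟨i, rfl⟩ := hcos x hx
      exact mul_mem (Subgroup.zpow_mem _ ha i) (Subgroup.mem_zpowers b)
  obtain ⟨c, hc⟩ := hjeven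
  obtain ⟨u, v, huv⟩ := Int.isCoprime_iff_gcd_eq_one.2 hodd
  set i0 := -(c * u) with hi0
  set w := a ^ i0 * b with hw
  have hw2 : w * w = 1 := by
    rw [hw, hpw, ← orderOf_dvd_iff_zpow_eq_one, hs]
    refine ⟨2 * c * v, ?_⟩
    rw [hi0, hc, show r = 1 + 4 * q by linarith]
    linear_combination (-2 * c) * huv
  have hwA : w ∉ A := fun h => hb (by
    have h2 := mul_mem (inv_mem (hA ▸ Subgroup.zpow_mem _ (Subgroup.mem_zpowers a) i0 : a ^ i0 ∈ A)) h
    rwa [hw, inv_mul_cancel_left] at h2)
  have hs0 : s ≠ 0 := by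
    intro h
    apply hnc
    have h1 : A = ⊥ := by
      rw [hA, Subgroup.zpowers_eq_bot, ← orderOf_eq_one_iff, hs, h, pow_zero]
    rw [h1, Subgroup.index_bot] at hi
    exact isCyclic_of_prime_card hi
  set z := a ^ (2 ^ (s - 1) : ℕ)
  have hzo : orderOf z = 2 := by
    have h1 : 2 ^ s = 2 ^ (s - 1) * 2 := by rw [← pow_succ]; congr 1; omega
    rw [orderOf_pow_of_dvd (by positivity) (by rw [hs, h1]; exact dvd_mul_right _ _), hs, h1,
      Nat.mul_div_cancel_left _ (by positivity)]
  have hwa : w * a * w⁻¹ = a ^ r := by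
    rw [hw, show a ^ i0 * b * a * (a ^ i0 * b)⁻¹ = a ^ i0 * (b * a * b⁻¹) * (a ^ i0)⁻¹ by group, hbr]
    group
  have hzw : Commute w z := by
    have h1 : w * z * w⁻¹ = z := by
      rw [← conj_pow, hwa, ← zpow_natCast (a ^ r), ← zpow_mul]
      show a ^ (r * ((2 ^ (s - 1) : ℕ) : ℤ)) = a ^ (2 ^ (s - 1) : ℕ)
      rw [← zpow_natCast a (2 ^ (s - 1)), zpow_eq_zpow_iff_modEq, hs, Int.modEq_iff_dvd]
      refine ⟨-(2 * q), ?_⟩
      rw [show r = 1 + 4 * q by linarith, show 2 ^ s = 2 ^ (s - 1) * 2 by rw [← pow_succ]; congr 1; omega]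
      push_cast; ring
    exact mul_inv_eq_iff_eq_mul.1 h1
  have hznA : z ∈ A := hA ▸ Subgroup.pow_mem _ (Subgroup.mem_zpowers a) _
  have hsolA : ∀ x ∈ A, x ^ 2 = 1 → x = 1 ∨ x = z := by
    intro x hx hx2
    obtain ⟨i, rfl⟩ := Subgroup.mem_zpowers_iff.1 (hA ▸ hx)
    have h1 : ((2 ^ s : ℕ) : ℤ) ∣ i * 2 := by
      rw [← hs, orderOf_dvd_iff_zpow_eq_one, zpow_mul]
      exact_mod_cast hx2
    rw [show 2 ^ s = 2 ^ (s - 1) * 2 by rw [← pow_succ]; congr 1; omega] at h1
    push_cast at h1
    obtain ⟨t, ht⟩ := (mul_dvd_mul_iff_right (by norm_num : (2 : ℤ) ≠ 0)).1 h1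
    rw [ht, zpow_mul, show a ^ ((2 : ℤ) ^ (s - 1)) = z from (by show _ = a ^ (2 ^ (s - 1) : ℕ); rw [← zpow_natCast a (2 ^ (s - 1))]; congr 1),
      ← zpow_mod_orderOf, hzo]
    rcases Int.emod_two_eq_zero_or_one t with h | h
    · left; rw [show ((2 : ℕ) : ℤ) = 2 by rfl, h, zpow_zero]
    · right; rw [show ((2 : ℕ) : ℤ) = 2 by rfl, h, zpow_one]
  let K : Subgroup G :=
    { carrier := {x | x ^ 2 = 1}
      one_mem' := one_pow 2
      inv_mem' := fun {x} hx => by
        show x⁻¹ ^ 2 = 1
        rw [inv_pow, show x ^ 2 = 1 from hx, inv_one]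
      mul_mem' := by
        intro x y hx hy
        have key : ∀ x : G, x ^ 2 = 1 → ∃ ε δ : ℕ, x = z ^ ε * w ^ δ := by
          intro x hx
          by_cases hxA : x ∈ A
          · rcases hsolA x hxA hx with rfl | rfl
            · exact ⟨0, 0, by simp⟩
            · exact ⟨1, 0, by simp⟩
          · have hxw : x * w ∈ A := by
              rw [Subgroup.mul_mem_iff_of_index_two hi]; simp [hxA, hwA]
            obtain ⟨i, hi'⟩ := Subgroup.mem_zpowers_iff.1 (hA ▸ hxw)
            have hxe : x = a ^ i * w := by rw [hi', mul_assoc, hw2, mul_one]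
            have h1 : (a ^ i) * (w * a ^ i * w⁻¹) = 1 := by
              rw [hxe, sq] at hx
              rw [show w⁻¹ = w from inv_eq_of_mul_eq_one_right hw2]
              simpa [mul_assoc] using hx
            rw [← conj_zpow, hwa, ← zpow_mul, ← zpow_add, ← orderOf_dvd_iff_zpow_eq_one, hs] at h1
            have h2 : ((2 ^ s : ℕ) : ℤ) ∣ i * 2 := by
              refine (Int.isCoprime_iff_gcd_eq_one.2 hodd).symm.dvd_of_dvd_mul_right ?_
              rw [show i * 2 * (1 + 2 * q) = i + r * i by rw [show r = 1 + 4 * q by linarith]; ring]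
              exact h1
            rw [← hs, orderOf_dvd_iff_zpow_eq_one, zpow_mul] at h2
            rcases hsolA (a ^ i) (hA ▸ Subgroup.zpow_mem _ (Subgroup.mem_zpowers a) i) (by exact_mod_cast h2) with h | h
            · exact ⟨0, 1, by rw [hxe, h]; simp⟩
            · exact ⟨1, 1, by rw [hxe, h]; simp⟩
        obtain ⟨e1, d1, rfl⟩ := key x hx
        obtain ⟨e2, d2, rfl⟩ := key y hy
        have hc1 : z ^ e1 * w ^ d1 * (z ^ e2 * w ^ d2) = z ^ (e1 + e2) * w ^ (d1 + d2) := by
          rw [pow_add, pow_add, mul_assoc (z ^ e1), ← mul_assoc (w ^ d1), (hzw.pow_pow d1 e2).eq]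
          group
        show (z ^ e1 * w ^ d1 * (z ^ e2 * w ^ d2)) ^ 2 = 1
        have hz2 : z ^ 2 = 1 := orderOf_dvd_iff_pow_eq_one.1 hzo.dvd
        rw [hc1, ((hzw.pow_pow _ _).symm).mul_pow, pow_right_comm z, pow_right_comm w, hz2, sq w, hw2,
          one_pow, one_pow, mul_one] }
  have hKmem : ∀ x : G, x ∈ K ↔ x ^ 2 = 1 := fun x => Iff.rfl
  refine ⟨K, ?_, hKmem, ?_⟩
  · classical
    cases nonempty_fintype G
    have hKA : Nat.card ↥(A ⊓ K) = 2 := by
      refine (congrArg (fun U : Subgroup G => Nat.card U) (?_ : A ⊓ K = Subgroup.zpowers z)).trans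
        ((Nat.card_zpowers z).trans hzo)
      refine le_antisymm (fun x hx => ?_) (le_inf (Subgroup.zpowers_le.2 hznA)
        (Subgroup.zpowers_le.2 (by rw [hKmem, ← hzo, pow_orderOf_eq_one])))
      rcases hsolA x hx.1 ((hKmem x).1 hx.2) with rfl | rfl
      · exact one_mem _
      · exact Subgroup.mem_zpowers z
    have hrel : A.relIndex K = 2 := by
      have h1 : A.relIndex K ∣ A.index := Subgroup.relIndex_dvd_index_of_normal A K
      rw [hi] at h1
      rcases (Nat.dvd_prime Nat.prime_two).1 h1 with h | h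
      · exact absurd (Subgroup.relIndex_eq_one.1 h ((hKmem w).2 (by rw [sq, hw2]))) hwA
      · exact h
    have h2 := Subgroup.relIndex_mul_relIndex ⊥ (A ⊓ K) K bot_le inf_le_right
    rw [Subgroup.relIndex_bot_left, Subgroup.relIndex_bot_left, Subgroup.inf_relIndex_right, hKA, hrel] at h2
    rw [← h2]; norm_num
  · refine Subgroup.index_eq_one.1 ?_
    have h1 : (A ⊔ K).index ∣ 2 := hi ▸ Subgroup.index_dvd_of_le le_sup_left
    rcases (Nat.dvd_prime Nat.prime_two).1 h1 with h | h
    · exact h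
    · exfalso
      refine hwA (Subgroup.eq_of_le_of_card_ge (le_sup_left : A ≤ A ⊔ K) ?_ ▸
        Subgroup.mem_sup_right ((hKmem w).2 (by rw [sq, hw2])))
      have h3 := A.card_mul_index
      rw [hi, ← (A ⊔ K).card_mul_index, h] at h3
      omega

end CfsgLib.Kulakoff
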