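import Cfsg.Agent.Lib.MaxClassUniform.Basic
import Cfsg.Agent.Lib.PGroup.PowerMap
import Mathlib.FieldTheory.Finite.Basic

/-!
# Powers in `p`-groups of maximal class

A group of maximal class of order `p ^ (p + 1)` does not have exponent `p` (Blackburn), and any
subgroup `H` of a group of maximal class has `|H : ℧₁(H)| ≤ p ^ p`.

For the first part we argue by Hall–Petrescu in `(Fin (p - 1) → S) × (C_p ≀ C_p)` with the pairs
`(s, …, s)`, `(y, y ^ 2, …, y ^ (p - 1))`, so that the part linear in `y` can be separated.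
-/

set_option autoImplicit false
set_option linter.style.haveILetI false
set_option linter.unusedSectionVars false

open Subgroup
open scoped commutatorElement

namespace CfsgLib.PGroup.MaxClassPowers

open Cfsg.Agent.S3806 (MaxClass twoStep exists_avoid eq_top_of_sup_commutator)
open CfsgLib.MaxClassUniform

universe u

variable {S : Type u} [Group S]

local notation "L" => Subgroup.lowerCentralSeries (⊤ : Subgroup S)

theorem commutator_pow_mod (N : Subgroup S) [N.Normal] {u v : S}
    (hc : ∀ g : S, ⁅⁅u, v⁆, g⁆ ∈ N) (i j : ℕ) :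
    QuotientGroup.mk' N ⁅u ^ i, v ^ j⁆ = QuotientGroup.mk' N ⁅u, v⁆ ^ (i * j) := by
  set π := QuotientGroup.mk' N
  have hcomm : ∀ x : S ⧸ N, Commute ⁅π u, π v⁆ x := fun x => by
    obtain ⟨g, rfl⟩ := QuotientGroup.mk'_surjective N x
    rw [← map_commutatorElement, ← commutatorElement_eq_one_iff_commute, ← map_commutatorElement,
      QuotientGroup.mk'_apply, QuotientGroup.eq_one_iff]
    exact hc g
  have h1 : ⁅π u ^ i, π v⁆ = ⁅π u, π v⁆ ^ i :=
    CfsgLib.PGroup.commutator_pow_left _ _ (hcomm _).symm i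
  have h2 : ⁅π v ^ j, π u ^ i⁆ = ⁅π v, π u ^ i⁆ ^ j := by
    refine CfsgLib.PGroup.commutator_pow_left _ _ ?_ j
    rw [← commutatorElement_inv, h1]
    exact ((hcomm _).pow_left i).symm.inv_right
  rw [map_commutatorElement, map_pow, map_pow, map_commutatorElement, ← commutatorElement_inv, h2,
    ← inv_pow, commutatorElement_inv, h1, ← pow_mul]

theorem comm_comm_mem {m : ℕ} {u : S} (hu : u ∈ L m) (v g : S) : ⁅⁅u, v⁆, g⁆ ∈ L (m + 2) :=
  comm_mem_succ (comm_mem_succ hu v) g

variable [Finite S] {p n : ℕ} [Fact p.Prime]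

theorem zpowers_sup_next (h : MaxClass p n S) {i : ℕ} (hi1 : 1 ≤ i) (hi : i + 1 ≤ n - 1) {x : S}
    (hx : x ∈ L i) (hx' : x ∉ L (i + 1)) : zpowers x ⊔ L (i + 1) = L i := by
  refine eq_of_le_of_card_ge
    (sup_le (zpowers_le.2 hx) (Subgroup.lowerCentralSeries_antitone _ (Nat.le_succ i))) ?_
  have hlt : L (i + 1) < zpowers x ⊔ L (i + 1) :=
    lt_of_le_of_ne le_sup_right fun e => hx' (e ▸ mem_sup_left (mem_zpowers x))
  have h1 := CfsgLib.FusionMaxClass.mul_card_le h.card hlt
  rwa [h.card_layer (by omega) hi, ← pow_succ', show n - 1 - (i + 1) + 1 = n - 1 - i by omega,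
    ← h.card_layer hi1 (by omega)] at h1

theorem sum_pow_eq_zero {q t : ℕ} [Fact q.Prime] (ht0 : 0 < t) (ht : ¬ (q - 1) ∣ t) :
    (q : ℤ) ∣ ∑ e ∈ Finset.range (q - 1), ((e + 1 : ℕ) : ℤ) ^ t := by
  classical
  have hq : q.Prime := Fact.out
  rw [← ZMod.intCast_zmod_eq_zero_iff_dvd]
  push_cast
  have h1 := FiniteField.sum_pow_units (ZMod q) t
  rw [ZMod.card, if_neg ht] at h1
  have h0 : ∑ x : ZMod q, x ^ t = 0 := by
    rw [← Finset.sum_add_sum_compl {(0 : ZMod q)}, Finset.sum_singleton, zero_pow ht0.ne', zero_add]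
    conv_rhs => rw [← h1]
    refine (Finset.sum_bij (fun (u : (ZMod q)ˣ) _ => (u : ZMod q)) (fun u _ => by simp)
      (fun a _ b _ hab => Units.ext hab) (fun b hb => ?_) fun u _ => rfl).symm
    exact ⟨Units.mk0 b (by simpa using hb), Finset.mem_univ _, rfl⟩
  obtain ⟨r, rfl⟩ : ∃ r, q = r + 1 := ⟨q - 1, by have := hq.pos; omega⟩
  rw [Nat.add_sub_cancel]
  have h2 : ∑ x : ZMod (r + 1), x ^ t = ∑ e ∈ Finset.range (r + 1), ((e : ℕ) : ZMod (r + 1)) ^ t := by
    refine Finset.sum_bij (fun x _ => x.val) (fun x _ => Finset.mem_range.2 (ZMod.val_lt x))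
      (fun a _ b _ hab => ZMod.val_injective _ hab) (fun b hb => ⟨(b : ZMod (r + 1)), Finset.mem_univ _, ?_⟩)
      fun x _ => by rw [ZMod.natCast_zmod_val]
    exact ZMod.val_natCast_of_lt (Finset.mem_range.1 hb)
  rw [h2, Finset.sum_range_succ'] at h0
  simpa [zero_pow ht0.ne'] using h0

theorem exists_pow_ne_one (h : MaxClass p (p + 1) S) : ∃ x : S, x ^ p ≠ 1 := by
  classical
  by_contra hexp
  push Not at hexp
  have hp : p.Prime := Fact.out
  have h2 := hp.two_le
  haveI := h.nilpotent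
  obtain ⟨s, hs, -⟩ := exists_uniform h (⊥ : Subgroup S) (fun e => h.ne (by
    rw [eq_bot_iff, e]
    exact le_top))
  obtain ⟨y, hy1, hy2, -, -⟩ := h.exists_gen (i := 0) (by omega) (notMem_zero h hs.notMem)
  let E : Fin (p - 1) → ℕ := fun k => k + 1
  let W := Wp p
  let LW : ℕ → Subgroup W := fun m => (⊤ : Subgroup W).lowerCentralSeries m
  let D := (Fin (p - 1) → S) × W
  let a : D := (fun _ => s, wTop p)
  let b : D := (fun k => y ^ E k, wBase p)
  let B : ℕ → Subgroup D := fun m => (Subgroup.pi Set.univ fun _ => L (m + 1)).prod (LW (m + 1))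
  let gen : ℕ → Set D := fun m =>
    {x | ∃ w z, 2 ≤ w ∧ w ≤ m ∧ z ∈ L m ∧ x = (fun k => z ^ E k ^ w, 1)}
  let r : ℕ → S := fun m => m.rec y fun _ x => ⁅x, s⁆
  let c : ℕ → D := fun m => m.rec b fun _ x => ⁅x, a⁆
  let T : ℕ → Subgroup D := fun m => closure ({c m} ∪ gen m) ⊔ B m
  have hmemB : ∀ m (x : D), x ∈ B m ↔ (∀ k, x.1 k ∈ L (m + 1)) ∧ x.2 ∈ LW (m + 1) := fun m x =>
    Subgroup.mem_prod.trans (and_congr_left' ⟨fun hx k => (Subgroup.mem_pi _).1 hx k (Set.mem_univ _),
      fun hx => (Subgroup.mem_pi _).2 fun k _ => hx k⟩)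
  have hr : ∀ m, r m ∈ L m ∧ (1 ≤ m → m ≤ p - 1 → r m ∉ L (m + 1)) := by
    intro m
    induction m with
    | zero => exact ⟨mem_top _, fun h0 => by omega⟩
    | succ m ih =>
      refine ⟨comm_mem_succ ih.1 s, fun _ hm => ?_⟩
      rcases Nat.eq_zero_or_pos m with rfl | hm0
      · exact hy2
      · exact h.comm_notMem hm0 (by omega) (hs.avoid m hm0 (by omega)) ih.1 (ih.2 hm0 (by omega))
  have hc : ∀ m, (∀ k, (c m).1 k ∈ L m) ∧ (c m).2 ∈ LW m ∧ (c m).2.right = 1 ∧
      ∀ k, ((c m).1 k)⁻¹ * r m ^ E k ∈ L (m + 1) := by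
    intro m
    induction m with
    | zero => exact ⟨fun _ => mem_top _, mem_top _, rfl, fun k => by
        show (y ^ E k)⁻¹ * y ^ E k ∈ _
        rw [inv_mul_cancel]; exact one_mem _⟩
    | succ m ih =>
      refine ⟨fun k => comm_mem_succ (ih.1 k) s, comm_mem_succ (S := W) ih.2.1 _, ?_, fun k => ?_⟩
      · show (⁅(c m).2, wTop p⁆).right = 1
        rw [← RegularWreathProduct.rightHom_eq_right, map_commutatorElement,
          commutatorElement_eq_one_iff_mul_comm]
        exact mul_comm _ _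
      · show (⁅(c m).1 k, s⁆)⁻¹ * ⁅r m, s⁆ ^ E k ∈ L (m + 2)
        haveI : (L (m + 2)).Normal := normal_of_characteristic _
        obtain ⟨w, hw, hrw⟩ : ∃ w ∈ L (m + 1), r m ^ E k = (c m).1 k * w :=
          ⟨_, ih.2.2.2 k, by rw [mul_inv_cancel_left]⟩
        have e1 := commutator_pow_mod (L (m + 2)) (fun g => comm_comm_mem (hr m).1 s g) (E k) 1
        rw [pow_one, mul_one, hrw, show ⁅(c m).1 k * w, s⁆ = (c m).1 k * ⁅w, s⁆ * ((c m).1 k)⁻¹
          * ⁅(c m).1 k, s⁆ by simp only [commutatorElement_def]; group, map_mul] at e1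
        have e2 : QuotientGroup.mk' (L (m + 2)) ((c m).1 k * ⁅w, s⁆ * ((c m).1 k)⁻¹) = 1 := by
          rw [QuotientGroup.mk'_apply, QuotientGroup.eq_one_iff]
          exact Subgroup.Normal.conj_mem inferInstance _ (comm_mem_succ hw s) _
        rw [e2, one_mul] at e1
        rw [← QuotientGroup.eq_one_iff (N := L (m + 2)), ← QuotientGroup.mk'_apply, map_mul, map_inv,
          map_pow, ← e1, inv_mul_cancel]
  have hgenmem : ∀ m, ∀ x ∈ ({c m} ∪ gen m : Set D), (∀ k, x.1 k ∈ L m) ∧ x.2 ∈ LW m ∧ x.2.right = 1 := by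
    rintro m x (rfl | ⟨w, z, -, -, hz, rfl⟩)
    · exact ⟨(hc m).1, (hc m).2.1, (hc m).2.2.1⟩
    · exact ⟨fun k => pow_mem hz _, one_mem _, rfl⟩
  have hBn : ∀ m, (B m).Normal := fun m => by
    refine ⟨fun x hx g => ?_⟩
    rw [hmemB] at hx ⊢
    refine ⟨fun k => ?_, ?_⟩
    · haveI : (L (m + 1)).Normal := normal_of_characteristic _
      exact Subgroup.Normal.conj_mem inferInstance _ (hx.1 k) (g.1 k)
    · haveI : (LW (m + 1)).Normal := normal_of_characteristic _
      exact Subgroup.Normal.conj_mem inferInstance _ hx.2 g.2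
  have hTn : ∀ m, (T m).Normal := fun m => by
    haveI := hBn m
    refine ⟨fun x hx g => ?_⟩
    have hle : T m ≤ (T m).comap (MulAut.conj g).toMonoidHom := by
      refine sup_le ((closure_le _).2 fun z hz => ?_) fun z hz => ?_
      · show g * z * g⁻¹ ∈ T m
        have h1 : ⁅z, g⁆ ∈ B m := (hmemB m _).2
          ⟨fun k => comm_mem_succ ((hgenmem m z hz).1 k) (g.1 k),
            comm_mem_succ (S := W) (hgenmem m z hz).2.1 g.2⟩
        rw [show g * z * g⁻¹ = ⁅z, g⁆⁻¹ * z by
          rw [commutatorElement_inv, commutatorElement_def, inv_mul_cancel_right]]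
        exact mul_mem (inv_mem (mem_sup_right h1)) (mem_sup_left (subset_closure hz))
      · exact mem_sup_right ((hBn m).conj_mem z hz g)
    exact hle hx
  have hTbase : ∀ m, 1 ≤ m → ∀ x ∈ T m, (∀ k, x.1 k ∈ L 1) ∧ x.2.right = 1 := by
    intro m hm
    have hle : T m ≤ (Subgroup.pi Set.univ fun _ => L 1).prod
        (RegularWreathProduct.rightHom : W →* Cp p).ker := by
      refine sup_le ((closure_le _).2 fun z hz => ?_) fun z hz => ?_
      · exact Subgroup.mem_prod.2 ⟨Subgroup.mem_pi _ |>.2 fun k _ =>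
          Subgroup.lowerCentralSeries_antitone _ hm ((hgenmem m z hz).1 k), (hgenmem m z hz).2.2⟩
      · rw [hmemB] at hz
        refine Subgroup.mem_prod.2 ⟨Subgroup.mem_pi _ |>.2 fun k _ =>
          Subgroup.lowerCentralSeries_antitone _ (by omega) (hz.1 k), ?_⟩
        exact Abelianization.commutator_subset_ker _ (Subgroup.top_lowerCentralSeries_one (G := W) ▸
          Subgroup.lowerCentralSeries_antitone _ (by omega : 1 ≤ m + 1) hz.2)
    intro x hx
    have := Subgroup.mem_prod.1 (hle hx)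
    exact ⟨fun k => (Subgroup.mem_pi _).1 this.1 k (Set.mem_univ _), this.2⟩
  set H := closure ({a, b} : Set D)
  have haH : a ∈ H := subset_closure (Set.mem_insert a _)
  have hbH : b ∈ H := subset_closure (Set.mem_insert_of_mem a rfl)
  have hT1 : ⁅H, H⁆ ≤ T 1 := by
    haveI := hTn 1
    refine commutator_closure_le _ ?_
    simp only [Set.mem_insert_iff, Set.mem_singleton_iff]
    rintro x (rfl | rfl) z (rfl | rfl)
    · rw [commutatorElement_self]; exact one_mem _
    · rw [← commutatorElement_inv]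
      exact inv_mem (mem_sup_left (subset_closure (Or.inl rfl)))
    · exact mem_sup_left (subset_closure (Or.inl rfl))
    · rw [commutatorElement_self]; exact one_mem _
  have hstep : ∀ m, 1 ≤ m → ⁅T m, H⁆ ≤ T (m + 1) := by
    intro m hm
    haveI := hTn (m + 1)
    haveI : (L (m + 2)).Normal := normal_of_characteristic _
    have e : T m = closure (({c m} ∪ gen m) ∪ (B m : Set D)) := by
      rw [Subgroup.closure_union, Subgroup.closure_eq]
    have hclose : ∀ (x : D) (w : ℕ) (z : S), x.2 = 1 → z ∈ L (m + 1) → 2 ≤ w → w ≤ m + 1 →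
        (∀ k, QuotientGroup.mk' (L (m + 2)) (x.1 k) = QuotientGroup.mk' (L (m + 2)) z ^ E k ^ w) →
        x ∈ T (m + 1) := by
      intro x w z hx2 hz hw2 hwm hk
      set g : D := (fun k => z ^ E k ^ w, 1)
      have hg : g ∈ T (m + 1) := mem_sup_left (subset_closure (Or.inr ⟨w, z, hw2, hwm, hz, rfl⟩))
      have hrest : g⁻¹ * x ∈ T (m + 1) := by
        refine mem_sup_right ((hmemB _ _).2 ⟨fun k => ?_, ?_⟩)
        · show (z ^ E k ^ w)⁻¹ * x.1 k ∈ L (m + 2)
          rw [← QuotientGroup.eq_one_iff (N := L (m + 2)), ← QuotientGroup.mk'_apply, map_mul, map_inv,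
            hk, map_pow, inv_mul_cancel]
        · show (1 : W)⁻¹ * x.2 ∈ _
          rw [hx2, inv_one, mul_one]; exact one_mem _
      have := mul_mem hg hrest
      rwa [mul_inv_cancel_left] at this
    rw [e]
    refine commutator_closure_le _ ?_
    rintro x ((rfl | ⟨w, z, hw2, hwm, hz, rfl⟩) | hx) v hv
    · simp only [Set.mem_insert_iff, Set.mem_singleton_iff] at hv
      rcases hv with rfl | rfl
      · exact mem_sup_left (subset_closure (Or.inl rfl))
      · refine hclose _ 2 ⁅r m, y⁆ ?_ (comm_mem_succ (hr m).1 y) le_rfl (by omega) fun k => ?_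
        · show ⁅(c m).2, wBase p⁆ = 1
          exact commutatorElement_eq_one_iff_commute.2 (base_comm p (hc m).2.2.1 rfl)
        · show QuotientGroup.mk' _ ⁅(c m).1 k, y ^ E k⁆ = _
          obtain ⟨t, ht, hct⟩ : ∃ t ∈ L (m + 1), (c m).1 k = r m ^ E k * t :=
            ⟨_, inv_mem ((hc m).2.2.2 k), by group⟩
          rw [hct, show ⁅r m ^ E k * t, y ^ E k⁆ = r m ^ E k * ⁅t, y ^ E k⁆ * (r m ^ E k)⁻¹
            * ⁅r m ^ E k, y ^ E k⁆ by simp only [commutatorElement_def]; group, map_mul,
            commutator_pow_mod (L (m + 2)) (fun g => comm_comm_mem (hr m).1 y g), ← sq,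
            show QuotientGroup.mk' (L (m + 2)) (r m ^ E k * ⁅t, y ^ E k⁆ * (r m ^ E k)⁻¹) = 1 by
              rw [QuotientGroup.mk'_apply, QuotientGroup.eq_one_iff]
              exact Subgroup.Normal.conj_mem inferInstance _ (comm_mem_succ ht _) _, one_mul]
    · simp only [Set.mem_insert_iff, Set.mem_singleton_iff] at hv
      rcases hv with rfl | rfl
      · refine hclose _ w ⁅z, s⁆ (commutatorElement_one_left _) (comm_mem_succ hz s) hw2 (by omega)
          fun k => ?_
        show QuotientGroup.mk' _ ⁅z ^ E k ^ w, s⁆ = _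
        conv_lhs => rw [← pow_one s]
        rw [commutator_pow_mod (L (m + 2)) (fun g => comm_comm_mem hz s g), mul_one]
      · refine hclose _ (w + 1) ⁅z, y⁆ (commutatorElement_one_left _) (comm_mem_succ hz y) (by omega)
          (by omega) fun k => ?_
        show QuotientGroup.mk' _ ⁅z ^ E k ^ w, y ^ E k⁆ = _
        rw [commutator_pow_mod (L (m + 2)) (fun g => comm_comm_mem hz y g), ← pow_succ]
    · refine mem_sup_right ((hmemB _ _).2 ⟨fun k => ?_, ?_⟩)
      · exact comm_mem_succ (((hmemB m x).1 hx).1 k) _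
      · exact comm_mem_succ (S := W) ((hmemB m x).1 hx).2 _
  haveI := hTn (p - 1)
  have hm := mul_pow_mem H (T (p - 1)) (lcs_subgroup_le H T hT1 hstep _ (by omega))
    (fun x hx => by
      obtain ⟨-, hx2⟩ := hTbase 1 le_rfl x (hT1 hx)
      have : x ^ p = 1 := Prod.ext (funext fun k => hexp _) (pow_base p hx2)
      rw [this]; exact one_mem _) haH hbH
  set u := (a ^ p * b ^ p)⁻¹ * (a * b) ^ p
  have hu2 : u.2 = (wTop p * wBase p) ^ p := by
    show ((wTop p) ^ p * (wBase p) ^ p)⁻¹ * (wTop p * wBase p) ^ p = _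
    rw [wTop_pow, pow_base p (w := wBase p) rfl, mul_one, inv_one, one_mul]
  have hu1 : ∀ k, u.1 k = 1 := fun k => by
    show (s ^ p * (y ^ E k) ^ p)⁻¹ * (s * y ^ E k) ^ p = 1
    simp only [hexp, one_mul, inv_one]
  -- the functional selecting the part linear in `y`
  haveI hLn : (L p).Normal := normal_of_characteristic _
  have htop : L p = ⊥ := by
    have := h.top
    rwa [Nat.add_sub_cancel] at this
  have hcen : ∀ z ∈ L (p - 1), ∀ g : S, Commute z g := fun z hz g => by
    rw [← commutatorElement_eq_one_iff_commute, ← mem_bot, ← htop,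
      show p = p - 1 + 1 by omega]
    exact comm_mem_succ hz g
  let χ : D → S := fun x =>
    (List.ofFn fun k => x.1 k ^ E k ^ (p - 2)).prod
  let M : Subgroup D := (Subgroup.pi Set.univ fun _ => L (p - 1)).prod ⊤
  have hmemM : ∀ x : D, x ∈ M ↔ ∀ k, x.1 k ∈ L (p - 1) := fun x =>
    Subgroup.mem_prod.trans ⟨fun hx k => (Subgroup.mem_pi _).1 hx.1 k (Set.mem_univ _),
      fun hx => ⟨(Subgroup.mem_pi _).2 fun k _ => hx k, mem_top _⟩⟩
  letI : CommGroup (L (p - 1)) :=
    { (inferInstance : Group (L (p - 1))) with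
      mul_comm := fun x z => Subtype.ext (hcen x x.2 z).eq }
  let φ : M →* L (p - 1) :=
    MonoidHom.mk' (fun x => ∏ k, (⟨(x : D).1 k, (hmemM _).1 x.2 k⟩ : L (p - 1)) ^ E k ^ (p - 2))
      fun x z => by
        rw [← Finset.prod_mul_distrib]
        refine Finset.prod_congr rfl fun k _ => ?_
        rw [← mul_pow]
        rfl
  have hTM : T (p - 1) ≤ M := by
    refine sup_le ((closure_le _).2 fun z hz => (hmemM z).2 (hgenmem _ z hz).1) fun z hz => ?_
    exact (hmemM z).2 fun k => Subgroup.lowerCentralSeries_antitone _ (by omega) (((hmemB _ z).1 hz).1 k)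
  have hcM : c (p - 1) ∈ M := hTM (mem_sup_left (subset_closure (Or.inl rfl)))
  have hone : ∀ (z : L (p - 1)), z ^ p = 1 := fun z => Subtype.ext (hexp z)
  have hzero : ∀ x ∈ T (p - 1), ∀ hx : x ∈ M, ∃ j : ℤ,
      φ ⟨x, hx⟩ = φ ⟨c (p - 1), hcM⟩ ^ j ∧ x.2 = (c (p - 1)).2 ^ j := by
    let K : Subgroup D :=
      { carrier := {x | ∃ hx : x ∈ M, ∃ j : ℤ,
          φ ⟨x, hx⟩ = φ ⟨c (p - 1), hcM⟩ ^ j ∧ x.2 = (c (p - 1)).2 ^ j}
        one_mem' := ⟨one_mem _, 0, by rw [zpow_zero]; exact ⟨map_one φ, rfl⟩⟩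
        mul_mem' := by
          rintro x z ⟨hx, i, hi, hi'⟩ ⟨hz, j, hj, hj'⟩
          refine ⟨mul_mem hx hz, i + j, ?_, ?_⟩
          · rw [zpow_add, ← hi, ← hj, ← map_mul]; rfl
          · rw [zpow_add, ← hi', ← hj']; rfl
        inv_mem' := by
          rintro x ⟨hx, i, hi, hi'⟩
          refine ⟨inv_mem hx, -i, ?_, ?_⟩
          · rw [zpow_neg, ← hi, ← map_inv]; rfl
          · rw [zpow_neg, ← hi']; rfl }
    have hle : T (p - 1) ≤ K := by
      refine sup_le ((closure_le _).2 ?_) fun z hz => ?_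
      · rintro z (rfl | ⟨w, q, hw2, hwp, hq, rfl⟩)
        · exact ⟨hcM, 1, by rw [zpow_one], by rw [zpow_one]⟩
        · refine ⟨(hmemM _).2 fun k => pow_mem hq _, 0, ?_, by rw [zpow_zero]⟩
          show ∏ k : Fin (p - 1), (⟨q ^ E k ^ w, _⟩ : L (p - 1)) ^ E k ^ (p - 2) = _
          rw [zpow_zero]
          have h1 : ∀ k : Fin (p - 1), (⟨q ^ E k ^ w, pow_mem hq _⟩ : L (p - 1)) ^ E k ^ (p - 2)
              = (⟨q, hq⟩ : L (p - 1)) ^ E k ^ (w + (p - 2)) := fun k => Subtype.ext (by
            push_cast; rw [← pow_mul, ← pow_add])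
          rw [Finset.prod_congr rfl fun k _ => h1 k, Finset.prod_pow_eq_pow_sum]
          obtain ⟨d, hd⟩ : p ∣ ∑ k : Fin (p - 1), E k ^ (w + (p - 2)) := by
            rw [← Int.natCast_dvd_natCast, Fin.sum_univ_eq_sum_range (fun e => (e + 1) ^ (w + (p - 2)))]
            push_cast
            have h3 := sum_pow_eq_zero (q := p) (t := w + (p - 2)) (by omega) (by
              rintro ⟨i, hi⟩
              rcases i with _ | _ | i
              · omega
              · omega
              · have : (p - 1) * 2 ≤ (p - 1) * (i + 1 + 1) := Nat.mul_le_mul_left _ (by omega)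
                omega)
            push_cast at h3
            exact h3
          rw [hd, pow_mul, hone, one_pow]
      · obtain ⟨hz1, hz2⟩ := (hmemB _ z).1 hz
        rw [show p - 1 + 1 = p by omega] at hz1
        have hz2' : z.2 = 1 := by
          rw [← mem_bot]
          have hWbot : LW (p - 1 + 1) = ⊥ := by
            rw [show p - 1 + 1 = p + 1 - 1 by omega]
            exact CfsgLib.PLoc.Uniserial.lcs_eq_bot_of_card (IsPGroup.of_card (card_wp p)) (card_wp p)
              (by omega)
          exact hWbot ▸ hz2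
        refine ⟨(hmemM z).2 fun k => Subgroup.lowerCentralSeries_antitone _ (by omega) (hz1 k), 0, ?_,
          by rw [zpow_zero, hz2']⟩
        rw [zpow_zero]
        show ∏ k : Fin (p - 1), (⟨z.1 k, _⟩ : L (p - 1)) ^ E k ^ (p - 2) = 1
        refine Finset.prod_eq_one fun k _ => Subtype.ext ?_
        have h1 : z.1 k = 1 := mem_bot.1 (htop ▸ hz1 k)
        push_cast
        rw [h1, one_pow]
    intro x hx _
    obtain ⟨_, j, hj⟩ := hle hx
    exact ⟨j, hj⟩
  obtain ⟨j, hj1, hj2⟩ := hzero u hm (hTM hm)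
  have hpj : ¬ (p : ℤ) ∣ j := by
    rintro ⟨i, rfl⟩
    refine mul_pow_ne_one p ?_
    rw [← hu2, hj2, zpow_mul, zpow_natCast, pow_base p (hc (p - 1)).2.2.1, one_zpow]
  have hφu : φ ⟨u, hTM hm⟩ = 1 := by
    show ∏ k : Fin (p - 1), (⟨u.1 k, _⟩ : L (p - 1)) ^ E k ^ (p - 2) = 1
    refine Finset.prod_eq_one fun k _ => Subtype.ext ?_
    push_cast
    rw [hu1 k, one_pow]
  have hφc : φ ⟨c (p - 1), hcM⟩ = (⟨r (p - 1), (hr _).1⟩ : L (p - 1))⁻¹ := by
    show ∏ k, (⟨(c (p - 1)).1 k, _⟩ : L (p - 1)) ^ E k ^ (p - 2) = _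
    have h1 : ∀ k : Fin (p - 1), (⟨(c (p - 1)).1 k, (hc (p - 1)).1 k⟩ : L (p - 1)) ^ E k ^ (p - 2)
        = (⟨r (p - 1), (hr _).1⟩ : L (p - 1)) := fun k => by
      have h2 := (hc (p - 1)).2.2.2 k
      rw [show p - 1 + 1 = p by omega, htop, mem_bot, inv_mul_eq_one] at h2
      refine Subtype.ext ?_
      push_cast
      rw [h2, ← pow_mul, ← pow_succ']
      have hEp : E k ^ (p - 2 + 1) % p = 1 := by
        rw [show p - 2 + 1 = p - 1 by omega]
        have hne : ((E k : ℕ) : ZMod p) ≠ 0 := by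
          rw [Ne, ZMod.natCast_eq_zero_iff]
          intro hd
          have := Nat.le_of_dvd (by simp [E]) hd
          have := k.2
          have hE : E k = (k : ℕ) + 1 := rfl
          omega
        have h3 : ((E k ^ (p - 1) : ℕ) : ZMod p) = 1 := by
          push_cast; exact ZMod.pow_card_sub_one_eq_one hne
        have h4 := congrArg ZMod.val h3
        rwa [ZMod.val_natCast, ZMod.val_one] at h4
      rw [← Nat.div_add_mod (E k ^ (p - 2 + 1)) p, hEp, pow_succ, pow_mul, hexp, one_pow, one_mul]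
    rw [Finset.prod_congr rfl fun k _ => h1 k, Finset.prod_const, Finset.card_univ, Fintype.card_fin,
      eq_inv_iff_mul_eq_one, ← pow_succ]
    exact (congrArg _ (Nat.sub_add_cancel (by omega : 1 ≤ p))).trans (hone _)
  rw [hφu, hφc] at hj1
  have hr1 := hr (p - 1)
  refine hr1.2 (by omega) le_rfl ?_
  rw [show p - 1 + 1 = p by omega, htop, mem_bot]
  obtain ⟨α, β, hαβ⟩ := (Nat.prime_iff_prime_int.1 hp).coprime_iff_not_dvd.2 hpj
  set z : L (p - 1) := ⟨r (p - 1), (hr _).1⟩
  have hz : z⁻¹ = 1 := by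
    rw [← zpow_one z⁻¹, ← hαβ, zpow_add, mul_comm α, zpow_mul, mul_comm β, zpow_mul, zpow_natCast,
      hone, ← hj1, one_zpow, one_zpow, one_mul]
  exact congrArg Subtype.val (inv_eq_one.1 hz)

theorem exists_pow_notMem (h : MaxClass p n S) (hn : p + 1 ≤ n) : ∃ x : S, x ^ p ∉ L p := by
  have hp : p.Prime := Fact.out
  have h2 := hp.two_le
  haveI : (L p).Normal := normal_of_characteristic _
  let π := QuotientGroup.mk' (L p)
  have hmap : ∀ i, (L i).map π = (⊤ : Subgroup (S ⧸ L p)).lowerCentralSeries i := fun i => by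
    rw [Subgroup.map_lowerCentralSeries, Subgroup.map_top_of_surjective _ (QuotientGroup.mk'_surjective _)]
  have hQ : MaxClass p (p + 1) (S ⧸ L p) := by
    refine ⟨?_, by omega, ?_, ?_⟩
    · have h1 := (L p).card_mul_index
      rw [h.card_layer (by omega) (by omega), h.card, index_eq_card,
        show n = n - 1 - p + (p + 1) by omega, pow_add] at h1
      rw [show n - 1 - p + (p + 1) - 1 - p = n - 1 - p by omega] at h1
      exact Nat.eq_of_mul_eq_mul_left (pow_pos hp.pos _) h1
    · rw [Nat.add_sub_cancel, ← hmap, Subgroup.map_eq_bot_iff, QuotientGroup.ker_mk']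
    · rw [← hmap, Ne, Subgroup.map_eq_bot_iff, QuotientGroup.ker_mk', show p + 1 - 2 = p - 1 by omega]
      intro hle
      have := h.lt (i := p - 1) (by omega)
      rw [show p - 1 + 1 = p by omega] at this
      exact this.not_ge hle
  obtain ⟨x, hx⟩ := exists_pow_ne_one hQ
  obtain ⟨g, rfl⟩ := QuotientGroup.mk'_surjective (L p) x
  refine ⟨g, fun hg => hx ?_⟩
  rw [← map_pow, QuotientGroup.mk'_apply, QuotientGroup.eq_one_iff]
  exact hg

theorem closure_pow_le {H : Subgroup S} : closure {y : S | ∃ h ∈ H, y = h ^ p} ≤ H := by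
  rw [closure_le]
  rintro _ ⟨z, hz, rfl⟩
  exact pow_mem hz p

/-- Blackburn: subgroups of groups of maximal class are almost powerful. -/
theorem relIndex_pow_le (n : ℕ) (hn : 2 ≤ n) (hS : Nat.card S = p ^ n)
    (hmax : Group.nilpotencyClass S = n - 1) (H : Subgroup S) :
    (closure {y : S | ∃ h ∈ H, y = h ^ p}).relIndex H ≤ p ^ p := by
  have hp : p.Prime := Fact.out
  have h2 := hp.two_le
  set P := closure {y : S | ∃ h ∈ H, y = h ^ p} with hP
  have hPH : P ≤ H := closure_pow_le
  have hcard : P.relIndex H * Nat.card P = Nat.card H := by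
    rw [mul_comm, relIndex, ← Nat.card_congr (subgroupOfEquivOfLe hPH).toEquiv, card_mul_index]
  have hfin : Nat.card H ≤ p ^ p * Nat.card P → P.relIndex H ≤ p ^ p := fun hle =>
    Nat.le_of_mul_le_mul_right (hcard ▸ hle) Nat.card_pos
  refine hfin ?_
  rcases Nat.lt_or_ge n (p + 1) with hnp | hnp
  · refine le_trans (Nat.le_of_dvd Nat.card_pos (H.card_subgroup_dvd_card)) ?_
    rw [hS]
    exact le_trans (Nat.pow_le_pow_right hp.pos (by omega)) (Nat.le_mul_of_pos_right _ Nat.card_pos)
  haveI := (IsPGroup.of_card hS).isNilpotent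
  have h : MaxClass p n S := by
    refine ⟨hS, by omega, ?_, fun e => ?_⟩
    · rw [Subgroup.lowerCentralSeries_eq_bot_iff_nilpotencyClass_le, hmax]
    · rw [Subgroup.lowerCentralSeries_eq_bot_iff_nilpotencyClass_le, hmax] at e
      omega
  obtain ⟨s, hs, -⟩ := exists_uniform h (⊥ : Subgroup S) (fun e => h.ne (by rw [eq_bot_iff, e]; exact le_top))
  by_cases htop : H ⊔ L 1 = ⊤
  · -- `H` is the whole group
    rw [Subgroup.top_lowerCentralSeries_one] at htop
    have hH := eq_top_of_sup_commutator htop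
    subst hH
    have key : ∀ d l, n - 1 ≤ l + d → p - 1 ≤ l → L l ≤ P := by
      intro d
      induction d with
      | zero =>
        intro l hl _
        refine (Subgroup.lowerCentralSeries_antitone _ (by omega : n - 1 ≤ l)).trans ?_
        rw [h.top]; exact bot_le
      | succ d ih =>
        intro l hl hlp
        by_cases hln : n - 1 ≤ l
        · refine (Subgroup.lowerCentralSeries_antitone _ hln).trans ?_
          rw [h.top]; exact bot_le
        obtain ⟨x, hx, hx'⟩ : ∃ x : S, x ^ p ∈ L l ∧ x ^ p ∉ L (l + 1) := by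
          rcases hlp.lt_or_eq with hlt | rfl
          · obtain ⟨y, hy, hy'⟩ := SetLike.exists_of_lt (h.lt (i := l - (p - 1)) (by omega))
            refine ⟨y, ?_, ?_⟩
            · have := hs.pow_mem_layer h (l - (p - 1)) (by omega) y hy
              rwa [Nat.sub_add_cancel hlp] at this
            · have := hs.pow_notMem h (j := l - (p - 1)) (by omega) (by omega) hy hy'
              rwa [show l - (p - 1) + p = l + 1 by omega] at this
          · obtain ⟨x, hx⟩ := exists_pow_notMem h hnp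
            exact ⟨x, h.pow_mem (p - 1) (by omega) (by omega) (by omega) x,
              by rwa [show p - 1 + 1 = p by omega]⟩
        rw [← zpowers_sup_next h (by omega) (by omega) hx hx']
        exact sup_le (zpowers_le.2 (subset_closure ⟨x, mem_top _, rfl⟩)) (ih (l + 1) (by omega) (by omega))
    have hle := card_le_of_le (key n (p - 1) (by omega) le_rfl)
    rw [h.card_layer (by omega) (by omega), show n - 1 - (p - 1) = n - p by omega] at hle
    rw [card_top, hS, show n = p + (n - p) by omega, pow_add]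
    exact Nat.mul_le_mul_left _ hle
  have hKH : Nat.card H ≤ p * Nat.card (H ⊓ L 1 : Subgroup S) := by
    have h1 : (L 1).relIndex H ≤ p := by
      rw [← relIndex_sup_right]
      obtain ⟨k, hk⟩ := (IsPGroup.of_card h.card).index (H ⊔ L 1)
      have hk1 : p ≤ (H ⊔ L 1).index := by
        rcases k with _ | k
        · exact absurd (index_eq_one.1 (by simpa using hk)) htop
        · rw [hk, pow_succ']; exact Nat.le_mul_of_pos_right _ (pow_pos hp.pos k)
      have h3 := relIndex_mul_index (le_sup_right : L 1 ≤ H ⊔ L 1)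
      have h4 : (L 1).index = p * p := by
        have h5 := (L 1).card_mul_index
        rw [h.card_one, h.card, show n = n - 2 + 2 by omega, pow_add, Nat.add_sub_cancel, sq] at h5
        exact Nat.eq_of_mul_eq_mul_left (pow_pos hp.pos _) h5
      rw [h4] at h3
      by_contra hcon
      have := Nat.mul_le_mul (Nat.succ_le_of_lt (Nat.lt_of_not_le hcon)) hk1
      rw [h3] at this
      nlinarith
    rw [← ((L 1).subgroupOf H).card_mul_index, mul_comm p]
    refine Nat.mul_le_mul ?_ h1
    rw [← inf_subgroupOf_left, Nat.card_congr (subgroupOfEquivOfLe inf_le_left).toEquiv]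
  have key : ∀ d l, n - 1 ≤ l + d → 1 ≤ l →
      Nat.card (H ⊓ L l : Subgroup S) ≤ Nat.card (P ⊓ L (l + (p - 1)) : Subgroup S) * p ^ (p - 1) := by
    intro d
    induction d with
    | zero =>
      intro l hl _
      have : H ⊓ L l = ⊥ := eq_bot_iff.2 (inf_le_right.trans
        ((Subgroup.lowerCentralSeries_antitone _ (by omega : n - 1 ≤ l)).trans h.top.le))
      rw [this, card_bot]
      exact Nat.one_le_iff_ne_zero.2 (Nat.mul_ne_zero Nat.card_pos.ne' (pow_pos hp.pos _).ne')
    | succ d ih =>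
      intro l hl hl1
      by_cases hln : n - 1 ≤ l + (p - 1)
      · refine le_trans (le_trans ?_ (Nat.pow_le_pow_right hp.pos (by omega : n - 1 - l ≤ p - 1)))
          (Nat.le_mul_of_pos_left _ Nat.card_pos)
        by_cases hln' : l ≤ n - 1
        · rw [← h.card_layer hl1 hln']; exact card_le_of_le inf_le_right
        · have : H ⊓ L l = ⊥ := eq_bot_iff.2 (inf_le_right.trans
            ((Subgroup.lowerCentralSeries_antitone _ (by omega : n - 1 ≤ l)).trans h.top.le))
          rw [this, card_bot]; exact Nat.one_le_pow _ _ hp.pos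
      have hih := ih (l + 1) (by omega) (by omega)
      by_cases heq : H ⊓ L l ≤ L (l + 1)
      · refine ((card_le_of_le (le_inf inf_le_left heq)).trans hih).trans (Nat.mul_le_mul_right _ ?_)
        exact card_le_of_le (inf_le_inf_left _ (Subgroup.lowerCentralSeries_antitone _ (by omega)))
      obtain ⟨y, ⟨hyH, hyl⟩, hy'⟩ := SetLike.not_le_iff_exists.1 heq
      have hup : Nat.card (H ⊓ L l : Subgroup S) ≤ p * Nat.card (H ⊓ L (l + 1) : Subgroup S) := by
        have hrel : (L (l + 1)).relIndex (L l) ≤ p := by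
          refine le_of_eq ?_
          have hle := Subgroup.lowerCentralSeries_antitone (⊤ : Subgroup S) (Nat.le_succ l)
          have h5 := ((L (l + 1)).subgroupOf (L l)).card_mul_index
          rw [Nat.card_congr (subgroupOfEquivOfLe hle).toEquiv, ← relIndex,
            h.card_layer (by omega) (by omega), h.card_layer hl1 (by omega),
            show n - 1 - l = n - 1 - (l + 1) + 1 by omega, pow_succ] at h5
          exact Nat.eq_of_mul_eq_mul_left (pow_pos hp.pos _) h5
        rw [← ((L (l + 1)).subgroupOf (H ⊓ L l)).card_mul_index, mul_comm p]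
        refine Nat.mul_le_mul (le_of_eq ?_)
          (le_trans (relIndex_le_of_le_right inf_le_right index_ne_zero_of_finite) hrel)
        rw [← inf_subgroupOf_left, Nat.card_congr (subgroupOfEquivOfLe inf_le_left).toEquiv, inf_assoc,
          inf_eq_right.2 (Subgroup.lowerCentralSeries_antitone _ (Nat.le_succ l))]
      have hlow : p * Nat.card (P ⊓ L (l + 1 + (p - 1)) : Subgroup S)
          ≤ Nat.card (P ⊓ L (l + (p - 1)) : Subgroup S) := by
        refine CfsgLib.FusionMaxClass.mul_card_le h.card (lt_of_le_of_ne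
          (inf_le_inf_left _ (Subgroup.lowerCentralSeries_antitone _ (by omega))) fun e => ?_)
        have hmem : y ^ p ∈ P ⊓ L (l + 1 + (p - 1)) :=
          e ▸ ⟨subset_closure ⟨y, hyH, rfl⟩, hs.pow_mem_layer h l hl1 y hyl⟩
        have := hs.pow_notMem h hl1 (by omega) hyl hy'
        rw [show l + 1 + (p - 1) = l + p by omega] at hmem
        exact this hmem.2
      calc Nat.card (H ⊓ L l : Subgroup S) ≤ p * (Nat.card (P ⊓ L (l + 1 + (p - 1)) : Subgroup S) * p ^ (p - 1)) :=
            hup.trans (Nat.mul_le_mul_left _ hih)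
        _ ≤ Nat.card (P ⊓ L (l + (p - 1)) : Subgroup S) * p ^ (p - 1) := by
            rw [← mul_assoc]; exact Nat.mul_le_mul_right _ hlow
  calc Nat.card H ≤ p * (Nat.card (P ⊓ L (1 + (p - 1)) : Subgroup S) * p ^ (p - 1)) :=
        hKH.trans (Nat.mul_le_mul_left _ (key n 1 (by omega) le_rfl))
    _ ≤ p * (Nat.card P * p ^ (p - 1)) :=
        Nat.mul_le_mul_left _ (Nat.mul_le_mul_right _ (card_le_of_le inf_le_left))
    _ = p ^ p * Nat.card P := by
        conv_rhs => rw [show p ^ p = p ^ (p - 1) * p by rw [← pow_succ, Nat.sub_add_cancel (by omega)]]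
        ring

end CfsgLib.PGroup.MaxClassPowers
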