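import Cfsg.Agent.Lib.PGroup.MaximalClassPowers
import Cfsg.Agent.Lib.PGroup.Basic
import Cfsg.Agent.Lib.FusionMaxClass.Basic
import Cfsg.Agent.Lib.Yoshida.Basic
import Cfsg.Agent.Lib.Transfer.PGroup

/-!
# Subgroups of 3-groups of maximal class

In a 3-group of maximal class of order at least `3 ^ 4` every subgroup can be generated by two
elements, unless the group has order `3 ^ 4` and an elementary abelian subgroup of index 3, and then
it is a Sylow 3-subgroup of the symmetric group of degree 9.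
-/

set_option autoImplicit false
set_option linter.style.haveILetI false
set_option linter.unusedSectionVars false

open Subgroup
open scoped commutatorElement

namespace CfsgLib.PGroup.MaxClassThree

open Cfsg.Agent.S3806 (MaxClass twoStep eq_top_of_sup_commutator)
open CfsgLib.MaxClassUniform
open CfsgLib.PGroup.MaxClassPowers (zpowers_sup_next exists_pow_notMem)

universe u

variable {S : Type u} [Group S]

local notation "L" => Subgroup.lowerCentralSeries (⊤ : Subgroup S)

local instance : Fact (Nat.Prime 3) := ⟨Nat.prime_three⟩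

/-- `X` has an element in layer `l`. -/
def Cov (X : Subgroup S) (l : ℕ) : Prop := ∃ a ∈ X, a ∈ L l ∧ a ∉ L (l + 1)

variable [Finite S] {n : ℕ}

theorem exists_uniform' (h : MaxClass 3 n S) : ∃ s : S, Uniform n s := by
  obtain ⟨s, hs, -⟩ := exists_uniform h (⊥ : Subgroup S) (fun e => h.ne (by
    rw [eq_bot_iff, e]; exact le_top))
  exact ⟨s, hs⟩

theorem pow_three_layer (h : MaxClass 3 n S) {l : ℕ} (hl : 1 ≤ l) {a : S} (ha : a ∈ L l) :
    a ^ 3 ∈ L (l + 2) := by
  obtain ⟨s, hs⟩ := exists_uniform' h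
  exact hs.pow_mem_layer h l hl a ha

theorem pow_three_notMem (h : MaxClass 3 n S) {l : ℕ} (hl : 1 ≤ l) (hln : l + 2 ≤ n - 2) {a : S}
    (ha : a ∈ L l) (ha' : a ∉ L (l + 1)) : a ^ 3 ∉ L (l + 3) := by
  obtain ⟨s, hs⟩ := exists_uniform' h
  exact hs.pow_notMem h hl hln ha ha'

theorem card_le_of_cover (h : MaxClass 3 n S) (A F : Subgroup S) (J : Finset ℕ)
    (hJ : ∀ l, 1 ≤ l → l ≤ n - 2 → l ∉ J → Cov A l → Cov F l) :
    Nat.card (A ⊓ L 1 : Subgroup S) ≤ 3 ^ J.card * Nat.card (F ⊓ L 1 : Subgroup S) := by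
  suffices key : ∀ d l, n - 1 ≤ l + d → 1 ≤ l →
      Nat.card (A ⊓ L l : Subgroup S) ≤
        3 ^ (J.filter (l ≤ ·)).card * Nat.card (F ⊓ L l : Subgroup S) by
    refine (key (n - 1) 1 (by omega) le_rfl).trans (Nat.mul_le_mul_right _ ?_)
    exact Nat.pow_le_pow_right (by norm_num) (Finset.card_filter_le _ _)
  intro d
  induction d with
  | zero =>
    intro l hl _
    have hbot : A ⊓ L l = ⊥ := eq_bot_iff.2 (inf_le_right.trans
      ((Subgroup.lowerCentralSeries_antitone _ (by omega : n - 1 ≤ l)).trans h.top.le))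
    rw [hbot, card_bot]
    exact Nat.mul_pos (pow_pos (by norm_num) _) Nat.card_pos
  | succ d ih =>
    intro l hl hl1
    by_cases hln : n - 1 ≤ l
    · have hbot : A ⊓ L l = ⊥ := eq_bot_iff.2 (inf_le_right.trans
        ((Subgroup.lowerCentralSeries_antitone _ hln).trans h.top.le))
      rw [hbot, card_bot]
      exact Nat.mul_pos (pow_pos (by norm_num) _) Nat.card_pos
    have hanti := Subgroup.lowerCentralSeries_antitone (⊤ : Subgroup S) (Nat.le_succ l)
    have hih := ih (l + 1) (by omega) (by omega)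
    have hFle : Nat.card (F ⊓ L (l + 1) : Subgroup S) ≤ Nat.card (F ⊓ L l : Subgroup S) :=
      card_le_of_le (inf_le_inf_left _ hanti)
    have hsub : (J.filter (l + 1 ≤ ·)).card ≤ (J.filter (l ≤ ·)).card := by
      refine Finset.card_le_card fun x hx => ?_
      rw [Finset.mem_filter] at hx ⊢
      exact ⟨hx.1, by omega⟩
    by_cases hcov : Cov A l
    · have hup : Nat.card (A ⊓ L l : Subgroup S) ≤ 3 * Nat.card (A ⊓ L (l + 1) : Subgroup S) := by
        have hrel : (L (l + 1)).relIndex (L l) ≤ 3 := by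
          refine le_of_eq ?_
          have h5 := ((L (l + 1)).subgroupOf (L l)).card_mul_index
          rw [Nat.card_congr (subgroupOfEquivOfLe hanti).toEquiv, ← relIndex,
            h.card_layer (by omega) (by omega), h.card_layer hl1 (by omega),
            show n - 1 - l = n - 1 - (l + 1) + 1 by omega, pow_succ] at h5
          exact Nat.eq_of_mul_eq_mul_left (pow_pos (by norm_num) _) h5
        rw [← ((L (l + 1)).subgroupOf (A ⊓ L l)).card_mul_index, mul_comm 3]
        refine Nat.mul_le_mul (le_of_eq ?_)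
          (le_trans (relIndex_le_of_le_right inf_le_right index_ne_zero_of_finite) hrel)
        rw [← inf_subgroupOf_left, Nat.card_congr (subgroupOfEquivOfLe inf_le_left).toEquiv, inf_assoc,
          inf_eq_right.2 hanti]
      by_cases hlJ : l ∈ J
      · have hlt : (J.filter (l + 1 ≤ ·)).card + 1 ≤ (J.filter (l ≤ ·)).card := by
          refine Finset.card_lt_card ?_
          rw [Finset.ssubset_iff_of_subset (fun x hx => by
            rw [Finset.mem_filter] at hx ⊢; exact ⟨hx.1, by omega⟩)]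
          exact ⟨l, Finset.mem_filter.2 ⟨hlJ, le_rfl⟩, fun hm => by
            have := (Finset.mem_filter.1 hm).2; omega⟩
        calc Nat.card (A ⊓ L l : Subgroup S)
            ≤ 3 * (3 ^ (J.filter (l + 1 ≤ ·)).card * Nat.card (F ⊓ L (l + 1) : Subgroup S)) :=
              hup.trans (Nat.mul_le_mul_left _ hih)
          _ = 3 ^ ((J.filter (l + 1 ≤ ·)).card + 1) * Nat.card (F ⊓ L (l + 1) : Subgroup S) := by
              rw [← mul_assoc, pow_succ']
          _ ≤ 3 ^ (J.filter (l ≤ ·)).card * Nat.card (F ⊓ L l : Subgroup S) :=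
              Nat.mul_le_mul (Nat.pow_le_pow_right (by norm_num) hlt) hFle
      · obtain ⟨f, hfF, hfl, hfl'⟩ := hJ l hl1 (by omega) hlJ hcov
        have hlt : F ⊓ L (l + 1) < F ⊓ L l :=
          lt_of_le_of_ne (inf_le_inf_left _ hanti) fun e => hfl' (e.ge ⟨hfF, hfl⟩).2
        have hlow := CfsgLib.FusionMaxClass.mul_card_le h.card hlt
        calc Nat.card (A ⊓ L l : Subgroup S)
            ≤ 3 * (3 ^ (J.filter (l + 1 ≤ ·)).card * Nat.card (F ⊓ L (l + 1) : Subgroup S)) :=
              hup.trans (Nat.mul_le_mul_left _ hih)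
          _ = 3 ^ (J.filter (l + 1 ≤ ·)).card * (3 * Nat.card (F ⊓ L (l + 1) : Subgroup S)) := by ring
          _ ≤ 3 ^ (J.filter (l ≤ ·)).card * Nat.card (F ⊓ L l : Subgroup S) :=
              Nat.mul_le_mul (Nat.pow_le_pow_right (by norm_num) hsub) hlow
    · have heq : A ⊓ L l ≤ A ⊓ L (l + 1) := fun a ha =>
        ⟨ha.1, by_contra fun ha' => hcov ⟨a, ha.1, ha.2, ha'⟩⟩
      exact (card_le_of_le heq).trans (hih.trans
        (Nat.mul_le_mul (Nat.pow_le_pow_right (by norm_num) hsub) hFle))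

theorem card_le_three_mul_inf (h : MaxClass 3 n S) {H : Subgroup S} (htop : H ≠ ⊤) :
    Nat.card H ≤ 3 * Nat.card (H ⊓ L 1 : Subgroup S) := by
  haveI := h.nilpotent
  have htop' : H ⊔ L 1 ≠ ⊤ := fun e => htop (by
    rw [Subgroup.top_lowerCentralSeries_one] at e
    exact eq_top_of_sup_commutator e)
  have h1 : (L 1).relIndex H ≤ 3 := by
    rw [← relIndex_sup_right]
    obtain ⟨k, hk⟩ := (IsPGroup.of_card h.card).index (H ⊔ L 1)
    have hk1 : 3 ≤ (H ⊔ L 1).index := by
      rcases k with _ | k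
      · exact absurd (index_eq_one.1 (by simpa using hk)) htop'
      · rw [hk, pow_succ']; exact Nat.le_mul_of_pos_right _ (pow_pos (by norm_num) k)
    have h3 := relIndex_mul_index (le_sup_right : L 1 ≤ H ⊔ L 1)
    have h4 : (L 1).index = 3 * 3 := by
      have h5 := (L 1).card_mul_index
      have := h.three
      rw [h.card_one, h.card, show n = n - 2 + 2 by omega, pow_add, Nat.add_sub_cancel, sq] at h5
      exact Nat.eq_of_mul_eq_mul_left (pow_pos (by norm_num) _) h5
    rw [h4] at h3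
    by_contra hcon
    have := Nat.mul_le_mul (Nat.succ_le_of_lt (Nat.lt_of_not_le hcon)) hk1
    rw [h3] at this
    omega
  rw [← ((L 1).subgroupOf H).card_mul_index, mul_comm 3]
  refine Nat.mul_le_mul ?_ h1
  rw [← inf_subgroupOf_left, Nat.card_congr (subgroupOfEquivOfLe inf_le_left).toEquiv]

/-- The homomorphism `w ↦ [a, w]` modulo `L (l + 2)`, for `a ∈ L l`. -/
theorem exists_comm_hom {l : ℕ} {a : S} (ha : a ∈ L l) (hn : (L (l + 2)).Normal) :
    ∃ φ : S →* S ⧸ L (l + 2), ∀ w, φ w = QuotientGroup.mk' (L (l + 2)) ⁅a, w⁆ := by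
  set π := QuotientGroup.mk' (L (l + 2))
  have hcen : ∀ w v : S, Commute (π ⁅a, w⁆) (π v) := fun w v => by
    rw [← commutatorElement_eq_one_iff_commute, ← map_commutatorElement, QuotientGroup.mk'_apply,
      QuotientGroup.eq_one_iff]
    exact comm_mem_succ (comm_mem_succ ha w) v
  refine ⟨MonoidHom.mk' (fun w => π ⁅a, w⁆) fun w v => ?_, fun w => rfl⟩
  rw [show ⁅a, w * v⁆ = ⁅a, w⁆ * (w * ⁅a, v⁆ * w⁻¹) by simp only [commutatorElement_def]; group,
    map_mul, map_mul (f := π) (w * ⁅a, v⁆), map_mul, map_inv, ← (hcen v w).eq, mul_inv_cancel_right]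

/-- For `n ≥ 5` an element outside the two-step centralizer of `L 1` avoids all of them. -/
theorem avoid_of_notMem (h : MaxClass 3 n S) (h5 : 5 ≤ n) {x : S}
    (hx : x ∉ twoStep (S := S) 1) : ∀ i, 1 ≤ i → i + 3 ≤ n → x ∉ twoStep (S := S) i := by
  haveI := h.nilpotent
  obtain ⟨s, hs⟩ := exists_uniform' h
  suffices h2 : x ∉ twoStep (S := S) 2 by
    intro i
    induction i using Nat.strong_induction_on with
    | _ i ih =>
      intro hi hin
      rcases (by omega : i = 1 ∨ i = 2 ∨ 3 ≤ i) with rfl | rfl | hi3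
      · exact hx
      · exact h2
      · have := hs.periodic h (j := i - 2) (by omega) (by omega)
          (ih (i - 2) (by omega) (by omega) (by omega))
        rwa [show i - 2 + (3 - 1) = i by omega] at this
  intro hx2
  haveI : (L 1).Normal := normal_of_characteristic _
  haveI : (L 2).Normal := normal_of_characteristic _
  haveI : (L 3).Normal := normal_of_characteristic _
  haveI : (L 4).Normal := normal_of_characteristic _
  have hx1 : x ∉ L 1 := fun e => hx (one_le_twoStep 1 e)
  -- an element `y` of the two-step centralizer outside `L 1`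
  obtain ⟨a, haA, ha2⟩ := SetLike.exists_of_lt (h.lt (i := 1) (by omega))
  obtain ⟨φ, hφ⟩ := exists_comm_hom (l := 1) haA inferInstance
  have hax : ⁅a, x⁆ ∉ L 3 := h.comm_notMem le_rfl (by omega) hx haA ha2
  obtain ⟨z, hz⟩ : ∃ z, z ∉ zpowers x ⊔ L 1 := by
    by_contra hh
    push Not at hh
    exact h.not_cyclic_top x (eq_top_iff.2 fun w _ => hh w)
  have hL2a : zpowers ⁅a, x⁆ ⊔ L 3 = L 2 :=
    zpowers_sup_next h (i := 2) (by omega) (by omega) (comm_mem_succ haA x) hax
  have haz : ⁅a, z⁆ ∈ zpowers ⁅a, x⁆ ⊔ L 3 := hL2a.ge (comm_mem_succ haA z)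
  obtain ⟨w, hw, v, hv, hwv⟩ := Subgroup.mem_sup_of_normal_right.1 haz
  obtain ⟨k, rfl⟩ := mem_zpowers_iff.1 hw
  set y := z * (x ^ k)⁻¹ with hydef
  have hy1 : y ∉ L 1 := fun e => hz (by
    have : z = y * x ^ k := by rw [hydef, inv_mul_cancel_right]
    rw [this]
    exact mul_mem (mem_sup_right e) (mem_sup_left (zpow_mem (mem_zpowers x) k)))
  have hay : ⁅a, y⁆ ∈ L 3 := by
    rw [← QuotientGroup.eq_one_iff]
    show QuotientGroup.mk' (L 3) ⁅a, y⁆ = 1
    rw [← hφ, hydef, map_mul, map_inv, map_zpow, hφ, hφ, ← hwv, map_mul, map_zpow]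
    have hv1 : QuotientGroup.mk' (L 3) v = 1 := (QuotientGroup.eq_one_iff v).2 hv
    rw [hv1, mul_one, mul_inv_cancel]
  have hyM : y ∈ twoStep (S := S) 1 := by
    intro t ht
    have hL1a : zpowers a ⊔ L 2 = L 1 := zpowers_sup_next h le_rfl (by omega) haA ha2
    have hle : zpowers a ⊔ L 2 ≤ commMod (L 3) y :=
      sup_le (zpowers_le.2 (mem_commMod.2 hay)) fun u hu => mem_commMod.2 (comm_mem_succ hu y)
    exact mem_commMod.1 (hle (hL1a.ge ht))
  -- `b = [y, x]` lies in layer 1
  set b := ⁅y, x⁆ with hb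
  have hb1 : b ∈ L 1 := by
    rw [Subgroup.lowerCentralSeries_succ, Subgroup.lowerCentralSeries_zero]
    exact commutator_mem_commutator (mem_top _) (mem_top _)
  have hyx : y ∉ zpowers x ⊔ L 1 := fun hmem => hz (by
    have : z = y * x ^ k := by rw [hydef, inv_mul_cancel_right]
    rw [this]
    exact mul_mem hmem (mem_sup_left (zpow_mem (mem_zpowers x) k)))
  have hb2 : b ∉ L 2 := by
    intro hb2
    refine notMem_zero h hx1 ?_
    intro t _
    have hle : zpowers x ⊔ L 1 ≤ commMod (L 2) x :=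
      sup_le (zpowers_le.2 (mem_commMod.2 (by rw [commutatorElement_self]; exact one_mem _)))
        fun u hu => mem_commMod.2 (comm_mem_succ hu x)
    have hlt : zpowers x ⊔ L 1 < commMod (L 2) x :=
      lt_of_le_of_ne hle fun e => hyx (e.ge (mem_commMod.2 hb2))
    have hlt1 : L 1 < zpowers x ⊔ L 1 :=
      lt_of_le_of_ne le_sup_right fun e => hx1 (e ▸ mem_sup_left (mem_zpowers x))
    have c1 := CfsgLib.FusionMaxClass.mul_card_le h.card hlt1
    have c2 := CfsgLib.FusionMaxClass.mul_card_le h.card hlt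
    have htop : commMod (L 2) x = ⊤ := eq_top_of_le_card _ (by
      rw [h.card, show n = (n - 2) + 2 by omega, pow_add, ← h.card_one]
      calc Nat.card (L 1) * 3 ^ 2 = 3 * (3 * Nat.card (L 1)) := by ring
        _ ≤ _ := (Nat.mul_le_mul_left _ c1).trans c2)
    exact mem_commMod.1 (htop.ge (mem_top t))
  set c := ⁅x, b⁆ with hc
  have hc2 : c ∈ L 2 := by
    rw [hc, ← commutatorElement_inv]; exact inv_mem (comm_mem_succ hb1 x)
  have hc3 : c ∉ L 3 := fun hcon => h.comm_notMem le_rfl (by omega) hx hb1 hb2 (by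
    rw [← commutatorElement_inv]; exact inv_mem hcon)
  let π := QuotientGroup.mk' (L 4)
  have hone : ∀ {g : S}, g ∈ L 4 → π g = 1 := fun hg => (QuotientGroup.eq_one_iff _).2 hg
  have hcomm : ∀ {g k : S}, ⁅g, k⁆ ∈ L 4 → Commute (π g) (π k) := fun hgk => by
    rw [← commutatorElement_eq_one_iff_commute, ← map_commutatorElement]
    exact hone hgk
  have hbc : Commute (π b) (π c) := hcomm (by
    exact CfsgLib.FGStruct.commutator_lcs_le ⊤ 1 2 (commutator_mem_commutator hb1 hc2))
  have hxc : Commute (π x) (π c) := (hcomm (g := c) (hx2 c hc2)).symm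
  have hx3 : x ^ 3 ∈ L 2 := h.pow_mem 2 (by omega) le_rfl (by omega) x
  -- `y` commutes with `x ^ 3` modulo `L 4`
  have hyc : Commute (π y) (π c) := by
    set e := ⁅y, b⁆ with he
    have he3 : e ∈ L 3 := by
      rw [he, ← commutatorElement_inv]; exact inv_mem (hyM b hb1)
    have hee : ∀ v : S, Commute (π e) (π v) := fun v => hcomm (comm_mem_succ he3 v)
    have h1 : π y * π c * (π y)⁻¹ = ⁅π b * π x, π e * π b⁆ := by
      rw [← map_inv, ← map_mul, ← map_mul, ← map_mul, ← map_mul, ← map_commutatorElement]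
      congr 1
      simp only [hc, hb, he, commutatorElement_def]
      group
    have h2 : ⁅π b * π x, π e * π b⁆ = π c := by
      have hcx : π c = π x * π b * (π x)⁻¹ * (π b)⁻¹ := by
        rw [hc, map_commutatorElement, commutatorElement_def]
      calc ⁅π b * π x, π e * π b⁆
          = π b * π x * (π e * π b) * (π x)⁻¹ * (π b)⁻¹ * (π b)⁻¹ * (π e)⁻¹ := by
            simp only [commutatorElement_def]; group
        _ = π e * (π b * (π x * π b * (π x)⁻¹ * (π b)⁻¹) * (π b)⁻¹) * (π e)⁻¹ := by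
            rw [show π b * π x * (π e * π b) = π e * (π b * π x * π b) from
              ((hee b).symm.mul_left (hee x).symm).left_comm (π b)]
            group
        _ = π c := by
            rw [← hcx, hbc.eq, mul_inv_cancel_right, (hee c).eq, mul_inv_cancel_right]
    rw [h2] at h1
    exact mul_inv_eq_iff_eq_mul.1 h1
  have hy3 : Commute (π y) (π (x ^ 3)) := by
    have hsup : zpowers c ⊔ L 3 = L 2 := zpowers_sup_next h (i := 2) (by omega) (by omega) hc2 hc3
    have hle : zpowers c ⊔ L 3 ≤ (centralizer ({π y} : Set (S ⧸ L 4))).comap π :=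
      sup_le (zpowers_le.2 (mem_comap.2 (mem_centralizer_singleton_iff.2 hyc.eq.symm)))
        fun u hu => mem_comap.2 (mem_centralizer_singleton_iff.2
          (hcomm (comm_mem_succ hu y)).eq)
    exact (mem_centralizer_singleton_iff.1 (mem_comap.1 (hle (hsup.ge hx3)))).symm
  -- but the conjugate of `x ^ 3` by `y` is `b ^ 3 x ^ 3`
  refine pow_three_notMem h le_rfl (by omega) hb1 hb2 ?_
  rw [← QuotientGroup.eq_one_iff]
  show π (b ^ 3) = 1
  have hconj : π y * π x ^ 3 * (π y)⁻¹ = (π b * π x) ^ 3 := by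
    rw [← conj_pow, hb, map_commutatorElement, commutatorElement_def]
    congr 1
    group
  rw [← map_pow, hy3.eq, mul_inv_cancel_right, map_pow] at hconj
  have hcx : π x * π b = π c * π b * π x := by
    have : c * b * x = x * b := by rw [hc, commutatorElement_def]; group
    rw [← map_mul, ← map_mul, ← map_mul, this]
  have hc3' : π c ^ 3 = 1 := by
    rw [← map_pow]; exact hone (pow_three_layer h (by omega) hc2)
  have hexp : (π b * π x) ^ 3 = π b ^ 3 * π c ^ 3 * π x ^ 3 := by
    have e1 : π x * π c = π c * π x := hxc.eq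
    have e2 : π b * π c = π c * π b := hbc.eq
    calc (π b * π x) ^ 3
        = π b * (π x * π b) * (π x * π b) * π x := by simp only [pow_succ, pow_zero, one_mul]; group
      _ = π b * (π c * π b * π x) * (π c * π b * π x) * π x := by rw [hcx]
      _ = π b * π c * π b * (π x * π c) * π b * π x * π x := by group
      _ = π b * π c * π b * π c * (π x * π b) * π x * π x := by rw [e1]; group
      _ = π b * π c * π b * π c * (π c * π b * π x) * π x * π x := by rw [hcx]
      _ = (π b * π c) ^ 3 * π x ^ 3 := by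
          rw [← hbc.eq]; simp only [pow_succ, pow_zero, one_mul]; group
      _ = _ := by rw [hbc.mul_pow]
  rw [hexp, hc3', mul_one, right_eq_mul] at hconj
  rw [map_pow]
  exact hconj

theorem twoStep_pow_notMem (h : MaxClass 3 n S) (h5 : 5 ≤ n) {x : S} (hx : x ∈ twoStep (S := S) 1)
    (hx1 : x ∉ L 1) : x ^ 3 ∈ L 2 ∧ x ^ 3 ∉ L 3 := by
  haveI : (L 1).Normal := normal_of_characteristic _
  haveI : (L 3).Normal := normal_of_characteristic _
  refine ⟨h.pow_mem 2 (by omega) le_rfl (by omega) x, ?_⟩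
  obtain ⟨g, hg⟩ := exists_pow_notMem h (by omega : 3 + 1 ≤ n)
  have hg1 : g ∉ L 1 := fun e => hg (pow_three_layer h le_rfl e)
  have hgM : g ∈ twoStep (S := S) 1 := by
    by_contra hgM
    have hu : Uniform n g := ⟨hg1, avoid_of_notMem h h5 hgM⟩
    exact hg (Subgroup.lowerCentralSeries_antitone _ (by omega) (hu.pow_last h))
  have hne : twoStep (S := S) 1 ≠ ⊤ := h.twoStep_ne_top (by omega)
  have hlt1 : L 1 < zpowers g ⊔ L 1 :=
    lt_of_le_of_ne le_sup_right fun e => hg1 (e ▸ mem_sup_left (mem_zpowers g))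
  have hle : zpowers g ⊔ L 1 ≤ twoStep (S := S) 1 := sup_le (zpowers_le.2 hgM) (one_le_twoStep 1)
  have heq : zpowers g ⊔ L 1 = twoStep (S := S) 1 := by
    by_contra hne'
    have c1 := CfsgLib.FusionMaxClass.mul_card_le h.card hlt1
    have c2 := CfsgLib.FusionMaxClass.mul_card_le h.card (lt_of_le_of_ne hle hne')
    refine hne (eq_top_of_le_card _ ?_)
    rw [h.card, show n = (n - 2) + 2 by omega, pow_add, ← h.card_one]
    calc Nat.card (L 1) * 3 ^ 2 = 3 * (3 * Nat.card (L 1)) := by ring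
      _ ≤ _ := (Nat.mul_le_mul_left _ c1).trans c2
  obtain ⟨w, hw, t, ht, rfl⟩ := Subgroup.mem_sup_of_normal_right.1 (heq.ge hx)
  obtain ⟨k, rfl⟩ := mem_zpowers_iff.1 hw
  intro hcon
  let π := QuotientGroup.mk' (L 3)
  have hone : ∀ {v : S}, v ∈ L 3 → π v = 1 := fun hv => (QuotientGroup.eq_one_iff _).2 hv
  have hct : Commute (π t) (π g) := by
    rw [← commutatorElement_eq_one_iff_commute, ← map_commutatorElement]
    exact hone (hgM t ht)
  have hu : π (g ^ 3) ^ k = 1 := by
    have h1 := hone hcon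
    rw [map_pow, map_mul, map_zpow, ((hct.symm).zpow_left k).mul_pow, ← map_pow π t,
      hone (pow_three_layer h le_rfl ht), mul_one, ← zpow_natCast, ← zpow_mul, mul_comm, zpow_mul,
      zpow_natCast, ← map_pow] at h1
    exact h1
  have hk : ¬ (3 : ℤ) ∣ k := by
    rintro ⟨j, rfl⟩
    refine hx1 (mul_mem ?_ ht)
    rw [zpow_mul]
    exact zpow_mem (by exact_mod_cast h.pow_mem_one g) j
  have hu3 : π (g ^ 3) ^ ((3 : ℕ) : ℤ) = 1 := by
    rw [← map_zpow]
    exact hone (Subgroup.lowerCentralSeries_antitone _ (by omega : 3 ≤ 4)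
      (by exact_mod_cast pow_three_layer h (by omega) (h.pow_mem 2 (by omega) le_rfl (by omega) g)))
  obtain ⟨α, β, hαβ⟩ := ((Nat.prime_iff_prime_int.1 Nat.prime_three).coprime_iff_not_dvd.2
    (by exact_mod_cast hk) : IsCoprime ((3 : ℕ) : ℤ) k)
  refine hg ((QuotientGroup.eq_one_iff _).1 (show π (g ^ 3) = 1 from ?_))
  rw [← zpow_one (π (g ^ 3)), ← hαβ, zpow_add, mul_comm α, zpow_mul, mul_comm β, zpow_mul, hu, hu3,
    one_zpow, one_zpow, one_mul]

/-- The main counting statement. -/
theorem card_le_nine_mul (h : MaxClass 3 n S) (h5 : 5 ≤ n) (H F : Subgroup S) (hF : F ≤ H)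
    (hcube : ∀ a ∈ H, a ^ 3 ∈ F) (hcomm : ∀ a ∈ H, ∀ b ∈ H, ⁅a, b⁆ ∈ F) (htop : H ≠ ⊤) :
    Nat.card H ≤ 3 ^ 2 * Nat.card F := by
  classical
  let J := (Finset.Icc 1 (n - 2)).filter fun l => Cov H l ∧ ¬ Cov F l
  have hJ : ∀ l, 1 ≤ l → l ≤ n - 2 → l ∉ J → Cov H l → Cov F l := fun l h1 h2 hl hc => by
    by_contra hn
    exact hl (Finset.mem_filter.2 ⟨Finset.mem_Icc.2 ⟨h1, h2⟩, hc, hn⟩)
  have hcube' : ∀ l, 1 ≤ l → l + 2 ≤ n - 2 → Cov H l → Cov F (l + 2) := by
    rintro l hl hln ⟨a, ha, hal, hal'⟩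
    exact ⟨a ^ 3, hcube a ha, pow_three_layer h hl hal, pow_three_notMem h hl hln hal hal'⟩
  have hchain : ∀ k l, 1 ≤ l → l + 2 * k ≤ n - 2 → Cov F l → Cov F (l + 2 * k) := by
    intro k
    induction k with
    | zero => exact fun l _ _ hc => hc
    | succ k ih =>
      intro l hl hln hc
      have h1 := ih l hl (by omega) hc
      obtain ⟨f, hf, h2⟩ := h1
      rw [show l + 2 * (k + 1) = l + 2 * k + 2 by ring]
      exact hcube' _ (by omega) (by omega) ⟨f, hF hf, h2⟩
  have hmemJ : ∀ l ∈ J, 1 ≤ l ∧ l ≤ n - 2 ∧ Cov H l ∧ ¬ Cov F l := fun l hl => by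
    obtain ⟨h1, h2⟩ := Finset.mem_filter.1 hl
    exact ⟨(Finset.mem_Icc.1 h1).1, (Finset.mem_Icc.1 h1).2, h2⟩
  have hstep : ∀ l ∈ J, ∀ m ∈ J, l < m → (m - l) % 2 = 0 → False := by
    intro l hl m hm hlm hpar
    obtain ⟨hl1, -, hlc, -⟩ := hmemJ l hl
    obtain ⟨-, hm2, -, hmn⟩ := hmemJ m hm
    have := hchain ((m - l) / 2 - 1) (l + 2) (by omega) (by omega) (hcube' l hl1 (by omega) hlc)
    rw [show l + 2 + 2 * ((m - l) / 2 - 1) = m by omega] at this
    exact hmn this
  have hmain := card_le_of_cover h H F J hJ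
  have hF1 : Nat.card (F ⊓ L 1 : Subgroup S) ≤ Nat.card F := card_le_of_le inf_le_left
  by_cases hH1 : H ≤ L 1
  · have hJ2 : J.card ≤ 2 := by
      have : J.card ≤ (Finset.range 2).card := by
        refine Finset.card_le_card_of_injOn (fun l => l % 2)
          (fun l _ => Finset.mem_range.2 (Nat.mod_lt _ two_pos)) ?_
        intro l hl m hm e
        simp only at e
        rcases lt_trichotomy l m with hlt | heq | hgt
        · exact (hstep l hl m hm hlt (by omega)).elim
        · exact heq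
        · exact (hstep m hm l hl hgt (by omega)).elim
      simpa using this
    rw [inf_eq_left.2 hH1] at hmain
    exact hmain.trans (Nat.mul_le_mul (Nat.pow_le_pow_right (by norm_num) hJ2) hF1)
  obtain ⟨x, hxH, hx1⟩ := SetLike.not_le_iff_exists.1 hH1
  have hJ1 : J.card ≤ 1 := by
    rw [Finset.card_le_one]
    suffices ∀ l ∈ J, ∀ m ∈ J, l < m → False by
      intro l hl m hm
      rcases lt_trichotomy l m with hlt | heq | hgt
      · exact (this l hl m hm hlt).elim
      · exact heq
      · exact (this m hm l hl hgt).elim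
    intro l hl m hm hlm
    obtain ⟨hl1, -, hlc, hln⟩ := hmemJ l hl
    obtain ⟨-, hm2, -, hmn⟩ := hmemJ m hm
    rcases Nat.mod_two_eq_zero_or_one (m - l) with hpar | hpar
    · exact hstep l hl m hm hlm hpar
    by_cases hxM : x ∈ twoStep (S := S) 1
    · obtain ⟨h2, h3⟩ := twoStep_pow_notMem h h5 hxM hx1
      have hF2 : Cov F 2 := ⟨x ^ 3, hcube x hxH, h2, h3⟩
      rcases Nat.mod_two_eq_zero_or_one l with he | ho
      · have := hchain ((l - 2) / 2) 2 (by omega) (by omega) hF2
        rw [show 2 + 2 * ((l - 2) / 2) = l by omega] at this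
        exact hln this
      · have := hchain ((m - 2) / 2) 2 (by omega) (by omega) hF2
        rw [show 2 + 2 * ((m - 2) / 2) = m by omega] at this
        exact hmn this
    · obtain ⟨a, ha, hal, hal'⟩ := hlc
      have hF1' : Cov F (l + 1) := ⟨⁅a, x⁆, hcomm a ha x hxH, comm_mem_succ hal x, by
        by_cases hlast : l + 3 ≤ n
        · exact h.comm_notMem hl1 (by omega) (avoid_of_notMem h h5 hxM l hl1 hlast) hal hal'
        · omega⟩
      have := hchain ((m - (l + 1)) / 2) (l + 1) (by omega) (by omega) hF1'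
      rw [show l + 1 + 2 * ((m - (l + 1)) / 2) = m by omega] at this
      exact hmn this
  calc Nat.card H ≤ 3 * Nat.card (H ⊓ L 1 : Subgroup S) := card_le_three_mul_inf h htop
    _ ≤ 3 * (3 ^ J.card * Nat.card (F ⊓ L 1 : Subgroup S)) := Nat.mul_le_mul_left _ hmain
    _ ≤ 3 * (3 ^ 1 * Nat.card F) :=
        Nat.mul_le_mul_left _ (Nat.mul_le_mul (Nat.pow_le_pow_right (by norm_num) hJ1) hF1)
    _ = 3 ^ 2 * Nat.card F := by ring

/-- Either the Frattini quotient of a subgroup has order at most 9, or we are in the exceptional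
group of order 81. -/
theorem frattini_index_le (h : MaxClass 3 n S) (h4 : 4 ≤ n) (H : Subgroup S) :
    (frattini H).index ≤ 3 ^ 2 ∨ (n = 4 ∧ Nat.card H = 27 ∧
      (∀ a ∈ H, ∀ b ∈ H, a * b = b * a) ∧ ∀ a ∈ H, a ^ 3 = 1) := by
  have hS := IsPGroup.of_card h.card
  have hHp : IsPGroup 3 H := hS.to_subgroup H
  haveI := h.nilpotent
  set F := (frattini H).map H.subtype with hFdef
  have hFH : F ≤ H := Subgroup.map_subtype_le _
  have hcardF : Nat.card F = Nat.card (frattini H) := card_map_of_injective H.subtype_injective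
  have hmul := (frattini H).card_mul_index
  rw [← hcardF] at hmul
  have hcube : ∀ a ∈ H, a ^ 3 ∈ F := fun a ha =>
    ⟨(⟨a, ha⟩ : H) ^ 3, CfsgLib.PGroup.pow_mem_frattini hHp _, rfl⟩
  have hcomm : ∀ a ∈ H, ∀ b ∈ H, ⁅a, b⁆ ∈ F := fun a ha b hb =>
    ⟨⁅(⟨a, ha⟩ : H), ⟨b, hb⟩⁆, CfsgLib.PGroup.commutator_le_frattini hHp
      (commutator_mem_commutator (mem_top _) (mem_top _)), rfl⟩
  have hfin : Nat.card H ≤ 3 ^ 2 * Nat.card F → (frattini H).index ≤ 3 ^ 2 := fun hle => by
    rw [← hmul, mul_comm] at hle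
    exact Nat.le_of_mul_le_mul_right hle Nat.card_pos
  by_cases htop : H = ⊤
  · refine Or.inl (hfin ?_)
    have hle : L 1 ≤ F := by
      rw [Subgroup.top_lowerCentralSeries_one, commutator_def, Subgroup.commutator_le]
      exact fun a _ b _ => hcomm a (htop.ge (mem_top a)) b (htop.ge (mem_top b))
    rw [htop, card_top, h.card]
    calc 3 ^ n = 3 ^ 2 * 3 ^ (n - 2) := by rw [← pow_add]; congr 1; omega
      _ ≤ _ := Nat.mul_le_mul_left _ (h.card_one ▸ card_le_of_le hle)
  rcases (by omega : n = 4 ∨ 5 ≤ n) with rfl | h5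
  · obtain ⟨k, hk, hk'⟩ := (Nat.dvd_prime_pow Nat.prime_three).1 (h.card ▸ H.card_subgroup_dvd_card)
    have hk4 : k ≠ 4 := by
      rintro rfl
      exact htop (eq_top_of_card_eq H (by rw [hk', h.card]))
    by_cases hbig : k = 3 ∧ F = ⊥
    · obtain ⟨rfl, hFb⟩ := hbig
      refine Or.inr ⟨rfl, by rw [hk']; norm_num, fun a ha b hb => ?_, fun a ha => ?_⟩
      · have := hcomm a ha b hb
        rwa [hFb, mem_bot, commutatorElement_eq_one_iff_mul_comm] at this
      · have := hcube a ha
        rwa [hFb, mem_bot] at this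
    · refine Or.inl (hfin ?_)
      rw [hk']
      by_cases hk2 : k ≤ 2
      · exact le_trans (Nat.pow_le_pow_right (by norm_num) hk2) (Nat.le_mul_of_pos_right _ Nat.card_pos)
      · have hk3 : k = 3 := by omega
        subst hk3
        have hF3 : 3 ≤ Nat.card F := by
          have hne : F ≠ ⊥ := fun e => hbig ⟨rfl, e⟩
          obtain ⟨j, hj⟩ := IsPGroup.iff_card.1 (hS.to_subgroup F)
          rcases j with _ | j
          · exact absurd (eq_bot_of_card_eq F (by simpa using hj)) hne
          · rw [hj, pow_succ']; exact Nat.le_mul_of_pos_right _ (pow_pos (by norm_num) j)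
        calc 3 ^ 3 = 3 ^ 2 * 3 := by norm_num
          _ ≤ _ := Nat.mul_le_mul_left _ hF3
  · exact Or.inl (hfin (card_le_nine_mul h h5 H F hFH hcube hcomm htop))

/-- The exceptional group is a Sylow subgroup of the symmetric group of degree 9. -/
theorem equiv_sylow_perm_nine (h : MaxClass 3 4 S) (H : Subgroup S) (hH : Nat.card H = 27)
    (hc : ∀ a ∈ H, ∀ b ∈ H, a * b = b * a) (he : ∀ a ∈ H, a ^ 3 = 1) :
    ∃ W : Sylow 3 (Equiv.Perm (Fin 9)),
      Nonempty (S ≃* ↥(W : Subgroup (Equiv.Perm (Fin 9)))) := by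
  classical
  have hS := IsPGroup.of_card h.card
  have hZ : Nat.card (center S) = 3 := CfsgLib.FusionMaxClass.card_center h.card (by norm_num) h.ne
  obtain ⟨z, hz, hz1⟩ := (center S).bot_or_exists_ne_one.resolve_left fun e => by
    rw [e, card_bot] at hZ; omega
  obtain ⟨K, hK9, hzK⟩ : ∃ K : Subgroup S, Nat.card K = 9 ∧ z ∉ K := by
    by_cases hzH : z ∈ H
    · have hHp : IsPGroup 3 H := hS.to_subgroup H
      have hfr : frattini H = ⊥ := by
        refine eq_bot_iff.2 ?_
        haveI : IsMulCommutative H := ⟨⟨fun a b => Subtype.ext (hc a a.2 b b.2)⟩⟩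
        exact CfsgLib.PGroup.frattini_le_of_elementary (p := 3) (N := (⊥ : Subgroup H))
          (fun a b => by
            rw [mem_bot, commutatorElement_eq_one_iff_mul_comm]
            exact Subtype.ext (hc a a.2 b b.2))
          (fun a => by rw [mem_bot]; exact Subtype.ext (by push_cast; exact he a a.2))
      obtain ⟨M, hM, hzM⟩ : ∃ M : Subgroup H, IsCoatom M ∧ (⟨z, hzH⟩ : H) ∉ M := by
        by_contra hh
        push Not at hh
        have : (⟨z, hzH⟩ : H) ∈ frattini H := by
          simp only [frattini, Order.radical, Subgroup.mem_iInf]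
          exact fun M hM => hh M hM
        rw [hfr, mem_bot] at this
        exact hz1 (congrArg Subtype.val this)
      refine ⟨M.map H.subtype, ?_, fun ⟨w, hw, e⟩ => hzM ((Subtype.ext e : w = ⟨z, hzH⟩) ▸ hw)⟩
      have h1 := M.card_mul_index
      rw [(CfsgLib.Yoshida.coatom_normal_index hHp hM).2, hH] at h1
      rw [card_map_of_injective H.subtype_injective]
      omega
    · obtain ⟨K, hK⟩ := Sylow.exists_subgroup_card_pow_prime (G := H) 3 (n := 2) (by rw [hH]; norm_num)
      refine ⟨K.map H.subtype, by rw [card_map_of_injective H.subtype_injective, hK]; norm_num, ?_⟩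
      rintro ⟨w, -, rfl⟩
      exact hzH w.2
  have hidx : Nat.card (S ⧸ K) = 9 := by
    have h1 := K.card_mul_index
    rw [hK9, h.card, index_eq_card] at h1
    omega
  let e : (S ⧸ K) ≃ Fin 9 := (Finite.equivFin _).trans (finCongr hidx)
  let φ : S →* Equiv.Perm (Fin 9) :=
    e.permCongrHom.toMonoidHom.comp (MulAction.toPermHom S (S ⧸ K))
  have hφ : Function.Injective φ := by
    refine (e.permCongrHom.injective).comp ((MonoidHom.ker_eq_bot_iff _).1 ?_)
    rw [← Subgroup.normalCore_eq_ker]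
    by_contra hne
    haveI := hS.isNilpotent
    have := CfsgLib.Transfer.inf_center_ne_bot (N := K.normalCore) hne
    refine this (eq_bot_iff.2 fun u hu => ?_)
    by_contra hu1
    have hu' : u ≠ 1 := fun e => hu1 (mem_bot.2 e)
    have hgen : (⟨z, hz⟩ : center S) ∈ zpowers (⟨u, hu.2⟩ : center S) :=
      mem_zpowers_of_prime_card hZ (fun e => hu' (congrArg Subtype.val e))
    obtain ⟨i, hi⟩ := mem_zpowers_iff.1 hgen
    exact hzK (K.normalCore_le (by
      have : u ^ i = z := by simpa using congrArg Subtype.val hi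
      rw [← this]
      exact K.normalCore.zpow_mem hu.1 i))
  have hR : IsPGroup 3 φ.range := hS.of_surjective φ.rangeRestrict φ.rangeRestrict_surjective
  obtain ⟨W, hW⟩ := hR.exists_le_sylow
  have hcardR : Nat.card φ.range = 3 ^ 4 := by
    rw [← Nat.card_congr (MonoidHom.ofInjective hφ).toEquiv, h.card]
  have heq : φ.range = (W : Subgroup (Equiv.Perm (Fin 9))) := by
    refine eq_of_le_of_card_ge hW ?_
    obtain ⟨k, hk⟩ := IsPGroup.iff_card.1 W.2
    rw [hk, hcardR]
    refine Nat.pow_le_pow_right (by norm_num) ?_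
    by_contra hk4
    have hdvd : 3 ^ 5 ∣ Nat.factorial 9 := by
      refine (Nat.pow_dvd_pow 3 (by omega : 5 ≤ k)).trans ?_
      rw [← hk]
      have := (W : Subgroup (Equiv.Perm (Fin 9))).card_subgroup_dvd_card
      rwa [Nat.card_perm, Nat.card_fin] at this
    revert hdvd
    decide
  exact ⟨W, ⟨(MonoidHom.ofInjective hφ).trans (MulEquiv.subgroupCongr heq)⟩⟩

end CfsgLib.PGroup.MaxClassThree
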