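import Cfsg.Agent.Lib.PGroup.RankFourThree
import Cfsg.Agent.Lib.PGroup.Basic
import Cfsg.Agent.Lib.Solvable.Basic
import Cfsg.Agent.Lib.PLocal.GlaubermanReplacement

/-!
For `p ≥ 5`, a `p`-group with an elementary abelian subgroup of order `p ^ 4` has a normal one.
-/

set_option autoImplicit false

namespace CfsgLib.RankFourOdd

open Subgroup
open scoped commutatorElement

variable {G : Type*} [Group G] {p : ℕ}

/-- A commutator map with values in an abelian subgroup bounds the order. -/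
theorem card_le_of_commutator [Finite G] {E A : Subgroup G} {x : G}
    (h : ∀ e ∈ E, ⁅e, x⁆ ∈ A) (hc : ∀ e ∈ E, ∀ a ∈ A, e * a = a * e)
    (hA : ∀ a ∈ A, ∀ b ∈ A, a * b = b * a) :
    Nat.card E ≤ Nat.card A * Nat.card ↥(E ⊓ centralizer ({x} : Set G)) := by
  let f : E →* A := MonoidHom.mk' (fun e => ⟨⁅(e : G), x⁆, h e e.2⟩) fun a b => Subtype.ext <| by
    show ⁅((a * b : E) : G), x⁆ = ⁅(a : G), x⁆ * ⁅(b : G), x⁆
    have h1 : ⁅((a * b : E) : G), x⁆ = (a : G) * ⁅(b : G), x⁆ * (a : G)⁻¹ * ⁅(a : G), x⁆ := by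
      simp only [commutatorElement_def, Subgroup.coe_mul]; group
    rw [h1, hc a a.2 _ (h b b.2), mul_inv_cancel_right, hA _ (h b b.2) _ (h a a.2)]
  have h1 := Subgroup.card_eq_card_quotient_mul_card_subgroup f.ker
  rw [Nat.card_congr (QuotientGroup.quotientKerEquivRange f).toEquiv] at h1
  rw [h1]
  refine Nat.mul_le_mul (Subgroup.card_le_card_group _) ?_
  refine Nat.card_le_card_of_injective (fun e => ⟨(e.1 : G), e.1.2, ?_⟩) ?_
  · refine mem_centralizer_singleton_iff.2 ?_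
    have h2 := congrArg Subtype.val e.2
    exact commutatorElement_eq_one_iff_mul_comm.1 h2
  · intro a b hab
    exact Subtype.ext (Subtype.ext (congrArg (fun z : ↥(E ⊓ centralizer ({x} : Set G)) => (z : G)) hab))

/-- Powers of a product `c * e` when `e` acts on `c` with class three. -/
theorem mul_pow_class_three {c e n₁ n₂ : G} (h1 : e * c = n₁ * c * e) (h2 : e * n₁ = n₂ * n₁ * e)
    (h2' : Commute e n₂) (h12 : Commute n₁ n₂) (hc1 : Commute c n₁) (hc2 : Commute c n₂) (k : ℕ) :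
    (c * e) ^ k = n₁ ^ k.choose 2 * n₂ ^ k.choose 3 * c ^ k * e ^ k := by
  have key : ∀ j : ℕ, e ^ j * c = n₁ ^ j * n₂ ^ j.choose 2 * c * e ^ j := by
    intro j
    induction j with
    | zero => simp
    | succ j ih =>
      have e1 : e * n₁ ^ j = n₁ ^ j * n₂ ^ j * e := by
        rw [← h12.mul_pow]
        exact SemiconjBy.pow_right
          (show SemiconjBy e n₁ (n₁ * n₂) by rw [h12.eq]; exact h2) j
      have e2 : e * n₂ ^ j.choose 2 = n₂ ^ j.choose 2 * e := (h2'.pow_right _).eq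
      calc e ^ (j + 1) * c = e * (e ^ j * c) := by rw [pow_succ', mul_assoc]
        _ = (e * n₁ ^ j) * n₂ ^ j.choose 2 * c * e ^ j := by rw [ih]; simp only [mul_assoc]
        _ = n₁ ^ j * n₂ ^ j * (e * n₂ ^ j.choose 2) * c * e ^ j := by rw [e1]; simp only [mul_assoc]
        _ = n₁ ^ j * (n₂ ^ j * n₂ ^ j.choose 2) * (e * c) * e ^ j := by rw [e2]; simp only [mul_assoc]
        _ = n₁ ^ j * (n₂ ^ j * n₂ ^ j.choose 2 * n₁) * c * (e * e ^ j) := by
            rw [h1]; simp only [mul_assoc]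
        _ = n₁ ^ (j + 1) * n₂ ^ (j + 1).choose 2 * c * e ^ (j + 1) := by
            rw [← pow_add, ← (h12.pow_right _).eq, ← mul_assoc (n₁ ^ j), ← pow_succ, ← pow_succ',
              Nat.choose_succ_succ, Nat.choose_one_right]
  induction k with
  | zero => simp
  | succ k ih =>
    calc (c * e) ^ (k + 1) = n₁ ^ k.choose 2 * n₂ ^ k.choose 3 * c ^ k * (e ^ k * c) * e := by
          rw [pow_succ, ih]; simp only [mul_assoc]
      _ = n₁ ^ k.choose 2 * n₂ ^ k.choose 3 * (c ^ k * (n₁ ^ k * n₂ ^ k.choose 2)) * c * e ^ k * e := by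
          rw [key]; simp only [mul_assoc]
      _ = n₁ ^ k.choose 2 * (n₂ ^ k.choose 3 * n₁ ^ k) * n₂ ^ k.choose 2 * (c ^ k * c) * (e ^ k * e) := by
          rw [((hc1.pow_pow k k).mul_right (hc2.pow_pow k (k.choose 2))).eq]; simp only [mul_assoc]
      _ = _ := by
          rw [← (h12.pow_pow k (k.choose 3)).eq, ← mul_assoc (n₁ ^ k.choose 2), ← pow_add, mul_assoc _ (n₂ ^ _) (n₂ ^ _),
            ← pow_add, ← pow_succ, ← pow_succ, Nat.choose_succ_succ k 1, Nat.choose_succ_succ k 2,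
            Nat.choose_one_right]
          rw [add_comm (k.choose 2) k, add_comm (k.choose 2) (k.choose 3)]

theorem exists_normal_of_rank_three [Finite G] [hp : Fact p.Prime] (hp5 : 5 ≤ p) (hG : IsPGroup p G)
    {E N : Subgroup G} (hE : Cfsg.IsElementaryAbelian p E) (hE4 : Nat.card E = p ^ 4) [hNn : N.Normal]
    (hN : Cfsg.IsElementaryAbelian p N) (hN3 : Nat.card N = p ^ 3)
    (hΩ : ∀ x ∈ centralizer (N : Set G), x ^ p = 1 → x ∈ N) : E.Normal := by
  classical
  have hpp := hp.out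
  have hNc : ∀ a ∈ N, ∀ b ∈ N, a * b = b * a := fun a ha b hb =>
    mem_centralizer_iff.1 (le_centralizer_iff_isMulCommutative.2 hN.1 hb) a ha
  have hEc : ∀ a ∈ E, ∀ b ∈ E, a * b = b * a := fun a ha b hb =>
    mem_centralizer_iff.1 (le_centralizer_iff_isMulCommutative.2 hE.1 hb) a ha
  have hcardne : ∀ {H : Subgroup G} {a : ℕ}, Nat.card H = p ^ (a + 1) → H ≠ ⊥ := by
    rintro H a h rfl
    rw [card_bot] at h
    exact (Nat.one_lt_pow a.succ_ne_zero hpp.one_lt).ne h
  -- the series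
  obtain ⟨K2, n, hK2n, hK2N, hnN, hnK2, hsup, hcard, hn⟩ :=
    CfsgLib.PGroup.exists_normal_index_prime hG N (hcardne (a := 2) hN3)
  have := hK2n
  have hK2c : Nat.card K2 = p ^ 2 := by
    rw [hN3, pow_succ'] at hcard
    exact (Nat.eq_of_mul_eq_mul_left hpp.pos hcard).symm
  obtain ⟨K1, k, hK1n, hK12, hkK2, -, hsup1, hcard1, hk⟩ :=
    CfsgLib.PGroup.exists_normal_index_prime hG K2 (hcardne (a := 1) hK2c)
  have := hK1n
  have hK1c : Nat.card K1 = p := by
    rw [hK2c, pow_two] at hcard1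
    exact (Nat.eq_of_mul_eq_mul_left hpp.pos hcard1).symm
  obtain ⟨K0, z, -, -, -, -, hsup0, hcard0, hz⟩ :=
    CfsgLib.PGroup.exists_normal_index_prime hG K1 (hcardne (a := 0) (by rw [hK1c, zero_add, pow_one]))
  have hK0 : K0 = ⊥ := by
    rw [hK1c] at hcard0
    exact Subgroup.eq_bot_of_card_eq K0 (Nat.eq_of_mul_eq_mul_left hpp.pos (by rw [mul_one]; exact hcard0.symm))
  have hK1z : ∀ g : G, ∀ a ∈ K1, g * a = a * g := by
    intro g a ha
    have h1 : K1 ≤ Subgroup.center G := by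
      rw [← hsup0, hK0, bot_sup_eq, zpowers_le, mem_center_iff]
      intro g
      have h2 := hz g
      rw [hK0, mem_bot] at h2
      exact (commutatorElement_eq_one_iff_mul_comm.1 h2).symm
    exact mem_center_iff.1 (h1 ha) g
  set C := centralizer (N : Set G) with hC
  set W := E ⊓ N with hW
  have hWN : W ≤ N := inf_le_right
  have hWE : W ≤ E := inf_le_left
  have hNC : N ≤ C := le_centralizer_iff_isMulCommutative.2 hN.1
  have hEC : ∀ x ∈ E, x ∈ C → x ∈ W := fun x hx hxC => ⟨hx, hΩ x hxC (hE.2 x hx)⟩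
  have hcen : ∀ {K : Subgroup G} {w : G} {x : G}, K ⊔ zpowers w = N → (∀ a ∈ K, x * a = a * x) →
      x * w = w * x → x ∈ C := by
    intro K w x hs hxK hxw
    have h1 : N ≤ centralizer ({x} : Set G) := hs ▸
      sup_le (fun a ha => mem_centralizer_singleton_iff.2 (hxK a ha).symm)
        (zpowers_le.2 (mem_centralizer_singleton_iff.2 hxw.symm))
    exact mem_centralizer_iff.2 fun a ha => mem_centralizer_singleton_iff.1 (h1 ha)
  have hsupN : ∀ {K : Subgroup G}, K ≤ N → Nat.card K = p ^ 2 → ∀ w ∈ N, w ∉ K → K ⊔ zpowers w = N := by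
    intro K hK hKc w hw hwK
    have hle : K ⊔ zpowers w ≤ N := sup_le hK (zpowers_le.2 hw)
    obtain ⟨i, hi⟩ := IsPGroup.iff_card.1 (hG.to_subgroup (K ⊔ zpowers w))
    have hlt : Nat.card K < Nat.card ↥(K ⊔ zpowers w) := by
      refine lt_of_le_of_ne (card_le_of_le le_sup_left) fun h => hwK ?_
      rw [Subgroup.eq_of_le_of_card_ge le_sup_left h.ge]
      exact mem_sup_right (mem_zpowers w)
    rw [hKc, hi] at hlt
    refine Subgroup.eq_of_le_of_card_ge hle ?_
    rw [hN3, hi]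
    exact Nat.pow_le_pow_right hpp.pos ((Nat.pow_lt_pow_iff_right hpp.one_lt).1 hlt)
  -- `W = K2` is centralized by `E`
  set E1 := E ⊓ centralizer (K2 : Set G) with hE1
  have hle1 : Nat.card E ≤ p * Nat.card E1 := by
    rw [← hK1c]
    refine le_trans (card_le_of_commutator (x := k) (fun e _ => ?_) (fun e _ a ha => hK1z e a ha)
      fun a _ b hb => hK1z a b hb) (Nat.mul_le_mul le_rfl (card_le_of_le fun e he => ⟨he.1, ?_⟩))
    · rw [← commutatorElement_inv]; exact inv_mem (hk e)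
    · refine mem_centralizer_iff.2 fun a ha => ?_
      have h1 : K2 ≤ centralizer ({e} : Set G) := by
        rw [← hsup1, sup_le_iff, zpowers_le]
        exact ⟨fun b hb => mem_centralizer_singleton_iff.2 (hK1z e b hb).symm,
          mem_centralizer_singleton_iff.2 (mem_centralizer_singleton_iff.1 he.2).symm⟩
      exact mem_centralizer_singleton_iff.1 (h1 ha)
  set A2 := K2 ⊓ centralizer (E : Set G) with hA2
  have hle2 : Nat.card E1 ≤ Nat.card A2 * Nat.card W := by
    refine le_trans (card_le_of_commutator (A := A2) (x := n) (fun e he => ?_)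
      (fun e he a ha => (mem_centralizer_iff.1 he.2 a ha.1).symm)
      fun a ha b hb => hNc a (hK2N ha.1) b (hK2N hb.1)) (Nat.mul_le_mul le_rfl (card_le_of_le fun e he => ?_))
    · have hm : ⁅e, n⁆ ∈ K2 := by rw [← commutatorElement_inv]; exact inv_mem (hn e)
      refine ⟨hm, mem_centralizer_iff.2 fun e₀ he₀ => ?_⟩
      have hh : ⁅e₀, n⁆ ∈ K2 := by rw [← commutatorElement_inv]; exact inv_mem (hn e₀)
      have h1 : e₀ * ⁅e, n⁆ * e₀⁻¹ = ⁅e₀ * e * e₀⁻¹, e₀ * n * e₀⁻¹⁆ := by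
        simp only [commutatorElement_def]; group
      have h2 : e₀ * n * e₀⁻¹ = ⁅e₀, n⁆ * n := by simp only [commutatorElement_def]; group
      have h3 : ⁅e, ⁅e₀, n⁆ * n⁆ = ⁅e, ⁅e₀, n⁆⁆ * (⁅e₀, n⁆ * ⁅e, n⁆ * ⁅e₀, n⁆⁻¹) := by
        simp only [commutatorElement_def]; group
      rw [h2, hEc e₀ he₀ e he.1, mul_inv_cancel_right, h3,
        commutatorElement_eq_one_iff_mul_comm.2 (mem_centralizer_iff.1 he.2 _ hh).symm, one_mul,
        hNc _ (hK2N hh) _ (hK2N hm), mul_inv_cancel_right] at h1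
      exact mul_inv_eq_iff_eq_mul.1 h1
    · exact hEC e he.1.1 (hcen hsup (fun a ha => (mem_centralizer_iff.1 he.1.2 a ha).symm)
        (mem_centralizer_singleton_iff.1 he.2))
  have hWC : ∀ w ∈ W, ∀ e ∈ E, e * w = w * e := fun w hw e he => hEc e he w hw.1
  have hWne : Nat.card W ≤ p ^ 2 := by
    obtain ⟨i, hi⟩ := IsPGroup.iff_card.1 (hG.to_subgroup W)
    have h1 := card_le_of_le hWN
    rw [hi, hN3, Nat.pow_le_pow_iff_right hpp.one_lt] at h1
    rcases Nat.lt_or_ge i 3 with h | h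
    · rw [hi]; exact Nat.pow_le_pow_right hpp.pos (by omega)
    exfalso
    have hWeq : W = N := Subgroup.eq_of_le_of_card_ge hWN (by rw [hi, hN3]; exact Nat.pow_le_pow_right hpp.pos h)
    have h2 : E ≤ N := fun e he => (hEC e he (mem_centralizer_iff.2 fun a ha =>
      hEc a (hWE (hWeq.ge ha)) e he)).2
    have h3 := card_le_of_le h2
    rw [hE4, hN3, Nat.pow_le_pow_iff_right hpp.one_lt] at h3
    omega
  have hA2K : A2 = K2 := by
    by_contra hne
    have hA2c : Nat.card A2 ≤ p := by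
      obtain ⟨i, hi⟩ := IsPGroup.iff_card.1 (hG.to_subgroup A2)
      have h1 : Nat.card A2 < Nat.card K2 :=
        lt_of_le_of_ne (card_le_of_le inf_le_left) fun h => hne (Subgroup.eq_of_le_of_card_ge inf_le_left h.ge)
      rw [hi, hK2c, Nat.pow_lt_pow_iff_right hpp.one_lt] at h1
      rw [hi]
      exact (Nat.pow_le_pow_right hpp.pos (show i ≤ 1 by omega)).trans (pow_one p).le
    have h1 : p ^ 4 ≤ p * (p * Nat.card W) := hE4 ▸ hle1.trans
      (Nat.mul_le_mul_left _ (hle2.trans (Nat.mul_le_mul_right _ hA2c)))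
    have hWc : Nat.card W = p ^ 2 := le_antisymm hWne (Nat.le_of_mul_le_mul_left
      (Nat.le_of_mul_le_mul_left (by rw [show p * (p * p ^ 2) = p ^ 4 by ring]; exact h1) hpp.pos) hpp.pos)
    by_cases hWK : W ≤ K2
    · refine hne (le_antisymm inf_le_left fun a ha => ⟨ha, mem_centralizer_iff.2 fun e he => ?_⟩)
      exact hWC a ((Subgroup.eq_of_le_of_card_ge hWK (by rw [hWc, hK2c])).ge ha) e he
    obtain ⟨w, hw, hwK⟩ := SetLike.not_le_iff_exists.1 hWK
    have h2 : E1 ≤ W := fun e he => hEC e he.1 (hcen (hsupN hK2N hK2c w hw.2 hwK)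
      (fun a ha => (mem_centralizer_iff.1 he.2 a ha).symm) (hWC w hw e he.1))
    have h3 := hle1.trans (Nat.mul_le_mul_left p (card_le_of_le h2))
    rw [hE4, hWc, ← pow_succ', Nat.pow_le_pow_iff_right hpp.one_lt] at h3
    omega
  have hK2E : ∀ a ∈ K2, ∀ e ∈ E, e * a = a * e := fun a ha e he =>
    mem_centralizer_iff.1 (hA2K.ge ha).2 e he
  have hE1E : E1 = E := inf_eq_left.2 fun e he => mem_centralizer_iff.2 fun a ha => (hK2E a ha e he).symm
  have hWc : Nat.card W = p ^ 2 := by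
    refine le_antisymm hWne (Nat.le_of_mul_le_mul_left ?_ (pow_pos hpp.pos 2))
    rw [← pow_add]
    rw [hE1E, hA2K, hK2c, hE4] at hle2
    exact hle2
  have hWK : W = K2 := by
    by_contra hne
    have : ¬ W ≤ K2 := fun h => hne (Subgroup.eq_of_le_of_card_ge h (by rw [hWc, hK2c]))
    obtain ⟨w, hw, hwK⟩ := SetLike.not_le_iff_exists.1 this
    have h1 : E ≤ W := fun e he => hEC e he (hcen (hsupN hK2N hK2c w hw.2 hwK)
      (fun a ha => hK2E a ha e he) (hWC w hw e he))
    have := card_le_of_le h1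
    rw [hE4, hWc, Nat.pow_le_pow_iff_right hpp.one_lt] at this
    omega
  have hWn : W.Normal := hWK ▸ hK2n
  have hδ : ∀ g : G, ∀ x ∈ N, ⁅g, x⁆ ∈ W := by
    intro g x hx
    rw [hWK]
    have h1 : ∀ y ∈ N, (QuotientGroup.mk' K2) y ∈ Subgroup.center (G ⧸ K2) := by
      intro y hy
      have hle : N.map (QuotientGroup.mk' K2) ≤ Subgroup.center (G ⧸ K2) := by
        rw [← hsup, Subgroup.map_sup, QuotientGroup.map_mk'_self, bot_sup_eq, MonoidHom.map_zpowers,
          zpowers_le, mem_center_iff]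
        intro q
        obtain ⟨g', rfl⟩ := QuotientGroup.mk'_surjective K2 q
        rw [eq_comm, ← commutatorElement_eq_one_iff_mul_comm, ← map_commutatorElement,
          QuotientGroup.mk'_apply, QuotientGroup.eq_one_iff]
        exact hn g'
      exact hle (mem_map_of_mem _ hy)
    rw [← QuotientGroup.eq_one_iff, ← QuotientGroup.mk'_apply (N := K2), map_commutatorElement,
      commutatorElement_eq_one_iff_mul_comm]
    exact (mem_center_iff.1 (h1 x hx) _)
  have hnW : n ∉ W := hWK ▸ hnK2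
  have hsurj : ∀ w ∈ W, ∃ e ∈ E, ⁅e, n⁆ = w := by
    let f : E →* W := MonoidHom.mk' (fun e => ⟨⁅(e : G), n⁆, hδ e n hnN⟩) fun a b => Subtype.ext <| by
      show ⁅((a * b : E) : G), n⁆ = ⁅(a : G), n⁆ * ⁅(b : G), n⁆
      have h1 : ⁅((a * b : E) : G), n⁆ = (a : G) * ⁅(b : G), n⁆ * (a : G)⁻¹ * ⁅(a : G), n⁆ := by
        simp only [commutatorElement_def, Subgroup.coe_mul]; group
      rw [h1, hWC _ (hδ b n hnN) a a.2, mul_inv_cancel_right, hNc _ (hWN (hδ b n hnN)) _ (hWN (hδ a n hnN))]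
    have hker : Nat.card f.ker ≤ p ^ 2 := by
      rw [← hWc]
      refine Nat.card_le_card_of_injective (fun e => ⟨(e.1 : G), hEC _ e.1.2 ?_⟩) ?_
      · exact hcen hsup (fun a ha => hK2E a ha _ e.1.2)
          (commutatorElement_eq_one_iff_mul_comm.1 (congrArg Subtype.val e.2))
      · intro a b hab
        exact Subtype.ext (Subtype.ext (congrArg (fun z : W => (z : G)) hab))
    have h1 := Subgroup.card_eq_card_quotient_mul_card_subgroup f.ker
    rw [Nat.card_congr (QuotientGroup.quotientKerEquivRange f).toEquiv, hE4] at h1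
    have h2 : f.range = ⊤ := Subgroup.eq_of_le_of_card_ge le_top (by
      rw [card_top, hWc]
      refine Nat.le_of_mul_le_mul_right ?_ (pow_pos hpp.pos 2)
      rw [← pow_add]
      exact h1.le.trans (Nat.mul_le_mul_left _ hker))
    intro w hw
    obtain ⟨e, he⟩ := MonoidHom.range_eq_top.1 h2 ⟨w, hw⟩
    exact ⟨e, e.2, congrArg Subtype.val he⟩
  have hfac : ∀ y : G, (∀ w ∈ W, y * w = w * y) → ∃ e ∈ E, y * e⁻¹ ∈ C := by
    intro y hy
    obtain ⟨e, he, hen⟩ := hsurj _ (hδ y n hnN)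
    refine ⟨e, he, hcen hsup (fun a ha => ?_) ?_⟩
    · have ha' : a ∈ W := hWK.ge ha
      calc y * e⁻¹ * a = y * a * e⁻¹ := by
            rw [mul_assoc, hWC a ha' _ (inv_mem he), ← mul_assoc]
        _ = a * (y * e⁻¹) := by rw [hy a ha', mul_assoc]
    · have h1 : y * n * y⁻¹ = e * n * e⁻¹ := by
        have := congrArg (· * n) hen.symm
        simpa [commutatorElement_def, mul_assoc] using this
      rw [← mul_inv_eq_iff_eq_mul]
      calc y * e⁻¹ * n * (y * e⁻¹)⁻¹ = y * (e⁻¹ * n * e) * y⁻¹ := by group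
        _ = n := by
          have h2 : e⁻¹ * n * e = ⁅e⁻¹, n⁆ * n := by simp only [commutatorElement_def]; group
          have h3 : ⁅e⁻¹, n⁆ = ⁅e, n⁆⁻¹ := by
            have h4 : ⁅e⁻¹, n⁆ = e⁻¹ * ⁅e, n⁆⁻¹ * e := by simp only [commutatorElement_def]; group
            rw [h4, mul_assoc, ← hWC _ (inv_mem (hδ e n hnN)) e he, inv_mul_cancel_left]
          have hmem := inv_mem (hδ e n hnN)
          rw [h2, h3, ← mul_assoc y, hy _ hmem, mul_assoc, mul_assoc, ← mul_assoc y n y⁻¹, h1]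
          simp [commutatorElement_def, mul_assoc]
  set M := N ⊔ E with hM
  have hEnN : E ≤ normalizer (N : Set G) := le_normalizer_of_normal
  have hMC : ∀ x ∈ M, x ∈ C → x ∈ N := by
    intro x hx hxC
    obtain ⟨a, ha, e, he, rfl⟩ := (CfsgLib.Solvable.mem_sup_of_le_normalizer hEnN).1 hx
    refine mul_mem ha (hEC e he ?_).2
    have := mul_mem (inv_mem (hNC ha)) hxC
    rwa [inv_mul_cancel_left] at this
  have hCn : C.Normal := inferInstance
  set R := C ⊓ normalizer (M : Set G) with hR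
  have key : ∀ c ∈ R, ∀ e ∈ E, (c * e) ^ p = 1 → c ∈ N := by
    intro c hc e he hce
    set n₁ := ⁅e, c⁆ with hn₁
    have hn₁N : n₁ ∈ N := by
      refine hMC _ ?_ ?_
      · have h1 : n₁ = e * (c * e⁻¹ * c⁻¹) := by rw [hn₁, commutatorElement_def]; group
        rw [h1]
        exact mul_mem (mem_sup_right he) ((mem_normalizer_iff.1 hc.2 _).1 (mem_sup_right (inv_mem he)))
      · exact mul_mem (hCn.conj_mem c hc.1 e) (inv_mem hc.1)
    set n₂ := ⁅e, n₁⁆ with hn₂
    have hn₂W : n₂ ∈ W := hδ e n₁ hn₁N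
    have hcN : ∀ a ∈ N, Commute c a := fun a ha => (mem_centralizer_iff.1 hc.1 a ha).symm
    have hpow := mul_pow_class_three (c := c) (e := e) (n₁ := n₁) (n₂ := n₂)
      (by rw [hn₁, commutatorElement_def]; group) (by rw [hn₂, commutatorElement_def]; group)
      (hWC n₂ hn₂W e he) (hNc n₁ hn₁N n₂ (hWN hn₂W)) (hcN _ hn₁N) (hcN _ (hWN hn₂W)) p
    have hz : ∀ a ∈ N, ∀ j : ℕ, p ∣ j → a ^ j = 1 := by
      rintro a ha _ ⟨i, rfl⟩
      rw [pow_mul, hN.2 a ha, one_pow]
    rw [hce, hz _ hn₁N _ (hpp.dvd_choose_self (by norm_num) (by omega)),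
      hz _ (hWN hn₂W) _ (hpp.dvd_choose_self (by norm_num) (by omega)), hE.2 e he, one_mul, one_mul,
      mul_one] at hpow
    exact hΩ c hc.1 hpow.symm
  have hEM : E ≤ normalizer (M : Set G) := le_sup_right.trans le_normalizer
  have hER : E ≤ normalizer (R : Set G) :=
    (le_inf le_normalizer_of_normal (hEM.trans le_normalizer)).trans
      inf_normalizer_le_normalizer_inf
  have hconj : ∀ c : G, (∀ e ∈ E, c * e * c⁻¹ ∈ M) → c ∈ normalizer (M : Set G) := by
    intro c h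
    rw [mem_normalizer_iff_map_conj_eq]
    refine Subgroup.eq_of_le_of_card_ge ?_
      (Nat.card_congr (M.equivMapOfInjective _ (MulAut.conj c).injective).toEquiv).le
    rw [hM, Subgroup.map_sup, sup_le_iff]
    constructor
    · rintro _ ⟨a, ha, rfl⟩
      exact mem_sup_left (hNn.conj_mem a ha c)
    · rintro _ ⟨a, ha, rfl⟩
      exact h a ha
  have hRC : R = C := by
    by_contra hne
    have hlt : R ⊔ E < C ⊔ E := lt_of_le_of_ne (sup_le_sup_right inf_le_left _) fun heq => hne <| by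
      refine le_antisymm inf_le_left fun c hc => ?_
      obtain ⟨r, hr, e, he, hre⟩ := (CfsgLib.Solvable.mem_sup_of_le_normalizer hER).1
        (heq.ge (mem_sup_left hc) : c ∈ R ⊔ E)
      have he' : e ∈ W := hEC e he (by
        have h3 : r * e ∈ C := hre.symm ▸ hc
        have := mul_mem (inv_mem (show r ∈ C from hr.1)) h3
        rwa [inv_mul_cancel_left] at this)
      rw [← hre]
      exact mul_mem hr ⟨hNC he'.2, le_normalizer (mem_sup_left he'.2)⟩
    have hnil := (hG.to_subgroup (C ⊔ E)).isNilpotent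
    have hnc := Group.normalizerCondition_of_isNilpotent (G := ↥(C ⊔ E)) ((R ⊔ E).subgroupOf (C ⊔ E))
      (lt_top_iff_ne_top.2 fun h => hlt.not_ge (subgroupOf_eq_top.1 h))
    obtain ⟨⟨x, hx⟩, hxn, hxR⟩ := SetLike.exists_of_lt hnc
    obtain ⟨c, hc, e', he', rfl⟩ := (CfsgLib.Solvable.mem_sup_of_le_normalizer le_normalizer_of_normal).1 hx
    have hconjRE : ∀ y ∈ R ⊔ E, c * e' * y * (c * e')⁻¹ ∈ R ⊔ E := fun y hy =>
      (mem_normalizer_iff.1 hxn ⟨y, hlt.le hy⟩).1 (mem_subgroupOf.2 hy)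
    have hcM : c ∈ normalizer (M : Set G) := hconj c fun e he => by
      have h1 := hconjRE e (mem_sup_right he)
      rw [show c * e' * e * (c * e')⁻¹ = c * (e' * e * e'⁻¹) * c⁻¹ by group,
        hEc e' he' e he, mul_inv_cancel_right] at h1
      obtain ⟨r, hr, e'', he'', hre⟩ := (CfsgLib.Solvable.mem_sup_of_le_normalizer hER).1 h1
      rw [← hre]
      refine mul_mem (mem_sup_left (key r hr e'' he'' ?_)) (mem_sup_right he'')
      rw [hre, conj_pow, hE.2 e he, mul_one, mul_inv_cancel]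
    exact hxR (mem_subgroupOf.2 (mul_mem (mem_sup_left ⟨hc, hcM⟩) (mem_sup_right he')))
  have hMn : ∀ g : G, ∀ e ∈ E, g * e * g⁻¹ ∈ M := by
    intro g e he
    obtain ⟨e', he', hcC⟩ := hfac (g * e * g⁻¹) fun w hw => by
      have h1 := hWC _ (hWn.conj_mem w hw g⁻¹) e he
      rw [inv_inv] at h1
      calc g * e * g⁻¹ * w = g * (e * (g⁻¹ * w * g)) * g⁻¹ := by group
        _ = w * (g * e * g⁻¹) := by rw [h1]; group
    have h1 : g * e * g⁻¹ = g * e * g⁻¹ * e'⁻¹ * e' := (inv_mul_cancel_right _ _).symm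
    rw [h1]
    refine mul_mem (mem_sup_left (key _ (hRC.ge hcC) e' he' ?_)) (mem_sup_right he')
    rw [inv_mul_cancel_right, conj_pow, hE.2 e he, mul_one, mul_inv_cancel]
  have hME : M ≤ normalizer (E : Set G) := by
    refine sup_le (fun a ha => ?_) le_normalizer
    refine mem_normalizer_fintype fun e he => ?_
    have h1 : a * e * a⁻¹ = (e * ⁅e⁻¹, a⁆) := by simp only [commutatorElement_def]; group
    rw [h1]
    exact mul_mem he (hWE (hδ e⁻¹ a ha))
  have hMc : Nat.card M ≤ p ^ 5 := by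
    have := CfsgLib.PLoc.card_sup_mul_card_inf (H := E) (N := N) hEnN
    rw [sup_comm, ← hM, ← hW, hWc, hE4, hN3, ← pow_add, show 4 + 3 = 5 + 2 from rfl, pow_add] at this
    exact (Nat.eq_of_mul_eq_mul_right (pow_pos hpp.pos 2) this).le
  refine ⟨fun e he g => ?_⟩
  set A := E.map (MulAut.conj g).toMonoidHom with hA
  have hAM : A ≤ M := by rintro _ ⟨x, hx, rfl⟩; exact hMn g x hx
  obtain ⟨a, ha, e₀, he₀, hy⟩ := (CfsgLib.Solvable.mem_sup_of_le_normalizer hEnN).1 (hMn g e he)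
  by_cases haW : a ∈ W
  · rw [← hy]; exact mul_mem (hWE haW) he₀
  exfalso
  have hAE : p ^ 3 ≤ Nat.card ↥(A ⊓ E) := by
    have h1 := CfsgLib.PLoc.card_sup_mul_card_inf (H := A) (N := E) (hAM.trans hME)
    rw [show Nat.card A = Nat.card E from
      (Nat.card_congr (E.equivMapOfInjective _ (MulAut.conj g).injective).toEquiv).symm, hE4,
      ← pow_add] at h1
    have h2 : Nat.card ↥(A ⊔ E) ≤ p ^ 5 := (card_le_of_le (sup_le hAM le_sup_right)).trans hMc
    refine Nat.le_of_mul_le_mul_left ?_ (pow_pos hpp.pos 5)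
    rw [← pow_add]
    exact h1.ge.trans (Nat.mul_le_mul_right _ h2)
  obtain ⟨e₁, he₁, he₁W⟩ : ∃ e₁ ∈ A ⊓ E, e₁ ∉ W := by
    by_contra hcon
    push Not at hcon
    have := hAE.trans (card_le_of_le hcon)
    rw [hWc, Nat.pow_le_pow_iff_right hpp.one_lt] at this
    omega
  have hyA : g * e * g⁻¹ ∈ A := ⟨e, he, rfl⟩
  have h1 : Commute e₁ (a * e₀) := by
    rw [hy]
    obtain ⟨x, hx, hxe⟩ := he₁.1
    rw [← hxe]
    exact (show Commute x e from hEc x hx e he).map (MulAut.conj g).toMonoidHom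
  have h2 : Commute e₁ a := by
    have := h1.mul_right (show Commute e₁ e₀⁻¹ from hEc e₁ he₁.2 _ (inv_mem he₀))
    rwa [mul_inv_cancel_right] at this
  exact he₁W (hEC e₁ he₁.2 (hcen (hsupN hWN hWc a ha haW) (fun w hw => hWC w hw e₁ he₁.2) h2))

end CfsgLib.RankFourOdd
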