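import Cfsg.Agent.Lib.OddOrder.NormalRank
import Cfsg.Agent.Lib.Solvable.Core

/-!
A 3-group with an elementary abelian subgroup of order `3 ^ 4` has a normal one.
-/

set_option autoImplicit false
set_option linter.style.haveILetI false
set_option linter.unusedVariables false

namespace CfsgLib.RankFourThree

open Subgroup CfsgLib.OddOrder
open scoped commutatorElement

variable {P : Type*} [Group P] [Finite P]

theorem commute_of {p : ℕ} {A : Subgroup P} (hA : Cfsg.IsElementaryAbelian p A) {a b : P}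
    (ha : a ∈ A) (hb : b ∈ A) : a * b = b * a :=
  congrArg Subtype.val (hA.1.is_comm.comm (⟨a, ha⟩ : A) ⟨b, hb⟩)

theorem conj_isEA {p : ℕ} {A : Subgroup P} (hA : Cfsg.IsElementaryAbelian p A) (g : P) :
    Cfsg.IsElementaryAbelian p (A.map (MulAut.conj g).toMonoidHom) := by
  haveI := hA.1
  refine ⟨inferInstance, ?_⟩
  rintro _ ⟨a, ha, rfl⟩
  rw [← map_pow, hA.2 a ha, map_one]

/-- Alperin's lemma: a maximal normal elementary abelian subgroup contains every element of order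
`p` centralizing it (`p` odd). -/
theorem omega_centralizer_le {p : ℕ} [hp : Fact p.Prime] (hp2 : p ≠ 2) (hP : IsPGroup p P)
    {E : Subgroup P} [hEn : E.Normal] (hE : Cfsg.IsElementaryAbelian p E)
    (hmaxE : ∀ N : Subgroup P, N.Normal → Cfsg.IsElementaryAbelian p N → E ≤ N → N ≤ E)
    {x : P} (hxT : x ∈ centralizer (E : Set P)) (hxp : x ^ p = 1) : x ∈ E := by
  obtain ⟨A, ⟨hAn, hAc, hEA⟩, hmax⟩ :=
    (Set.toFinite {A : Subgroup P | A.Normal ∧ IsMulCommutative A ∧ E ≤ A}).exists_maximal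
      ⟨E, hEn, hE.1, le_rfl⟩
  haveI := hAn
  have hAcc : ∀ a ∈ A, ∀ b ∈ A, a * b = b * a := fun a ha b hb =>
    mem_centralizer_iff.1 (le_centralizer_iff_isMulCommutative.2 hAc hb) a ha
  have hAC : centralizer (A : Set P) = A :=
    CfsgLib.PGroup.centralizer_eq_of_maximal_normal_abelian hP A hAc
      fun B hB hBc hAB => le_antisymm (hmax ⟨hB, hBc, hEA.trans hAB⟩ hAB) hAB
  set T := centralizer (E : Set P) with hT
  have hET : E ≤ T := le_centralizer_iff_isMulCommutative.2 hE.1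
  have hAT : A ≤ T := hAC.ge.trans (centralizer_le hEA)
  have hΩ : ∀ a ∈ A, a ^ p = 1 → a ∈ E := by
    let K : Subgroup P :=
      { carrier := {x | x ∈ A ∧ x ^ p = 1}
        one_mem' := ⟨one_mem A, one_pow p⟩
        mul_mem' := fun {a b} ha hb => ⟨mul_mem ha.1 hb.1, by
          rw [(show Commute a b from hAcc a ha.1 b hb.1).mul_pow, ha.2, hb.2, one_mul]⟩
        inv_mem' := fun {a} ha => ⟨inv_mem ha.1, by rw [inv_pow, ha.2, inv_one]⟩ }
    have hKn : K.Normal := ⟨fun x hx g => ⟨hAn.conj_mem x hx.1 g, by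
      rw [← MulAut.conj_apply, ← map_pow, hx.2, map_one]⟩⟩
    intro a ha hap
    exact hmaxE K hKn ⟨⟨⟨fun a b => Subtype.ext (hAcc a a.2.1 b b.2.1)⟩⟩, fun y hy => hy.2⟩
      (fun e he => ⟨hEA he, hE.2 e he⟩) (show a ∈ K from ⟨ha, hap⟩)
  have hclosed : ∀ x ∈ T, x ^ p = 1 → ∀ y ∈ T, y ^ p = 1 → (x * y) ^ p = 1 := by
    intro x hxT hxp y hyT hyp
    have hnorm : ∀ g : P, g ∈ normalizer (A : Set P) := fun g => by
      rw [normalizer_eq_top A]; exact mem_top g
    have hfix : ∀ g ∈ T, ∀ a ∈ A, a ^ p = 1 → g * a = a * g := fun g hg a ha hap =>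
      (mem_centralizer_iff.1 hg a (hΩ a ha hap)).symm
    have hδ : ∀ g ∈ T, g ^ p = 1 → ∀ a ∈ A, g * a * g⁻¹ * a⁻¹ ∈ E := fun g hg hgp a ha =>
      hΩ _ (mul_mem (hAn.conj_mem a ha g) (inv_mem ha))
        (pow_commutator_eq_one hp2 (hP.to_subgroup A) hAcc (hnorm g) hgp (hfix g hg) a ha)
    have hEcomm : ∀ e ∈ E, ∀ g ∈ T, e * g = g * e := fun e he g hg =>
      mem_centralizer_iff.1 hg e he
    set c := y * x * y⁻¹ * x⁻¹ with hc
    have hcA : c ∈ A := by
      rw [← hAC]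
      intro a ha
      have key : c * a * c⁻¹ = a := by
        set w := y⁻¹ * (x⁻¹ * a * x) * y with hw
        have hwA : w ∈ A := by
          have := hAn.conj_mem _ (hAn.conj_mem a ha x⁻¹) y⁻¹
          simpa [hw, mul_assoc] using this
        have h3 : x * (y * w * y⁻¹) * x⁻¹ = a := by rw [hw]; group
        have h4 : c * a * c⁻¹ = y * (x * w * x⁻¹) * y⁻¹ := by rw [hc, hw]; group
        have hcomm' : y * (x * w * x⁻¹) * y⁻¹ = x * (y * w * y⁻¹) * x⁻¹ := by
          obtain ⟨u, hu, h1⟩ : ∃ u ∈ E, x * w * x⁻¹ = u * w :=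
            ⟨_, hδ x hxT hxp w hwA, by group⟩
          obtain ⟨v, hv, h2⟩ : ∃ v ∈ E, y * w * y⁻¹ = v * w :=
            ⟨_, hδ y hyT hyp w hwA, by group⟩
          calc y * (x * w * x⁻¹) * y⁻¹ = (y * u * y⁻¹) * (y * w * y⁻¹) := by rw [h1]; group
            _ = u * (v * w) := by rw [h2, ← hEcomm u hu y hyT, mul_inv_cancel_right]
            _ = v * (u * w) := by
              rw [← mul_assoc u v w, hAcc u (hEA hu) v (hEA hv), mul_assoc]
            _ = (x * v * x⁻¹) * (x * w * x⁻¹) := by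
              rw [h1, ← hEcomm v hv x hxT, mul_inv_cancel_right]
            _ = x * (y * w * y⁻¹) * x⁻¹ := by rw [h2]; group
        rw [h4, hcomm', h3]
      exact (mul_inv_eq_iff_eq_mul.1 key).symm
    have he := hδ x hxT hxp c hcA
    have hcx : (c * x) ^ p = 1 := by
      have : c * x = MulAut.conj y x := by rw [hc, MulAut.conj_apply]; group
      rw [this, ← map_pow, hxp, map_one]
    have hcp : c ^ p = 1 :=
      pow_eq_one_of_mul hp2 (u := c) (y := x) (e := x * c * x⁻¹ * c⁻¹) (by group)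
        (hEcomm _ he c (hAT hcA)) (hEcomm _ he x hxT) (hE.2 _ he) hxp hcx
    have hcE : c ∈ E := hΩ c hcA hcp
    have hxy : y * x = c * (x * y) := by rw [hc]; group
    have hk := mul_pow_of_central_commutator hxy (hEcomm c hcE x hxT) (hEcomm c hcE y hyT) p
    obtain ⟨m, hm⟩ : p ∣ p.choose 2 :=
      hp.out.dvd_choose_self two_ne_zero (lt_of_le_of_ne hp.out.two_le hp2.symm)
    rw [hk, hxp, hyp, mul_one, hm, pow_mul, hE.2 c hcE, one_pow, mul_one]
  let K : Subgroup P :=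
    { carrier := {x | x ∈ T ∧ x ^ p = 1}
      one_mem' := ⟨one_mem T, one_pow p⟩
      mul_mem' := fun {a b} ha hb => ⟨mul_mem ha.1 hb.1, hclosed a ha.1 ha.2 b hb.1 hb.2⟩
      inv_mem' := fun {a} ha => ⟨inv_mem ha.1, by rw [inv_pow, ha.2, inv_one]⟩ }
  haveI hKn : K.Normal := ⟨fun x hx g => ⟨(inferInstance : T.Normal).conj_mem x hx.1 g, by
    rw [← MulAut.conj_apply, ← map_pow, hx.2, map_one]⟩⟩
  by_contra hxE
  have hEK : E < K := lt_of_le_of_ne (fun e he => ⟨hET he, hE.2 e he⟩)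
    fun h => hxE (h.ge (show x ∈ K from ⟨hxT, hxp⟩))
  obtain ⟨y, hyK, hyE, hyp, hyc⟩ := CfsgLib.PGroup.exists_step hP E K hEK
  refine hyE (hmaxE (E ⊔ zpowers y) (CfsgLib.PGroup.sup_zpowers_normal hyc) ⟨?_, fun z hz =>
    (sup_le hEK.le (zpowers_le.2 hyK) hz).2⟩ le_sup_left (mem_sup_right (mem_zpowers y)))
  rw [← le_centralizer_iff_isMulCommutative]
  have hyT : ∀ e ∈ E, e * y = y * e := fun e he => mem_centralizer_iff.1 hyK.1 e he
  refine sup_le (le_centralizer_iff.1 (sup_le hET (zpowers_le.2 hyK.1))) (zpowers_le.2 ?_)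
  intro z hz
  have hle : E ⊔ zpowers y ≤ centralizer ({y} : Set P) :=
    sup_le (fun e he => mem_centralizer_singleton_iff.2 (hyT e he))
      (zpowers_le.2 (mem_centralizer_singleton_iff.2 rfl))
  exact mem_centralizer_singleton_iff.1 (hle hz)

theorem conjPair_eq {H : Subgroup P} {a0 r s : P} (h0 : ∀ h ∈ H, r * h * r⁻¹ = s * h * s⁻¹)
    (h1 : r * a0 * r⁻¹ = s * a0 * s⁻¹) {a : P} (ha : a ∈ H ⊔ zpowers a0) :
    a * (r⁻¹ * s) = r⁻¹ * s * a := by
  have key : ∀ h : P, r * h * r⁻¹ = s * h * s⁻¹ → h ∈ centralizer ({r⁻¹ * s} : Set P) := by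
    intro h hh
    rw [mem_centralizer_singleton_iff]
    calc h * (r⁻¹ * s) = r⁻¹ * (r * h * r⁻¹) * s := by group
      _ = r⁻¹ * (s * h * s⁻¹) * s := by rw [hh]
      _ = r⁻¹ * s * h := by group
  exact mem_centralizer_singleton_iff.1
    (sup_le (fun h hh => key h (h0 h hh)) (zpowers_le.2 (key a0 h1)) ha)

/-- A subgroup fixing a subgroup of order `9` of a normal `E_{27}` induces at most `9` automorphisms. -/
theorem card_le_nine_mul (hP : IsPGroup 3 P) {A : Subgroup P} [A.Normal]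
    (hA : Cfsg.IsElementaryAbelian 3 A) (hA27 : Nat.card A = 27) {H R : Subgroup P} (hHA : H ≤ A)
    (hH : Nat.card H = 9) (hR : R ≤ centralizer (H : Set P)) :
    Nat.card R ≤ 9 * Nat.card ↥(R ⊓ centralizer (A : Set P)) := by
  haveI : Fact (Nat.Prime 3) := ⟨Nat.prime_three⟩
  obtain ⟨a0, ha0, ha0H⟩ : ∃ a ∈ A, a ∉ H := by
    by_contra h
    push Not at h
    have := card_le_of_le (show A ≤ H from h)
    omega
  have hgen : A ≤ H ⊔ zpowers a0 := by
    refine (eq_of_le_of_card_ge (sup_le hHA (zpowers_le.2 ha0)) ?_).ge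
    have h1 : Nat.card H < Nat.card ↥(H ⊔ zpowers a0) :=
      lt_of_le_of_ne (card_le_of_le le_sup_left) fun e =>
        ha0H ((eq_of_le_of_card_ge le_sup_left e.ge).ge (mem_sup_right (mem_zpowers a0)))
    obtain ⟨i, hi⟩ := (hP.to_subgroup (H ⊔ zpowers a0)).exists_card_eq
    rw [hH, hi] at h1
    rw [hA27, hi]
    have : 2 < i := (Nat.pow_lt_pow_iff_right (by norm_num)).1 (show 3 ^ 2 < 3 ^ i from h1)
    exact le_trans (by norm_num) (Nat.pow_le_pow_right (by norm_num) this)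
  set K := (R ⊓ centralizer (A : Set P)).subgroupOf R with hK
  let φ : ↥R ⧸ K → {a : ↥A // (a : P) ∉ H} :=
    Quotient.lift (fun r => ⟨⟨(r : P) * a0 * (r : P)⁻¹,
        (inferInstance : A.Normal).conj_mem a0 ha0 _⟩, fun hmem => by
        have h1 : ((r : P) * a0 * (r : P)⁻¹) * r = r * ((r : P) * a0 * (r : P)⁻¹) :=
          mem_centralizer_iff.1 (hR r.2) _ hmem
        rw [inv_mul_cancel_right, mul_right_inj] at h1
        exact ha0H (h1.symm ▸ hmem)⟩)
      (fun r s h => by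
        have h1 : (r : P)⁻¹ * s ∈ centralizer (A : Set P) := (QuotientGroup.leftRel_apply.1 h).2
        have h2 := mem_centralizer_iff.1 h1 a0 ha0
        refine Subtype.ext (Subtype.ext ?_)
        show (r : P) * a0 * (r : P)⁻¹ = s * a0 * (s : P)⁻¹
        calc (r : P) * a0 * (r : P)⁻¹ = r * (a0 * ((r : P)⁻¹ * s)) * (s : P)⁻¹ := by group
          _ = r * ((r : P)⁻¹ * s * a0) * (s : P)⁻¹ := by rw [h2]
          _ = s * a0 * (s : P)⁻¹ := by group)
  have hφ : Function.Injective φ := by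
    intro a b h
    induction a using QuotientGroup.induction_on with
    | _ r =>
      induction b using QuotientGroup.induction_on with
      | _ s =>
        apply QuotientGroup.eq.2
        have h' : (r : P) * a0 * (r : P)⁻¹ = s * a0 * (s : P)⁻¹ :=
          congrArg (fun w : {a : ↥A // (a : P) ∉ H} => ((w : ↥A) : P)) h
        refine mem_subgroupOf.2 (mem_inf.2 ⟨mul_mem (inv_mem r.2) s.2, mem_centralizer_iff.2 ?_⟩)
        intro a ha
        refine conjPair_eq (fun h hh => ?_) h' (hgen ha)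
        rw [← mem_centralizer_iff.1 (hR r.2) h hh, mul_inv_cancel_right,
          ← mem_centralizer_iff.1 (hR s.2) h hh, mul_inv_cancel_right]
  have hlt : K.index < 27 := by
    rw [← hA27]
    exact lt_of_le_of_lt (Nat.card_le_card_of_injective φ hφ)
      (Finite.card_subtype_lt (x := (1 : ↥A)) (fun h => h (one_mem H)))
  obtain ⟨i, hi⟩ := (hP.to_subgroup R).index K
  have hle : K.index ≤ 9 := by
    rw [hi] at hlt ⊢
    have : i < 3 := (Nat.pow_lt_pow_iff_right (by norm_num)).1 (show 3 ^ i < 3 ^ 3 by simpa using hlt)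
    exact le_trans (Nat.pow_le_pow_right (by norm_num) (show i ≤ 2 by omega)) (by norm_num)
  calc Nat.card R = Nat.card K * K.index := (card_mul_index K).symm
    _ ≤ Nat.card ↥(R ⊓ centralizer (A : Set P)) * 9 := by
      rw [hK, Nat.card_congr (subgroupOfEquivOfLe (inf_le_left : R ⊓ centralizer (A : Set P) ≤ R)).toEquiv]
      exact Nat.mul_le_mul_left _ hle
    _ = 9 * Nat.card ↥(R ⊓ centralizer (A : Set P)) := mul_comm _ _

theorem card_le_three_mul_inf (hP : IsPGroup 3 P) {H : Subgroup P} [H.Normal]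
    (hH : Cfsg.IsElementaryAbelian 3 H) (hH9 : Nat.card H = 9) (R : Subgroup P) :
    Nat.card R ≤ 3 * Nat.card ↥(R ⊓ centralizer (H : Set P)) := by
  haveI : Fact (Nat.Prime 3) := ⟨Nat.prime_three⟩
  have h := relIndex_mul_relIndex ⊥ (R ⊓ centralizer (H : Set P)) R bot_le inf_le_left
  rw [relIndex_bot_left, relIndex_bot_left, inf_relIndex_left] at h
  rw [← h, mul_comm]
  refine Nat.mul_le_mul_right _ ?_
  refine le_trans ?_ (CfsgLib.OddOrder.centralizer_index_le hP hH (by rw [hH9]; norm_num))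
  rw [← relIndex_top_right]
  exact relIndex_le_of_le_right le_top (by rw [relIndex_top_right]; exact index_ne_zero_of_finite)

/-- An abelian subgroup induces at most `9` automorphisms on a normal `E_{27}`. -/
theorem card_abelian_le (hP : IsPGroup 3 P) {A : Subgroup P} [A.Normal]
    (hA : Cfsg.IsElementaryAbelian 3 A) (hA27 : Nat.card A = 27) {B : Subgroup P}
    (hB : ∀ a ∈ B, ∀ b ∈ B, a * b = b * a) :
    Nat.card B ≤ 9 * Nat.card ↥(B ⊓ centralizer (A : Set P)) := by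
  haveI : Fact (Nat.Prime 3) := ⟨Nat.prime_three⟩
  obtain ⟨H, hHn, hHA, hH9⟩ := CfsgLib.PGroup.exists_normal_card_le hP 2 3 A
    (by rw [hA27]; norm_num) (by norm_num)
  haveI := hHn
  have hH : Cfsg.IsElementaryAbelian 3 H :=
    ⟨⟨⟨fun a b => Subtype.ext (commute_of hA (hHA a.2) (hHA b.2))⟩⟩, fun a ha => hA.2 a (hHA ha)⟩
  have hH9' : Nat.card H = 9 := by rw [hH9]; norm_num
  by_cases hBH : B ≤ centralizer (H : Set P)
  · exact card_le_nine_mul hP hA hA27 hHA hH9' hBH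
  obtain ⟨g, hgB, hgH⟩ := SetLike.not_le_iff_exists.1 hBH
  have hlt : H < A := lt_of_le_of_ne hHA fun e => by rw [e] at hH9'; omega
  obtain ⟨a0, ha0, ha0H, -, hc⟩ := CfsgLib.PGroup.exists_step hP H A hlt
  set L := B ⊓ centralizer (H : Set P) with hL
  have hgen : A ≤ H ⊔ zpowers a0 := by
    have h1 := CfsgLib.PGroup.card_sup_zpowers (p := 3) ha0H (by rw [hA.2 a0 ha0]; exact one_mem H)
    exact (eq_of_le_of_card_ge (sup_le hHA (zpowers_le.2 ha0)) (by rw [h1, hH9', hA27])).ge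
  -- `k ↦ [a0, k]` lands in the points of `H` fixed by `g`
  have hmem : ∀ k ∈ L, ⁅a0, k⁆ ∈ H ⊓ centralizer ({g} : Set P) := by
    intro k hk
    refine mem_inf.2 ⟨hc k, ?_⟩
    rw [mem_centralizer_singleton_iff]
    have hkg : k * g = g * k := hB k hk.1 g hgB
    have hu : ⁅a0, g⁆ ∈ H := hc g
    have hv : ⁅a0, k⁆ ∈ H := hc k
    have hk1 : k * ⁅a0, g⁆ * k⁻¹ = ⁅a0, g⁆ := by
      rw [← mem_centralizer_iff.1 hk.2 _ hu, mul_inv_cancel_right]
    -- `g a0 g⁻¹ = [a0,g]⁻¹ a0`, likewise for `k`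
    have e1 : g * a0 * g⁻¹ = ⁅a0, g⁆⁻¹ * a0 := by rw [commutatorElement_def]; group
    have e2 : k * a0 * k⁻¹ = ⁅a0, k⁆⁻¹ * a0 := by rw [commutatorElement_def]; group
    have e3 : g * ⁅a0, k⁆⁻¹ * g⁻¹ * (g * a0 * g⁻¹) =
        k * ⁅a0, g⁆⁻¹ * k⁻¹ * (k * a0 * k⁻¹) := by
      calc g * ⁅a0, k⁆⁻¹ * g⁻¹ * (g * a0 * g⁻¹) = g * (⁅a0, k⁆⁻¹ * a0) * g⁻¹ := by group
        _ = (g * k) * a0 * (g * k)⁻¹ := by rw [← e2]; group
        _ = (k * g) * a0 * (k * g)⁻¹ := by rw [hkg]
        _ = k * (g * a0 * g⁻¹) * k⁻¹ := by group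
        _ = k * ⁅a0, g⁆⁻¹ * k⁻¹ * (k * a0 * k⁻¹) := by rw [e1]; group
    rw [show k * ⁅a0, g⁆⁻¹ * k⁻¹ = ⁅a0, g⁆⁻¹ by
      rw [show k * ⁅a0, g⁆⁻¹ * k⁻¹ = (k * ⁅a0, g⁆ * k⁻¹)⁻¹ by group, hk1], e1, e2,
      ← mul_assoc, ← mul_assoc, mul_left_inj,
      commute_of hH (inv_mem hu) (inv_mem hv), mul_left_inj] at e3
    have e4 : g * ⁅a0, k⁆ * g⁻¹ = ⁅a0, k⁆ := by
      rw [show g * ⁅a0, k⁆ * g⁻¹ = (g * ⁅a0, k⁆⁻¹ * g⁻¹)⁻¹ by group, e3, inv_inv]
    exact (mul_inv_eq_iff_eq_mul.1 e4).symm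
  set K := (L ⊓ centralizer (A : Set P)).subgroupOf L with hK
  let φ : ↥L ⧸ K → ↥(H ⊓ centralizer ({g} : Set P)) :=
    Quotient.lift (fun k => ⟨⁅a0, (k : P)⁆, hmem k k.2⟩)
      (fun r s h => by
        have h1 : (r : P)⁻¹ * s ∈ centralizer (A : Set P) := (QuotientGroup.leftRel_apply.1 h).2
        have h2 := mem_centralizer_iff.1 h1 a0⁻¹ (inv_mem ha0)
        refine Subtype.ext ?_
        show ⁅a0, (r : P)⁆ = ⁅a0, (s : P)⁆
        calc ⁅a0, (r : P)⁆ = a0 * r * (a0⁻¹ * ((r : P)⁻¹ * s)) * (s : P)⁻¹ := by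
              rw [commutatorElement_def]; group
          _ = a0 * r * ((r : P)⁻¹ * s * a0⁻¹) * (s : P)⁻¹ := by rw [h2]
          _ = ⁅a0, (s : P)⁆ := by rw [commutatorElement_def]; group)
  have hφ : Function.Injective φ := by
    intro a b h
    induction a using QuotientGroup.induction_on with
    | _ r =>
      induction b using QuotientGroup.induction_on with
      | _ s =>
        apply QuotientGroup.eq.2
        have h' : ⁅a0, (r : P)⁆ = ⁅a0, (s : P)⁆ :=
          congrArg (fun w : ↥(H ⊓ centralizer ({g} : Set P)) => (w : P)) h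
        have h'' : (r : P) * a0 * (r : P)⁻¹ = s * a0 * (s : P)⁻¹ := by
          calc (r : P) * a0 * (r : P)⁻¹ = ⁅a0, (r : P)⁆⁻¹ * a0 := by rw [commutatorElement_def]; group
            _ = ⁅a0, (s : P)⁆⁻¹ * a0 := by rw [h']
            _ = s * a0 * (s : P)⁻¹ := by rw [commutatorElement_def]; group
        refine mem_subgroupOf.2 (mem_inf.2 ⟨mul_mem (inv_mem r.2) s.2, mem_centralizer_iff.2 ?_⟩)
        intro a ha
        refine conjPair_eq (fun x hx => ?_) h'' (hgen ha)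
        rw [← mem_centralizer_iff.1 r.2.2 x hx, mul_inv_cancel_right,
          ← mem_centralizer_iff.1 s.2.2 x hx, mul_inv_cancel_right]
  have h3 : Nat.card ↥(H ⊓ centralizer ({g} : Set P)) ≤ 3 := by
    have hdvd : Nat.card ↥(H ⊓ centralizer ({g} : Set P)) ∣ 3 ^ 2 :=
      (card_dvd_of_le inf_le_left).trans (hH9'.trans (by norm_num)).dvd
    obtain ⟨i, hib, hi⟩ := (Nat.dvd_prime_pow Nat.prime_three).1 hdvd
    have hi2 : i ≠ 2 := fun e => by
      subst e
      have := eq_of_le_of_card_ge (inf_le_left : H ⊓ centralizer ({g} : Set P) ≤ H) (by rw [hi, hH9']; norm_num)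
      exact hgH (mem_centralizer_iff.2 fun x hx =>
        mem_centralizer_singleton_iff.1 (this.ge hx).2)
    rw [hi]
    calc (3 : ℕ) ^ i ≤ 3 ^ 1 := Nat.pow_le_pow_right (by norm_num) (by omega)
      _ = 3 := pow_one 3
  have hidx : K.index ≤ 3 := (Nat.card_le_card_of_injective φ hφ).trans h3
  have hLK : Nat.card L ≤ 3 * Nat.card ↥(B ⊓ centralizer (A : Set P)) := by
    calc Nat.card L = Nat.card K * K.index := (card_mul_index K).symm
      _ ≤ Nat.card ↥(L ⊓ centralizer (A : Set P)) * 3 := by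
        rw [hK, Nat.card_congr (subgroupOfEquivOfLe (inf_le_left : L ⊓ centralizer (A : Set P) ≤ L)).toEquiv]
        exact Nat.mul_le_mul_left _ hidx
      _ ≤ Nat.card ↥(B ⊓ centralizer (A : Set P)) * 3 :=
        Nat.mul_le_mul_right _ (card_le_of_le (inf_le_inf_right _ inf_le_left))
      _ = _ := mul_comm _ _
  have hBL := card_le_three_mul_inf hP hH hH9' B
  rw [← hL] at hBL
  omega

/-- A 3-group of 3-rank at least four has a normal elementary abelian subgroup of order at least `81`. -/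
theorem exists_normal_elementary_four (hP : IsPGroup 3 P) (hr : ¬ Cfsg.PRankLE 3 3 P) :
    ∃ D : Subgroup P, D.Normal ∧ Cfsg.IsElementaryAbelian 3 D ∧ 81 ≤ Nat.card D := by
  haveI : Fact (Nat.Prime 3) := ⟨Nat.prime_three⟩
  have hr2 : ¬ Cfsg.PRankLE 3 2 P := fun h => hr fun B hc hB => (h B hc hB).trans (by norm_num)
  obtain ⟨E, hEn, hE, hE2⟩ := exists_normal_elementary_two (by norm_num) hP hr2
  haveI := hEn
  obtain ⟨A0, hA0n, -, hA0, hA0c⟩ := exists_normal_elementary_three (by norm_num) hP hr2 hE hE2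
  obtain ⟨A, ⟨hAn, hA, hA0A⟩, hmax⟩ :=
    (Set.toFinite {A : Subgroup P | A.Normal ∧ Cfsg.IsElementaryAbelian 3 A ∧ A0 ≤ A}).exists_maximal
      ⟨A0, hA0n, hA0, le_rfl⟩
  haveI := hAn
  obtain ⟨i, hi⟩ := (hP.to_subgroup A).exists_card_eq
  have hi3 : 3 ≤ i := by
    have := card_le_of_le hA0A
    rw [hA0c, hi] at this
    exact (Nat.pow_le_pow_iff_right (by norm_num)).1 this
  rcases eq_or_lt_of_le hi3 with heq | hlt
  swap
  · exact ⟨A, hAn, hA, by rw [hi]; exact le_trans (by norm_num) (Nat.pow_le_pow_right (by norm_num) hlt)⟩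
  subst heq
  have hA27 : Nat.card A = 27 := by rw [hi]; norm_num
  have hΩ : ∀ x ∈ centralizer (A : Set P), x ^ 3 = 1 → x ∈ A := fun x hx hx3 =>
    omega_centralizer_le (by norm_num) hP hA
      (fun N hN hNe hAN => hmax ⟨hN, hNe, hA0A.trans hAN⟩ hAN) hx hx3
  obtain ⟨B0, hB0c, hB0p, hB0⟩ : ∃ B : Subgroup P, IsMulCommutative B ∧ (∀ b ∈ B, b ^ 3 = 1) ∧
      3 ^ 3 < Nat.card B := by
    simp only [Cfsg.PRankLE, not_forall, not_le] at hr
    obtain ⟨B, h1, h2, h3⟩ := hr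
    exact ⟨B, h1, h2, h3⟩
  obtain ⟨j, hj⟩ := (hP.to_subgroup B0).exists_card_eq
  have hj4 : 4 ≤ j := by
    rw [hj] at hB0
    exact (Nat.pow_lt_pow_iff_right (by norm_num)).1 hB0
  obtain ⟨B1, hB1⟩ := Sylow.exists_subgroup_card_pow_prime 3 (n := 4) (G := ↥B0)
    (hj ▸ pow_dvd_pow 3 hj4)
  set B := B1.map B0.subtype with hBdef
  have hB81 : Nat.card B = 81 := by
    rw [hBdef, card_map_of_injective B0.subtype_injective, hB1]; norm_num
  have hBle : B ≤ B0 := map_subtype_le B1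
  have hBe : Cfsg.IsElementaryAbelian 3 B :=
    ⟨⟨⟨fun a b => Subtype.ext (commute_of ⟨hB0c, hB0p⟩ (hBle a.2) (hBle b.2))⟩⟩,
      fun b hb => hB0p b (hBle hb)⟩
  by_cases hBn : B.Normal
  · exact ⟨B, hBn, hBe, hB81.ge⟩
  exfalso
  set N := normalizer (B : Set P) with hN
  have hNlt : N < ⊤ := lt_top_iff_ne_top.2 fun h => hBn (normalizer_eq_top_iff.1 h)
  haveI := hP.isNilpotent
  obtain ⟨y, hy, hyN⟩ := SetLike.exists_of_lt (Group.normalizerCondition_of_isNilpotent N hNlt)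
  set B' := B.map (MulAut.conj y).toMonoidHom with hB'def
  have hB'N : B' ≤ N := by
    rintro _ ⟨b, hb, rfl⟩
    exact (mem_normalizer_iff.1 hy b).1 (le_normalizer hb)
  have hNB' : N ≤ normalizer (B' : Set P) := by
    intro m hm
    refine mem_normalizer_fintype fun x hx => ?_
    obtain ⟨b, hb, rfl⟩ := hx
    have hm' : y⁻¹ * m * y ∈ N := by
      have := (mem_normalizer_iff.1 (inv_mem hy) m).1 hm
      rwa [inv_inv] at this
    exact ⟨(y⁻¹ * m * y) * b * (y⁻¹ * m * y)⁻¹, (mem_normalizer_iff.1 hm' b).1 hb, by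
      simp only [MulEquiv.coe_toMonoidHom, MulAut.conj_apply]; group⟩
  have hBB' : B ≤ normalizer (B' : Set P) := le_normalizer.trans hNB'
  have hne : B' ≠ B := fun e => hyN (mem_normalizer_fintype fun b hb => e.le ⟨b, hb, rfl⟩)
  have hB'e := conj_isEA hBe y
  have hB'81 : Nat.card B' = 81 := by
    rw [hB'def, card_map_of_injective (MulAut.conj y).injective, hB81]
  set R := B ⊔ B' with hR
  set Z := B ⊓ B' with hZ
  have hexp : ∀ r ∈ R, r ^ 3 = 1 := by
    intro r hr'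
    obtain ⟨b', hb', b, hb, rfl⟩ :=
      (CfsgLib.Solvable.mem_sup_of_le_normalizer hBB').1 (show r ∈ B' ⊔ B by rw [sup_comm]; exact hr')
    set c := b * b' * b⁻¹ * b'⁻¹ with hc
    have hcB : c ∈ B := by
      rw [hc, show b * b' * b⁻¹ * b'⁻¹ = b * (b' * b⁻¹ * b'⁻¹) by group]
      exact mul_mem hb ((mem_normalizer_iff.1 (hB'N hb') b⁻¹).1 (inv_mem hb))
    have hcB' : c ∈ B' := mul_mem ((mem_normalizer_iff.1 (hBB' hb) b').1 hb') (inv_mem hb')
    have hk := mul_pow_of_central_commutator (show b * b' = c * (b' * b) by rw [hc]; group)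
      (commute_of hB'e hcB' hb') (commute_of hBe hcB hb) 3
    rw [hk, hBe.2 b hb, hB'e.2 b' hb', mul_one, show Nat.choose 3 2 = 3 from rfl, hBe.2 c hcB, one_mul]
  have hRA : R ⊓ centralizer (A : Set P) ≤ R ⊓ A := fun r hr' => ⟨hr'.1, hΩ r hr'.2 (hexp r hr'.1)⟩
  have hBA : ∀ C : Subgroup P, Cfsg.IsElementaryAbelian 3 C → Nat.card C = 81 →
      9 ≤ Nat.card ↥(C ⊓ A) := by
    intro C hC hC81
    have h1 := card_abelian_le hP hA hA27 (B := C) fun a ha b hb => commute_of hC ha hb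
    have h2 : Nat.card ↥(C ⊓ centralizer (A : Set P)) ≤ Nat.card ↥(C ⊓ A) :=
      card_le_of_le fun x hx => ⟨hx.1, hΩ x hx.2 (hC.2 x hx.1)⟩
    omega
  have hcardR : Nat.card R * Nat.card Z = 81 * 81 := by
    have h1 := relIndex_mul_relIndex ⊥ B' R bot_le le_sup_right
    rw [relIndex_bot_left, relIndex_bot_left] at h1
    have h2 := relIndex_mul_relIndex ⊥ Z B bot_le inf_le_left
    rw [relIndex_bot_left, relIndex_bot_left, hZ, inf_relIndex_left] at h2
    have h3 : B'.relIndex R = B'.relIndex B := by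
      haveI : (B'.subgroupOf R).Normal :=
        (normal_subgroupOf_iff_le_normalizer le_sup_right).2 (sup_le hBB' le_normalizer)
      rw [hR, ← relIndex_subgroupOf (le_sup_left : B ≤ B ⊔ B')]
      show (B'.subgroupOf (B ⊔ B')).index = _
      rw [← relIndex_top_right, ← subgroupOf_self (B ⊔ B'),
        subgroupOf_sup le_sup_left le_sup_right, relIndex_sup_right]
    rw [h3, hB'81] at h1
    rw [← hZ] at h2
    rw [← h1, mul_assoc, mul_comm (B'.relIndex B), h2, hB81]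
  have hRgt : 81 < Nat.card R := by
    rw [← hB81]
    refine lt_of_le_of_ne (card_le_of_le le_sup_left) fun e => hne ?_
    exact eq_of_le_of_card_ge ((le_sup_right : B' ≤ R).trans
      (eq_of_le_of_card_ge (le_sup_left : B ≤ R) e.ge).ge) (by rw [hB81, hB'81])
  have hRC : ∀ x ∈ Z, x ∈ centralizer (R : Set P) := by
    intro x hx
    have hle : R ≤ centralizer ({x} : Set P) := sup_le
      (fun b hb => mem_centralizer_singleton_iff.2 (commute_of hBe hb hx.1))
      (fun b hb => mem_centralizer_singleton_iff.2 (commute_of hB'e hb hx.2))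
    exact mem_centralizer_iff.2 fun r hr' => mem_centralizer_singleton_iff.1 (hle hr')
  by_cases hAR : A ≤ R
  · have hZA : Z ≤ A := fun x hx =>
      hΩ x (centralizer_le hAR (hRC x hx)) (hBe.2 x hx.1)
    obtain ⟨H0, hH0n, hH0A, hH09⟩ := CfsgLib.PGroup.exists_normal_card_le hP 2 3 A
      (by rw [hA27]; norm_num) (by norm_num)
    haveI := hH0n
    have hH0 : Cfsg.IsElementaryAbelian 3 H0 :=
      ⟨⟨⟨fun a b => Subtype.ext (commute_of hA (hH0A a.2) (hH0A b.2))⟩⟩,
        fun a ha => hA.2 a (hH0A ha)⟩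
    have h729 : Nat.card R ≤ 729 := by
      have h1 := card_le_three_mul_inf hP hH0 (by rw [hH09]; norm_num) R
      have h2 := card_le_nine_mul hP hA hA27 hH0A (by rw [hH09]; norm_num)
        (R := R ⊓ centralizer (H0 : Set P)) inf_le_right
      have h3 : Nat.card ↥(R ⊓ centralizer (H0 : Set P) ⊓ centralizer (A : Set P)) ≤ 27 := by
        rw [← hA27]
        exact card_le_of_le fun r hr' => (hRA ⟨hr'.1.1, hr'.2⟩).2
      omega
    have hZ9 : 9 ≤ Nat.card Z := by nlinarith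
    obtain ⟨k, hk⟩ := (hP.to_subgroup Z).exists_card_eq
    have hk2 : 2 ≤ k := by
      by_contra h
      have := Nat.pow_le_pow_right (show 0 < 3 by norm_num) (show k ≤ 1 by omega)
      omega
    obtain ⟨H1, hH1⟩ := Sylow.exists_subgroup_card_pow_prime 3 (n := 2) (G := ↥Z)
      (hk ▸ pow_dvd_pow 3 hk2)
    have hH1Z : H1.map Z.subtype ≤ Z := map_subtype_le H1
    have h2 := card_le_nine_mul hP hA hA27 (H := H1.map Z.subtype) (R := R) (hH1Z.trans hZA)
      (by rw [card_map_of_injective Z.subtype_injective, hH1]; norm_num)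
      (fun r hr' => mem_centralizer_iff.2 fun h hh =>
        (mem_centralizer_iff.1 (hRC h (hH1Z hh)) r hr').symm)
    have h3 : Nat.card ↥(R ⊓ centralizer (A : Set P)) ≤ 27 := by
      rw [← hA27]
      exact card_le_of_le fun r hr' => (hRA hr').2
    have hZ27 : 27 ≤ Nat.card Z := by nlinarith
    have hZeq : Z = A := eq_of_le_of_card_ge hZA (by rw [hA27]; exact hZ27)
    have hBle' : B ≤ A := fun b hb => hΩ b (mem_centralizer_iff.2 fun a ha =>
      commute_of hBe (hZeq.ge ha).1 hb) (hBe.2 b hb)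
    have := card_le_of_le hBle'
    omega
  · have hRA9 : Nat.card ↥(R ⊓ A) ≤ 9 := by
      obtain ⟨k, hkb, hk⟩ := (Nat.dvd_prime_pow Nat.prime_three).1
        (show Nat.card ↥(R ⊓ A) ∣ 3 ^ 3 from hi ▸ card_dvd_of_le (inf_le_right : R ⊓ A ≤ A))
      have hk3 : k ≠ 3 := fun e => hAR (by
        have := eq_of_le_of_card_ge (inf_le_right : R ⊓ A ≤ A) (by rw [hk, e, hi])
        exact this.ge.trans inf_le_left)
      rw [hk]
      exact le_trans (Nat.pow_le_pow_right (by norm_num) (show k ≤ 2 by omega)) (by norm_num)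
    have heq1 : B ⊓ A = R ⊓ A :=
      eq_of_le_of_card_ge (inf_le_inf_right A le_sup_left) (hRA9.trans (hBA B hBe hB81))
    have heq2 : B' ⊓ A = R ⊓ A :=
      eq_of_le_of_card_ge (inf_le_inf_right A le_sup_right) (hRA9.trans (hBA B' hB'e hB'81))
    have hfix : R ≤ centralizer ((R ⊓ A : Subgroup P) : Set P) := sup_le
      (fun b hb => mem_centralizer_iff.2 fun h hh => commute_of hBe (heq1.ge hh).1 hb)
      (fun b hb => mem_centralizer_iff.2 fun h hh => commute_of hB'e (heq2.ge hh).1 hb)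
    have h9 : Nat.card ↥(R ⊓ A) = 9 := le_antisymm hRA9 (by
      rw [← heq1]; exact hBA B hBe hB81)
    have h2 := card_le_nine_mul hP hA hA27 (H := R ⊓ A) inf_le_right h9 hfix
    have h3 := card_le_of_le hRA
    omega

theorem third_diff {M : Type*} [CommGroup M] (d a b c : M)
    (hc : c = d) (h3 : ∀ e : M, e * e * e = 1) :
    c * b⁻¹ * (b * a⁻¹)⁻¹ * (b * a⁻¹ * (a * d⁻¹)⁻¹)⁻¹ = 1 := by
  have : c * b⁻¹ * (b * a⁻¹)⁻¹ * (b * a⁻¹ * (a * d⁻¹)⁻¹)⁻¹ =
      c * d⁻¹ * (a * a * a) * (b * b * b)⁻¹ := by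
    simp only [mul_inv_rev, inv_inv, mul_comm, mul_left_comm, mul_assoc]
  rw [this, hc, h3, h3, mul_inv_cancel, inv_one, one_mul, one_mul]

/-- An element of order dividing `3` fixes at least `9` elements of a normal `E_{81}`. -/
theorem nine_le_fixed (hP : IsPGroup 3 P) {D : Subgroup P} [D.Normal]
    (hD : Cfsg.IsElementaryAbelian 3 D) (hD81 : 81 ≤ Nat.card D) {x : P} (hx : x ^ 3 = 1) :
    9 ≤ Nat.card ↥(D ⊓ centralizer ({x} : Set P)) := by
  haveI : Fact (Nat.Prime 3) := ⟨Nat.prime_three⟩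
  have hc : ∀ a ∈ D, ∀ b ∈ D, Commute a b := fun a ha b hb => commute_of hD ha hb
  have hconj : ∀ d : P, d ∈ D → x * d * x⁻¹ ∈ D := fun d hd =>
    (inferInstance : D.Normal).conj_mem d hd x
  let f : ↥D →* ↥D :=
    { toFun := fun d => ⟨x * d * x⁻¹ * (d : P)⁻¹, mul_mem (hconj d d.2) (inv_mem d.2)⟩
      map_one' := Subtype.ext (by simp)
      map_mul' := fun a b => Subtype.ext (by
        show x * ((a : P) * b) * x⁻¹ * ((a : P) * b)⁻¹ =
          x * a * x⁻¹ * (a : P)⁻¹ * (x * b * x⁻¹ * (b : P)⁻¹)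
        have h1 := hc _ (inv_mem a.2) _ (mul_mem (hconj b b.2) (inv_mem b.2))
        calc x * ((a : P) * b) * x⁻¹ * ((a : P) * b)⁻¹
            = x * a * x⁻¹ * ((x * b * x⁻¹ * (b : P)⁻¹) * (a : P)⁻¹) := by group
          _ = x * a * x⁻¹ * ((a : P)⁻¹ * (x * b * x⁻¹ * (b : P)⁻¹)) := by rw [h1.eq]
          _ = _ := by group) }
  have hk : Nat.card f.ker = Nat.card ↥(D ⊓ centralizer ({x} : Set P)) := by
    have : f.ker = (D ⊓ centralizer ({x} : Set P)).subgroupOf D := by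
      ext d
      rw [MonoidHom.mem_ker, mem_subgroupOf, mem_inf, mem_centralizer_singleton_iff, Subtype.ext_iff]
      show x * (d : P) * x⁻¹ * (d : P)⁻¹ = 1 ↔ _
      rw [mul_inv_eq_one, mul_inv_eq_iff_eq_mul]
      exact ⟨fun h => ⟨d.2, h.symm⟩, fun h => h.2.symm⟩
    rw [this, Nat.card_congr (subgroupOfEquivOfLe inf_le_left).toEquiv]
  have hf3 : ∀ d : ↥D, f (f (f d)) = 1 := by
    intro d
    let g : ↥D →* ↥D :=
      { toFun := fun d => ⟨x * d * x⁻¹, hconj d d.2⟩
        map_one' := Subtype.ext (by simp)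
        map_mul' := fun a b => Subtype.ext (by
          show x * ((a : P) * b) * x⁻¹ = x * a * x⁻¹ * (x * b * x⁻¹)
          group) }
    have hfg : ∀ e : ↥D, f e = g e * e⁻¹ := fun e => rfl
    have hg3 : g (g (g d)) = d := Subtype.ext (by
      show x * (x * (x * (d : P) * x⁻¹) * x⁻¹) * x⁻¹ = d
      rw [show x * (x * (x * (d : P) * x⁻¹) * x⁻¹) * x⁻¹ = x * x * x * d * (x * x * x)⁻¹ by group,
        ← pow_three', hx]
      simp)
    have h3 : ∀ e : ↥D, e * e * e = 1 := fun e => Subtype.ext (by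
      show (e : P) * e * e = 1
      rw [← hD.2 e e.2, pow_three'])
    have hcomm : ∀ a b : ↥D, a * b = b * a := fun a b => Subtype.ext (commute_of hD a.2 b.2)
    simp only [hfg, map_mul, map_inv]
    letI : CommGroup ↥D := { (inferInstance : Group ↥D) with mul_comm := hcomm }
    exact third_diff _ _ _ _ hg3 h3
  set f2 := f.comp f with hf2
  have hbound : ∀ φ : ↥D →* ↥D, (∀ d, f (φ d) = 1) → Nat.card D ≤ Nat.card φ.ker * Nat.card f.ker := by
    intro φ hφ
    rw [← card_mul_index φ.ker]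
    refine Nat.mul_le_mul_left _ ?_
    rw [index_ker]
    exact card_le_of_le (by rintro _ ⟨d, rfl⟩; exact MonoidHom.mem_ker.2 (hφ d))
  have h1 : Nat.card D ≤ Nat.card f2.ker * Nat.card f.ker := hbound f2 hf3
  have h2 : Nat.card f2.ker ≤ Nat.card f.ker * Nat.card f.ker := by
    have hle : f.ker ≤ f2.ker := fun d hd => by
      show f (f d) = 1
      rw [MonoidHom.mem_ker.1 hd, map_one]
    have hfi : (f.domRestrict f2.ker).range ≤ f.ker := by
      rintro _ ⟨d, rfl⟩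
      exact MonoidHom.mem_ker.2 (MonoidHom.mem_ker.1 d.2)
    rw [← card_mul_index (f.domRestrict f2.ker).ker, index_ker]
    refine Nat.mul_le_mul ?_ (card_le_of_le hfi)
    rw [MonoidHom.ker_domRestrict, Nat.card_congr (subgroupOfEquivOfLe hle).toEquiv]
  rw [← hk]
  obtain ⟨k, hk'⟩ := ((hP.to_subgroup D).to_subgroup f.ker).exists_card_eq
  rw [hk'] at h1 h2 ⊢
  by_contra hlt
  push Not at hlt
  have : (3 : ℕ) ^ k ≤ 3 := by
    calc (3 : ℕ) ^ k ≤ 3 ^ 1 := Nat.pow_le_pow_right (by norm_num)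
          (Nat.lt_succ_iff.1 ((Nat.pow_lt_pow_iff_right (by norm_num)).1 (show 3 ^ k < 3 ^ 2 by omega)))
      _ = 3 := pow_one 3
  nlinarith

end CfsgLib.RankFourThree
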