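import Cfsg.Agent.Lib.PGroup.RegularBasic
import Cfsg.Agent.Lib.PGroup.Basic

/-!
Power subgroups in groups with the first power condition (Kemhadze), and regular `2`-groups.
-/

set_option autoImplicit false

open Subgroup
open scoped commutatorElement

namespace CfsgLib.PGroup

variable {G : Type*} [Group G]

/-- The weak first power condition. -/
def FirstPowerCondition (p : ℕ) (G : Type*) [Group G] : Prop :=
  ∀ a b : G, ∃ c ∈ Cfsg.powerClosure p 1 ⁅closure ({a, b} : Set G), closure ({a, b} : Set G)⁆,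
    (a * b) ^ p = a ^ p * b ^ p * c

theorem powerClosure_mono {p n : ℕ} {H K : Subgroup G} (h : H ≤ K) :
    Cfsg.powerClosure p n H ≤ Cfsg.powerClosure p n K :=
  closure_mono fun _ ⟨x, hx, e⟩ => ⟨x, h hx, e⟩

theorem pow_mem_powerClosure {p n : ℕ} {H : Subgroup G} {x : G} (hx : x ∈ H) :
    x ^ p ^ n ∈ Cfsg.powerClosure p n H :=
  subset_closure ⟨x, hx, rfl⟩

theorem powerClosure_le_self {p n : ℕ} {H : Subgroup G} : Cfsg.powerClosure p n H ≤ H := by
  rw [Cfsg.powerClosure, closure_le]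
  rintro _ ⟨x, hx, rfl⟩
  exact pow_mem hx _

theorem conj_mem_powerClosure {p n : ℕ} {K : Subgroup G} {g x : G}
    (hg : ∀ k ∈ K, g * k * g⁻¹ ∈ K) (hx : x ∈ Cfsg.powerClosure p n K) :
    g * x * g⁻¹ ∈ Cfsg.powerClosure p n K := by
  have hle : Cfsg.powerClosure p n K ≤
      (Cfsg.powerClosure p n K).comap (MulAut.conj g).toMonoidHom := by
    conv_lhs => rw [Cfsg.powerClosure]
    rw [closure_le]
    rintro _ ⟨k, hk, rfl⟩
    show g * k ^ p ^ n * g⁻¹ ∈ Cfsg.powerClosure p n K
    rw [← conj_pow]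
    exact pow_mem_powerClosure (hg k hk)
  exact hle hx

theorem closure_pair_le {u v : G} {H : Subgroup G} (hu : u ∈ H) (hv : v ∈ H) :
    closure ({u, v} : Set G) ≤ H := by
  rw [closure_le]
  rintro z (rfl | rfl) <;> assumption

theorem conj_mem_commutator {H : Subgroup G} {g d : G} (hg : g ∈ H) (hd : d ∈ ⁅H, H⁆) :
    g * d * g⁻¹ ∈ ⁅H, H⁆ :=
  (Subgroup.le_normalizer_iff.1 (normalizer_commutator_ge_left H H)) g hg d hd

theorem closure_pair_card_lt [Finite G] {L H : Subgroup G} (hL : L < H) {u v : G} (hu : u ∈ L)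
    (hv : v ∈ L) : Nat.card (closure ({u, v} : Set G)) < Nat.card H :=
  lt_of_le_of_lt (card_le_of_le (closure_pair_le hu hv))
    (lt_of_le_of_ne (card_le_of_le hL.le) fun e => hL.ne (eq_of_le_of_card_ge hL.le e.ge))

/-- Products of `p`-th powers are `p`-th powers. -/
theorem mul_pow_exists [Finite G] {p : ℕ} [Fact p.Prime] (hG : IsPGroup p G)
    (h1 : FirstPowerCondition p G) (a b : G) :
    ∃ z ∈ closure ({a, b} : Set G), a ^ p * b ^ p = z ^ p := by
  suffices key : ∀ (m : ℕ) (a b : G), Nat.card (closure ({a, b} : Set G)) = m →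
      ∃ z ∈ closure ({a, b} : Set G), a ^ p * b ^ p = z ^ p from key _ a b rfl
  intro m
  induction m using Nat.strong_induction_on with
  | _ m ih =>
  intro a b hm
  set H := closure ({a, b} : Set G)
  have ha : a ∈ H := subset_closure (by simp)
  have hb : b ∈ H := subset_closure (by simp)
  by_cases hc : Commute a b
  · exact ⟨a * b, H.mul_mem ha hb, (hc.mul_pow p).symm⟩
  obtain ⟨c, hc', e⟩ := h1 a b
  have hlt := zpowers_sup_commutator_lt hG ha hb hc (H.mul_mem ha hb)
  have hDlt : ⁅H, H⁆ < H := lt_of_le_of_lt le_sup_right hlt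
  -- `c⁻¹` is a `p`-th power in the derived subgroup
  obtain ⟨d, hd, hd'⟩ : ∃ d ∈ ⁅H, H⁆, c⁻¹ = d ^ p := by
    have hmem := inv_mem hc'
    generalize c⁻¹ = c₀ at hmem ⊢
    rw [Cfsg.powerClosure] at hmem
    induction hmem using closure_induction with
    | mem y hy =>
      obtain ⟨x, hx, rfl⟩ := hy
      exact ⟨x, hx, by rw [pow_one]⟩
    | one => exact ⟨1, one_mem _, (one_pow p).symm⟩
    | mul y z _ _ hy hz =>
      obtain ⟨u, hu, rfl⟩ := hy
      obtain ⟨v, hv, rfl⟩ := hz
      obtain ⟨w, hw, e'⟩ := ih _ (hm ▸ closure_pair_card_lt hDlt hu hv) u v rfl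
      exact ⟨w, closure_pair_le hu hv hw, e'⟩
    | inv y _ hy =>
      obtain ⟨u, hu, rfl⟩ := hy
      exact ⟨u⁻¹, inv_mem hu, (inv_pow u p).symm⟩
  have hab : a * b ∈ zpowers (a * b) ⊔ ⁅H, H⁆ := mem_sup_left (mem_zpowers _)
  obtain ⟨z, hz, e'⟩ := ih _ (hm ▸ closure_pair_card_lt hlt hab (mem_sup_right hd)) (a * b) d rfl
  refine ⟨z, hlt.le (closure_pair_le hab (mem_sup_right hd) hz), ?_⟩
  rw [← e', ← hd', e, mul_inv_cancel_right]

/-- The `p^n`-th powers of a subgroup form a subgroup. -/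
theorem exists_pow_of_mem_powerClosure [Finite G] {p : ℕ} [Fact p.Prime] (hG : IsPGroup p G)
    (h1 : FirstPowerCondition p G) (n : ℕ) (H : Subgroup G) {y : G}
    (hy : y ∈ Cfsg.powerClosure p n H) : ∃ x ∈ H, y = x ^ p ^ n := by
  have key : ∀ (n : ℕ) (u v : G), ∃ z ∈ closure ({u, v} : Set G), u ^ p ^ n * v ^ p ^ n = z ^ p ^ n := by
    intro n
    induction n with
    | zero =>
      intro u v
      exact ⟨u * v, mul_mem (subset_closure (by simp)) (subset_closure (by simp)), by simp⟩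
    | succ n ih =>
      intro u v
      obtain ⟨z, hz, e⟩ := mul_pow_exists hG h1 (u ^ p ^ n) (v ^ p ^ n)
      -- `z` is itself a `p^n`-th power
      obtain ⟨w, hw, rfl⟩ : ∃ w ∈ closure ({u, v} : Set G), z = w ^ p ^ n := by
        have hu : u ∈ closure ({u, v} : Set G) := subset_closure (by simp)
        have hv : v ∈ closure ({u, v} : Set G) := subset_closure (by simp)
        have hS : ∀ x ∈ Cfsg.powerClosure p n (closure ({u, v} : Set G)),
            ∃ w ∈ closure ({u, v} : Set G), x = w ^ p ^ n := by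
          intro x hx
          rw [Cfsg.powerClosure] at hx
          induction hx using closure_induction with
          | mem y hy => exact hy
          | one => exact ⟨1, one_mem _, (one_pow _).symm⟩
          | mul y z _ _ hy hz =>
            obtain ⟨a, ha, rfl⟩ := hy
            obtain ⟨b, hb, rfl⟩ := hz
            obtain ⟨c, hc, e'⟩ := ih a b
            exact ⟨c, closure_pair_le ha hb hc, e'⟩
          | inv y _ hy =>
            obtain ⟨a, ha, rfl⟩ := hy
            exact ⟨a⁻¹, inv_mem ha, (inv_pow _ _).symm⟩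
        exact hS z (closure_pair_le (pow_mem_powerClosure hu) (pow_mem_powerClosure hv) hz)
      exact ⟨w, hw, by rw [pow_succ, pow_mul, pow_mul, e, ← pow_mul]⟩
  rw [Cfsg.powerClosure] at hy
  induction hy using closure_induction with
  | mem y hy => exact hy
  | one => exact ⟨1, one_mem _, (one_pow _).symm⟩
  | mul y z _ _ hy hz =>
    obtain ⟨u, hu, rfl⟩ := hy
    obtain ⟨v, hv, rfl⟩ := hz
    obtain ⟨w, hw, e⟩ := key n u v
    exact ⟨w, closure_pair_le hu hv hw, e⟩
  | inv y _ hy =>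
    obtain ⟨u, hu, rfl⟩ := hy
    exact ⟨u⁻¹, inv_mem hu, (inv_pow _ _).symm⟩

/-- The regular identity, and commutators of powers with elements. -/
theorem regular_aux [Finite G] {p : ℕ} [Fact p.Prime] (hG : IsPGroup p G)
    (h1 : FirstPowerCondition p G) (m : ℕ) : ∀ a b : G, Nat.card (closure ({a, b} : Set G)) = m →
    ∀ n : ℕ, (∃ c ∈ Cfsg.powerClosure p n ⁅closure ({a, b} : Set G), closure ({a, b} : Set G)⁆,
        (a * b) ^ p ^ n = a ^ p ^ n * b ^ p ^ n * c) ∧
      ⁅a ^ p ^ n, b⁆ ∈ Cfsg.powerClosure p n ⁅closure ({a, b} : Set G), closure ({a, b} : Set G)⁆ := by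
  induction m using Nat.strong_induction_on with
  | _ m ih =>
  -- commutators with powers
  have hC : ∀ x y : G, Nat.card (closure ({x, y} : Set G)) ≤ m → ∀ n : ℕ,
      ⁅x ^ p ^ n, y⁆ ∈ Cfsg.powerClosure p n ⁅closure ({x, y} : Set G), closure ({x, y} : Set G)⁆ := by
    intro x y hxy n
    rcases hxy.lt_or_eq with hlt | heq
    · exact (ih _ hlt x y rfl n).2
    set H := closure ({x, y} : Set G)
    have hx : x ∈ H := subset_closure (by simp)
    have hy : y ∈ H := subset_closure (by simp)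
    by_cases hc : Commute x y
    · rw [commutatorElement_eq_one_iff_commute.2 (hc.pow_left _)]
      exact one_mem _
    have hlt := zpowers_sup_commutator_lt hG hx hy hc hx
    set e := ⁅y, x⁆ with he
    have heD : e ∈ ⁅H, H⁆ := commutator_mem_commutator hy hx
    obtain ⟨⟨c, hc', heq'⟩, -⟩ := ih _ (heq ▸ closure_pair_card_lt hlt (mem_sup_right heD)
      (mem_sup_left (mem_zpowers x))) e x rfl n
    have hDD : ⁅closure ({e, x} : Set G), closure ({e, x} : Set G)⁆ ≤ ⁅H, H⁆ :=
      commutator_mono (closure_pair_le (hlt.le (mem_sup_right heD)) hx)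
        (closure_pair_le (hlt.le (mem_sup_right heD)) hx)
    have h3 : y * x ^ p ^ n * y⁻¹ = e ^ p ^ n * x ^ p ^ n * c := by
      rw [← heq', he, ← conj_pow]
      congr 1
      rw [commutatorElement_def]; group
    have h4 : ⁅x ^ p ^ n, y⁆ = x ^ p ^ n * c⁻¹ * (x ^ p ^ n)⁻¹ * (e ^ p ^ n)⁻¹ := by
      rw [commutatorElement_def,
        show x ^ p ^ n * y * (x ^ p ^ n)⁻¹ * y⁻¹ = x ^ p ^ n * (y * x ^ p ^ n * y⁻¹)⁻¹ by group, h3]
      group
    rw [h4]
    exact mul_mem (conj_mem_powerClosure (fun k hk => conj_mem_commutator (pow_mem hx _) hk)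
      (inv_mem (powerClosure_mono hDD hc'))) (inv_mem (pow_mem_powerClosure heD))
  intro a b hm n
  refine ⟨?_, hC a b hm.le n⟩
  set H := closure ({a, b} : Set G) with hH
  set D := ⁅H, H⁆ with hD
  have ha : a ∈ H := subset_closure (by simp)
  have hb : b ∈ H := subset_closure (by simp)
  induction n with
  | zero => exact ⟨1, one_mem _, by simp⟩
  | succ n ihn =>
    obtain ⟨C, hCmem, e⟩ := ihn
    have hDH : D ≤ H := commutator_le.2 fun u hu v hv =>
      mul_mem (mul_mem (mul_mem hu hv) (inv_mem hu)) (inv_mem hv)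
    have hCL : C ∈ Cfsg.powerClosure p n H := powerClosure_mono hDH hCmem
    have hLL : ⁅Cfsg.powerClosure p n H, Cfsg.powerClosure p n H⁆ ≤ Cfsg.powerClosure p n D := by
      rw [commutator_le]
      intro u hu v hv
      obtain ⟨x, hx, rfl⟩ := exists_pow_of_mem_powerClosure hG h1 n H hu
      have hvH : v ∈ H := powerClosure_le_self hv
      have hle := closure_pair_le hx hvH
      exact powerClosure_mono (commutator_mono hle hle)
        (hC x v (hm ▸ card_le_of_le hle) n)
    have hup : ∀ u ∈ Cfsg.powerClosure p n H, ∀ v ∈ Cfsg.powerClosure p n H,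
        ∀ c ∈ Cfsg.powerClosure p 1 ⁅closure ({u, v} : Set G), closure ({u, v} : Set G)⁆,
          c ∈ Cfsg.powerClosure p (n + 1) D := by
      intro u hu v hv c hc
      have h2 := powerClosure_mono ((commutator_mono (closure_pair_le hu hv)
        (closure_pair_le hu hv)).trans hLL) hc
      obtain ⟨x, hx, rfl⟩ := exists_pow_of_mem_powerClosure hG h1 1 _ h2
      obtain ⟨d, hd, rfl⟩ := exists_pow_of_mem_powerClosure hG h1 n _ hx
      rw [← pow_mul, ← pow_add]
      exact pow_mem_powerClosure hd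
    have hAL : a ^ p ^ n ∈ Cfsg.powerClosure p n H := pow_mem_powerClosure ha
    have hBL : b ^ p ^ n ∈ Cfsg.powerClosure p n H := pow_mem_powerClosure hb
    obtain ⟨c₁, hc₁, e₁⟩ := h1 (a ^ p ^ n * b ^ p ^ n) C
    obtain ⟨c₂, hc₂, e₂⟩ := h1 (a ^ p ^ n) (b ^ p ^ n)
    have hCp : C ^ p ∈ Cfsg.powerClosure p (n + 1) D := by
      obtain ⟨d, hd, rfl⟩ := exists_pow_of_mem_powerClosure hG h1 n _ hCmem
      rw [← pow_mul, ← pow_succ]
      exact pow_mem_powerClosure hd
    refine ⟨c₂ * C ^ p * c₁, mul_mem (mul_mem (hup _ hAL _ hBL _ hc₂) hCp)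
      (hup _ (mul_mem hAL hBL) _ hCL _ hc₁), ?_⟩
    rw [pow_succ, pow_mul, pow_mul, pow_mul, e, e₁, e₂]
    simp [mul_assoc]

theorem isRegular_of_firstPowerCondition [Finite G] {p : ℕ} [Fact p.Prime] (hG : IsPGroup p G)
    (h1 : FirstPowerCondition p G) : Cfsg.IsRegularPGroup p G :=
  ⟨hG, fun a b n => (regular_aux hG h1 _ a b rfl n).1⟩

theorem firstPowerCondition_of_regular {p : ℕ} (hG : Cfsg.IsRegularPGroup p G) :
    FirstPowerCondition p G := fun a b => by
  obtain ⟨c, hc, e⟩ := hG.2 a b 1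
  exact ⟨c, hc, by rwa [pow_one] at e⟩

theorem commutator_powerClosure_le [Finite G] {p : ℕ} [Fact p.Prime] (hG : IsPGroup p G)
    (h1 : FirstPowerCondition p G) (H : Subgroup G) (n : ℕ) :
    ⁅Cfsg.powerClosure p n H, Cfsg.powerClosure p n H⁆ ≤ Cfsg.powerClosure p n ⁅H, H⁆ := by
  rw [commutator_le]
  intro u hu v hv
  obtain ⟨x, hx, rfl⟩ := exists_pow_of_mem_powerClosure hG h1 n H hu
  have hle := closure_pair_le hx (powerClosure_le_self hv : v ∈ H)
  exact powerClosure_mono (commutator_mono hle hle) (regular_aux hG h1 _ x v rfl n).2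

/-- A regular `2`-group is abelian. -/
theorem commute_of_regular_two [Finite G] (hG : Cfsg.IsRegularPGroup 2 G) (a b : G) :
    Commute a b := by
  have : Fact (Nat.Prime 2) := ⟨Nat.prime_two⟩
  set H := closure ({a, b} : Set G)
  set D := ⁅H, H⁆
  set S := Cfsg.powerClosure 2 1 D
  have hconj : ∀ g ∈ H, ∀ x ∈ S, g * x * g⁻¹ ∈ S := fun g hg x hx =>
    conj_mem_powerClosure (fun k hk => conj_mem_commutator hg hk) hx
  obtain ⟨c, hc, e⟩ := hG.2 a b 1
  rw [pow_one, sq, sq, sq] at e
  have ha : a ∈ H := subset_closure (by simp)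
  have hb : b ∈ H := subset_closure (by simp)
  -- `b a = a b e` with `e ∈ S`
  have h2 : b * a * b = a * b * b * c := mul_left_cancel (a := a) (by
    calc a * (b * a * b) = a * b * (a * b) := by group
      _ = a * a * (b * b) * c := e
      _ = a * (a * b * b * c) := by group)
  have h3 : b * a = a * b * (b * c * b⁻¹) := by
    rw [← mul_inv_cancel_right (b * a) b, h2]; group
  have hab : ⁅a, b⁆ ∈ S := by
    have h4 : ⁅b, a⁆ ∈ S := by
      rw [commutatorElement_def, h3,
        show a * b * (b * c * b⁻¹) * b⁻¹ * a⁻¹ = (a * b) * (b * c * b⁻¹) * (a * b)⁻¹ by group]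
      exact hconj _ (mul_mem ha hb) _ (hconj b hb c hc)
    rw [← commutatorElement_inv]
    exact inv_mem h4
  have hDS : D ≤ S := commutator_closure_pair_le hconj hab
  have hle : S ≤ (frattini D).map D.subtype := by
    show closure {y : G | ∃ x ∈ D, y = x ^ 2 ^ 1} ≤ _
    rw [closure_le]
    rintro _ ⟨x, hx, rfl⟩
    exact ⟨(⟨x, hx⟩ : D) ^ 2, pow_mem_frattini (hG.1.to_subgroup D) _, by simp⟩
  have hD1 : D = ⊥ := by
    by_contra hne
    have : Nontrivial D := (nontrivial_iff_ne_bot D).2 hne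
    refine frattini_ne_top (G := D) (eq_top_iff.2 fun x _ => ?_)
    obtain ⟨y, hy, hye⟩ := hle (hDS x.2)
    rwa [← D.subtype_injective hye]
  rw [← commutatorElement_eq_one_iff_commute, ← mem_bot, ← hD1]
  exact commutator_mem_commutator ha hb

end CfsgLib.PGroup
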